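import Cfsg.Agent.Lib.FiTwentyTwoByTwo.Basic
import Cfsg.Agent.Lib.FiTwentyTwoByTwo.FrameFacts

/-!
# The centraliser `C(z)` with core `2² × 2^{1+8}`: standing data

`A` is the centre of the core, `Y = [A, c]` the four-group moved without fixed points by `c`.
-/

set_option autoImplicit false
set_option linter.unusedSectionVars false

namespace Cfsg.Agent.FiTwentyThreeByTwo

open Subgroup Cfsg.Agent.ThreeTransp.U62Cent Cfsg.Agent.FiTwentyTwoByTwo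

universe u' v

variable {G : Type u'} [Group G]

/-- the centre of the core -/
abbrev zA (z : G) : Subgroup G := centralizer (O2c z : Set G)

/-- the commutators of `c` with the centre of the core -/
def yGrp (z c : G) : Subgroup G := closure {x | ∃ a ∈ zA z, x = c * a * c⁻¹ * a⁻¹}

/-- the centraliser of `z` and of the four-group -/
abbrev cY (z c : G) : Subgroup G := centralizer ({z} : Set G) ⊓ centralizer (yGrp z c : Set G)

/-- standing data -/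
structure Setup (z c : G) : Prop where
  zz : z * z = 1
  z_ne : z ≠ 1
  z_mem : z ∈ O2c z
  card : Nat.card ↥(O2c z) = 2048
  sq : ∀ x ∈ O2c z, x * x = 1 ∨ x * x = z
  comm : ∀ x ∈ O2c z, ∀ y ∈ O2c z, x * y = y * x ∨ x * y = z * (y * x)
  cent : ∀ g, (∀ j ∈ O2c z, Commute g j) → g ∈ O2c z
  A_sq : ∀ a ∈ zA z, a * a = 1
  card_A : Nat.card ↥(zA z) = 8
  compl : ∃ E : Subgroup G, E ≤ O2c z ∧ Cfsg.IsExtraspecial 2 ↥E ∧ Nat.card ↥E = 512 ∧ z ∈ E ∧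
    ∀ x ∈ O2c z, ∃ a ∈ zA z, a * x ∈ E
  c_z : Commute c z
  c3 : c * (c * c) = 1
  c_ne : c ≠ 1
  c_J : ∀ x ∈ O2c z, Commute c x → x = 1 ∨ x = z
  c_mod : ∀ h, Commute h z → ∃ j ∈ O2c z, h * c * h⁻¹ = j * c ∨ h * c * h⁻¹ = j * c⁻¹
  c_outer : ∃ h, Commute h z ∧ ∃ j ∈ O2c z, h * c * h⁻¹ = j * c⁻¹

/-- the quotient of `C(z)` by `J⟨c⟩` -/
structure Top (z c : G) (S : Type v) [Group S] : Prop where
  simple : IsSimpleGroup S
  card : Nat.card S = 25920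
  card_aut : Nat.card (MulAut S) = 51840
  inj : Function.Injective (MulAut.conj : S →* MulAut S)
  hom : ∃ φ : ↥(centralizer ({z} : Set G)) →* MulAut S, Function.Surjective φ ∧
    ∀ h, φ h = 1 ↔ ∃ j ∈ O2c z, ∃ i : ℤ, (h : G) = j * c ^ i

variable [Finite G] {z c : G}

namespace Setup

variable (D : Setup z c)

include D

theorem z_inv : z⁻¹ = z := inv_eq_of_mul_eq_one_right D.zz

theorem mem_A {a : G} : a ∈ zA z ↔ ∀ j ∈ O2c z, Commute a j :=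
  mem_centralizer_iff.trans ⟨fun h j hj => (h j hj).symm, fun h j hj => (h j hj).eq.symm⟩

theorem A_le : zA z ≤ O2c z := fun _ ha => D.cent _ (D.mem_A.1 ha)

theorem z_A : z ∈ zA z := D.mem_A.2 fun _ hj => (commute_of_O2c hj).symm

theorem A_comm_J {a j : G} (ha : a ∈ zA z) (hj : j ∈ O2c z) : Commute a j := D.mem_A.1 ha j hj

theorem A_comm {a b : G} (ha : a ∈ zA z) (hb : b ∈ zA z) : Commute a b := D.A_comm_J ha (D.A_le hb)

theorem A_comm_z {a : G} (ha : a ∈ zA z) : Commute a z := commute_of_O2c (D.A_le ha)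

theorem A_inv {a : G} (ha : a ∈ zA z) : a⁻¹ = a := inv_eq_of_mul_eq_one_right (D.A_sq a ha)

theorem A_conj {h a : G} (hh : Commute h z) (ha : a ∈ zA z) : h * a * h⁻¹ ∈ zA z := by
  refine D.mem_A.2 fun j hj => ?_
  have := conj_commute h (D.A_comm_J ha (conj_O2c hh.inv_left hj))
  rwa [show h * (h⁻¹ * j * h⁻¹⁻¹) * h⁻¹ = j by group] at this

theorem c_inv : c⁻¹ = c * c := inv_eq_of_mul_eq_one_right D.c3

theorem c_cc {x : G} : c * (c * (c * x * c⁻¹) * c⁻¹) * c⁻¹ = x := by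
  calc c * (c * (c * x * c⁻¹) * c⁻¹) * c⁻¹ = c * (c * c) * x * (c * (c * c))⁻¹ := by group
    _ = x := by rw [D.c3]; group

theorem mvc_mul {a b : G} (ha : a ∈ zA z) (hb : b ∈ zA z) :
    c * (a * b) * c⁻¹ * (a * b)⁻¹ = (c * a * c⁻¹ * a⁻¹) * (c * b * c⁻¹ * b⁻¹) := by
  have h1 : Commute (c * b * c⁻¹ * b⁻¹) a⁻¹ :=
    D.A_comm (mul_mem (D.A_conj D.c_z hb) (inv_mem hb)) (inv_mem ha)
  calc c * (a * b) * c⁻¹ * (a * b)⁻¹ = c * a * c⁻¹ * ((c * b * c⁻¹ * b⁻¹) * a⁻¹) := by group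
    _ = c * a * c⁻¹ * (a⁻¹ * (c * b * c⁻¹ * b⁻¹)) := by rw [h1.eq]
    _ = _ := by group

theorem mem_Y {x : G} : x ∈ yGrp z c ↔ ∃ a ∈ zA z, x = c * a * c⁻¹ * a⁻¹ := by
  refine ⟨fun h => ?_, fun h => subset_closure h⟩
  induction h using closure_induction with
  | mem x hx => exact hx
  | one => exact ⟨1, one_mem _, by simp⟩
  | mul x y _ _ hx hy =>
    obtain ⟨a, ha, rfl⟩ := hx
    obtain ⟨b, hb, rfl⟩ := hy
    exact ⟨a * b, mul_mem ha hb, (D.mvc_mul ha hb).symm⟩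
  | inv x _ hx =>
    obtain ⟨a, ha, rfl⟩ := hx
    refine ⟨a, ha, ?_⟩
    exact D.A_inv (mul_mem (D.A_conj D.c_z ha) (inv_mem ha))

theorem Y_le : yGrp z c ≤ zA z := fun x hx => by
  obtain ⟨a, ha, rfl⟩ := D.mem_Y.1 hx
  exact mul_mem (D.A_conj D.c_z ha) (inv_mem ha)

theorem Y_sq {y : G} (hy : y ∈ yGrp z c) : y * y = 1 := D.A_sq y (D.Y_le hy)

theorem Y_inv {y : G} (hy : y ∈ yGrp z c) : y⁻¹ = y := D.A_inv (D.Y_le hy)

theorem Y_z {y : G} (hy : y ∈ yGrp z c) : Commute y z := D.A_comm_z (D.Y_le hy)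

theorem Y_J {y j : G} (hy : y ∈ yGrp z c) (hj : j ∈ O2c z) : Commute j y :=
  (D.A_comm_J (D.Y_le hy) hj).symm

theorem z_not_Y : z ∉ yGrp z c := by
  intro h
  obtain ⟨a, ha, e⟩ := D.mem_Y.1 h
  have e1 : c * a * c⁻¹ = z * a := by rw [e]; group
  have e2 : ∀ x, x ∈ zA z → c * (z * x) * c⁻¹ = z * (c * x * c⁻¹) := fun x _ => by
    rw [← mul_assoc, ← mul_assoc, ← mul_assoc, D.c_z.eq]
  have e3 : a = z * a := by
    calc a = c * (c * (c * a * c⁻¹) * c⁻¹) * c⁻¹ := D.c_cc.symm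
      _ = z * (z * (z * a)) := by rw [e1, e2 a ha, e1, e2 _ (mul_mem D.z_A ha), e2 a ha, e1]
      _ = z * a := by rw [← mul_assoc z z, D.zz, one_mul]
  exact D.z_ne (mul_eq_right.1 e3.symm)

theorem c_Y {y : G} (hy : y ∈ yGrp z c) : c * y * c⁻¹ ∈ yGrp z c := by
  obtain ⟨a, ha, rfl⟩ := D.mem_Y.1 hy
  exact D.mem_Y.2 ⟨c * a * c⁻¹, D.A_conj D.c_z ha, by group⟩

theorem c_Y_fix {y : G} (hy : y ∈ yGrp z c) (h : c * y * c⁻¹ = y) : y = 1 := by
  rcases D.c_J y (D.A_le (D.Y_le hy)) (mul_inv_eq_iff_eq_mul.1 h) with e | e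
  · exact e
  · exact absurd (e ▸ hy) D.z_not_Y

theorem card_Y : Nat.card ↥(yGrp z c) = 4 := by
  let f : ↥(zA z) →* ↥(yGrp z c) :=
    { toFun := fun a => ⟨c * a * c⁻¹ * (a : G)⁻¹, D.mem_Y.2 ⟨a, a.2, rfl⟩⟩
      map_one' := Subtype.ext (by simp)
      map_mul' := fun a b => Subtype.ext (D.mvc_mul a.2 b.2) }
  have hf : Function.Surjective f := fun y => by
    obtain ⟨a, ha, e⟩ := D.mem_Y.1 y.2
    exact ⟨⟨a, ha⟩, Subtype.ext e.symm⟩
  have hk : f.ker = zpowers ⟨z, D.z_A⟩ := by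
    ext ⟨a, ha⟩
    rw [MonoidHom.mem_ker, mem_zpowers_iff]
    constructor
    · intro h
      have h1 : c * a * c⁻¹ * a⁻¹ = 1 := congrArg Subtype.val h
      rcases D.c_J a (D.A_le ha) (mul_inv_eq_iff_eq_mul.1 (mul_inv_eq_one.1 h1)) with e | e
      · exact ⟨0, Subtype.ext (by simp [e])⟩
      · exact ⟨1, Subtype.ext (by simp [e])⟩
    · rintro ⟨k, hk⟩
      rw [← hk, map_zpow, show f ⟨z, D.z_A⟩ = 1 from Subtype.ext
        (show c * z * c⁻¹ * z⁻¹ = 1 by rw [D.c_z.eq]; group), one_zpow]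
  have h2 : orderOf (⟨z, D.z_A⟩ : ↥(zA z)) = 2 := by
    rw [Subgroup.orderOf_mk]
    exact orderOf_eq_prime (by rw [pow_two, D.zz]) D.z_ne
  have h := f.ker.card_eq_card_quotient_mul_card_subgroup
  rw [Nat.card_congr (QuotientGroup.quotientKerEquivOfSurjective f hf).toEquiv, hk, Nat.card_zpowers,
    h2, D.card_A] at h
  omega

/-- a nontrivial element of the four-group -/
theorem exists_y : ∃ y ∈ yGrp z c, y ≠ 1 := by
  by_contra h
  push Not at h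
  have := D.card_Y
  rw [show yGrp z c = ⊥ from eq_bot_iff.2 fun y hy => h y hy, card_bot] at this
  norm_num at this

theorem cy_ne {y : G} (hy : y ∈ yGrp z c) (h1 : y ≠ 1) : c * y * c⁻¹ ≠ y := fun e => h1 (D.c_Y_fix hy e)

theorem ccy_ne {y : G} (hy : y ∈ yGrp z c) (h1 : y ≠ 1) : c * (c * y * c⁻¹) * c⁻¹ ≠ y := fun e => by
  refine D.cy_ne hy h1 ?_
  conv_lhs => rw [← e]
  exact D.c_cc

theorem Y_cases {y x : G} (hy : y ∈ yGrp z c) (h1 : y ≠ 1) (hx : x ∈ yGrp z c) :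
    x = 1 ∨ x = y ∨ x = c * y * c⁻¹ ∨ x = c * (c * y * c⁻¹) * c⁻¹ := by
  by_contra hne
  push Not at hne
  have hcy : c * y * c⁻¹ ≠ 1 := fun e => h1 (by simpa using e)
  have hccy : c * (c * y * c⁻¹) * c⁻¹ ≠ 1 := fun e => hcy (by simpa using e)
  have h12 : c * y * c⁻¹ ≠ c * (c * y * c⁻¹) * c⁻¹ := fun e =>
    D.cy_ne (D.c_Y hy) hcy e.symm
  have hsub : (({1, y, c * y * c⁻¹, c * (c * y * c⁻¹) * c⁻¹, x} : Set G)) ⊆ (yGrp z c : Set G) := by
    rintro w (rfl | rfl | rfl | rfl | rfl)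
    exacts [one_mem _, hy, D.c_Y hy, D.c_Y (D.c_Y hy), hx]
  have h5 : (({1, y, c * y * c⁻¹, c * (c * y * c⁻¹) * c⁻¹, x} : Set G)).ncard = 5 := by
    rw [Set.ncard_insert_of_notMem, Set.ncard_insert_of_notMem, Set.ncard_insert_of_notMem,
      Set.ncard_insert_of_notMem, Set.ncard_singleton]
    · simpa using fun e => hne.2.2.2 e.symm
    · simp only [Set.mem_insert_iff, Set.mem_singleton_iff, not_or]
      exact ⟨h12, fun e => hne.2.2.1 e.symm⟩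
    · simp only [Set.mem_insert_iff, Set.mem_singleton_iff, not_or]
      exact ⟨(D.cy_ne hy h1).symm, (D.ccy_ne hy h1).symm, fun e => hne.2.1 e.symm⟩
    · simp only [Set.mem_insert_iff, Set.mem_singleton_iff, not_or]
      exact ⟨Ne.symm h1, hcy.symm, hccy.symm, fun e => hne.1 e.symm⟩
  have := Set.ncard_le_ncard hsub (Set.toFinite _)
  rw [h5, ← Nat.card_coe_set_eq, show Nat.card ↥((yGrp z c : Set G)) = 4 from D.card_Y] at this
  omega

/-- the third element -/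
theorem ccy_eq {y : G} (hy : y ∈ yGrp z c) (h1 : y ≠ 1) :
    c * (c * y * c⁻¹) * c⁻¹ = y * (c * y * c⁻¹) := by
  have hcy : c * y * c⁻¹ ≠ 1 := fun e => h1 (by simpa using e)
  rcases D.Y_cases hy h1 (mul_mem hy (D.c_Y hy)) with e | e | e | e
  · exact absurd (by rw [← inv_eq_of_mul_eq_one_right e, D.Y_inv hy]) (D.cy_ne hy h1)
  · exact absurd (mul_eq_left.1 e) hcy
  · exact absurd (mul_eq_right.1 e) h1
  · exact e.symm

/-- the elements of the centre of the core -/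
theorem A_cases {a : G} (ha : a ∈ zA z) : a ∈ yGrp z c ∨ z * a ∈ yGrp z c := by
  by_contra hne
  push Not at hne
  have hd : Disjoint ((yGrp z c : Set G)) ((z * ·) '' (yGrp z c : Set G)) := by
    refine Set.disjoint_left.2 ?_
    rintro x hx ⟨y, hy, rfl⟩
    refine D.z_not_Y ?_
    have := mul_mem hx (inv_mem hy)
    rwa [mul_inv_cancel_right] at this
  have hsub : insert a ((yGrp z c : Set G) ∪ (z * ·) '' (yGrp z c : Set G)) ⊆ (zA z : Set G) := by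
    rintro x (rfl | hx | ⟨y, hy, rfl⟩)
    exacts [ha, D.Y_le hx, mul_mem D.z_A (D.Y_le hy)]
  have hna : a ∉ (yGrp z c : Set G) ∪ (z * ·) '' (yGrp z c : Set G) := by
    rintro (h | ⟨y, hy, rfl⟩)
    · exact hne.1 h
    · exact hne.2 (by rwa [← mul_assoc, D.zz, one_mul])
  have := Set.ncard_le_ncard hsub (Set.toFinite _)
  rw [Set.ncard_insert_of_notMem hna (Set.toFinite _), Set.ncard_union_eq hd (Set.toFinite _) (Set.toFinite _),
    Set.ncard_image_of_injective _ (mul_right_injective z), ← Nat.card_coe_set_eq,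
    ← Nat.card_coe_set_eq (zA z : Set G),
    show Nat.card ↥((yGrp z c : Set G)) = 4 from D.card_Y,
    show Nat.card ↥((zA z : Set G)) = 8 from D.card_A] at this
  omega

theorem Y_conj {h y : G} (hh : Commute h z) (hy : y ∈ yGrp z c) : h * y * h⁻¹ ∈ yGrp z c := by
  obtain ⟨a, ha, rfl⟩ := D.mem_Y.1 hy
  obtain ⟨j, hj, e⟩ := D.c_mod h hh
  set b := h * a * h⁻¹ with hb
  have hbA : b ∈ zA z := D.A_conj hh ha
  have e0 : h * (c * a * c⁻¹ * a⁻¹) * h⁻¹ = (h * c * h⁻¹) * b * (h * c * h⁻¹)⁻¹ * b⁻¹ := by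
    rw [hb]; group
  have hj' : ∀ {w}, w ∈ zA z → j * w * j⁻¹ = w := fun hw => by
    rw [← (D.A_comm_J hw hj).eq, mul_inv_cancel_right]
  rw [e0]
  rcases e with e | e <;> rw [e]
  · refine D.mem_Y.2 ⟨b, hbA, ?_⟩
    rw [show j * c * b * (j * c)⁻¹ = j * (c * b * c⁻¹) * j⁻¹ by group, hj' (D.A_conj D.c_z hbA)]
  · have hc' : c⁻¹ * b * c ∈ zA z := by
      have := D.A_conj D.c_z.inv_left hbA
      rwa [inv_inv] at this
    rw [show j * c⁻¹ * b * (j * c⁻¹)⁻¹ = j * (c⁻¹ * b * c) * j⁻¹ by group, hj' hc']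
    have h1 := inv_mem (D.mem_Y.2 ⟨c⁻¹ * b * c, hc', rfl⟩)
    convert h1 using 1
    group

/-- the effect on the four-group of an element centralising `c` modulo the core -/
theorem conj_cY_of_mod {h j y : G} (hh : Commute h z) (hj : j ∈ O2c z) (e : h * c * h⁻¹ = j * c)
    (hy : y ∈ yGrp z c) : h * (c * y * c⁻¹) * h⁻¹ = c * (h * y * h⁻¹) * c⁻¹ := by
  calc h * (c * y * c⁻¹) * h⁻¹ = (h * c * h⁻¹) * (h * y * h⁻¹) * (h * c * h⁻¹)⁻¹ := by group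
    _ = j * (c * (h * y * h⁻¹) * c⁻¹) * j⁻¹ := by rw [e]; group
    _ = _ := by rw [(D.Y_J (D.c_Y (D.Y_conj hh hy)) hj).eq, mul_inv_cancel_right]

theorem mem_cY {h : G} : h ∈ cY z c ↔ Commute h z ∧ ∀ y ∈ yGrp z c, Commute h y :=
  and_congr mem_cent (mem_centralizer_iff.trans
    ⟨fun h y hy => (h y hy).symm, fun h y hy => (h y hy).eq.symm⟩)

theorem J_le_cY : O2c z ≤ cY z c := fun _ hj => D.mem_cY.2 ⟨commute_of_O2c hj, fun _ hy => D.Y_J hy hj⟩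

theorem A_le_cY {a : G} (ha : a ∈ zA z) : a ∈ cY z c := D.J_le_cY (D.A_le ha)

theorem commute_A {h a : G} (hh : h ∈ cY z c) (ha : a ∈ zA z) : Commute h a := by
  obtain ⟨hz, hY⟩ := D.mem_cY.1 hh
  rcases D.A_cases ha with e | e
  · exact hY a e
  · have := hz.mul_right (hY _ e)
    rwa [← mul_assoc, D.zz, one_mul] at this

theorem cY_conj {h x : G} (hh : Commute h z) (hx : x ∈ cY z c) : h * x * h⁻¹ ∈ cY z c := by
  obtain ⟨hz, hY⟩ := D.mem_cY.1 hx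
  refine D.mem_cY.2 ⟨(hh.mul_left hz).mul_left hh.inv_left, fun y hy => ?_⟩
  have h1 := D.Y_conj hh.inv_left hy
  rw [inv_inv] at h1
  have := conj_commute h (hY _ h1)
  rwa [show h * (h⁻¹ * y * h) * h⁻¹ = y by group] at this

/-- centralising `c` modulo the core and one element of the four-group -/
theorem mem_cY_of_fix {h j y : G} (hh : Commute h z) (hj : j ∈ O2c z) (e : h * c * h⁻¹ = j * c)
    (hy : y ∈ yGrp z c) (h1 : y ≠ 1) (hf : h * y * h⁻¹ = y) : h ∈ cY z c := by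
  have h2 : h * (c * y * c⁻¹) * h⁻¹ = c * y * c⁻¹ := by rw [D.conj_cY_of_mod hh hj e hy, hf]
  have h3 : h * (c * (c * y * c⁻¹) * c⁻¹) * h⁻¹ = c * (c * y * c⁻¹) * c⁻¹ := by
    rw [D.conj_cY_of_mod hh hj e (D.c_Y hy), h2]
  refine D.mem_cY.2 ⟨hh, fun x hx => mul_inv_eq_iff_eq_mul.1 ?_⟩
  rcases D.Y_cases hy h1 hx with rfl | rfl | rfl | rfl
  exacts [by group, hf, h2, h3]

/-- elements centralising the four-group centralise `c` modulo the core -/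
theorem cY_mod {h : G} (hh : h ∈ cY z c) : ∃ j ∈ O2c z, h * c * h⁻¹ = j * c := by
  obtain ⟨hz, hY⟩ := D.mem_cY.1 hh
  obtain ⟨j, hj, e | e⟩ := D.c_mod h hz
  · exact ⟨j, hj, e⟩
  exfalso
  obtain ⟨y, hy, h1⟩ := D.exists_y
  have h2 : h * (c * y * c⁻¹) * h⁻¹ = c * y * c⁻¹ := by
    rw [(hY _ (D.c_Y hy)).eq, mul_inv_cancel_right]
  have hc' : c⁻¹ * y * c = c * (c * y * c⁻¹) * c⁻¹ := by
    conv_lhs => rw [← D.c_cc (x := y)]
    group
  have h3 : h * (c * y * c⁻¹) * h⁻¹ = c * (c * y * c⁻¹) * c⁻¹ := by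
    calc h * (c * y * c⁻¹) * h⁻¹ = (h * c * h⁻¹) * (h * y * h⁻¹) * (h * c * h⁻¹)⁻¹ := by group
      _ = j * (c⁻¹ * y * c) * j⁻¹ := by rw [e, (hY y hy).eq, mul_inv_cancel_right]; group
      _ = _ := by rw [hc', (D.Y_J (D.c_Y (D.c_Y hy)) hj).eq, mul_inv_cancel_right]
  exact D.cy_ne (D.c_Y hy) (fun e => h1 (by simpa using e)) (h3.symm.trans h2)

/-- two nontrivial elements of the four-group are conjugate under a power of `c` -/
theorem class_Y {x y : G} (hy : y ∈ yGrp z c) (h1 : y ≠ 1) (hx : x ∈ yGrp z c) (hx1 : x ≠ 1) :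
    ∃ h, (∃ i : ℤ, h = c ^ i) ∧ Commute h z ∧ h * y * h⁻¹ = x := by
  rcases D.Y_cases hy h1 hx with e | e | e | e
  · exact absurd e hx1
  · exact ⟨1, ⟨0, (zpow_zero c).symm⟩, Commute.one_left z, by rw [e]; group⟩
  · exact ⟨c, ⟨1, (zpow_one c).symm⟩, D.c_z, e.symm⟩
  · exact ⟨c * c, ⟨2, (zpow_two c).symm⟩, D.c_z.mul_left D.c_z, by rw [e]; group⟩

/-- an element of `C(z, y)` inverting `c` modulo the core exchanges the other two -/
theorem exists_swap {y : G} (hy : y ∈ yGrp z c) (h1 : y ≠ 1) :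
    ∃ s, Commute s z ∧ Commute s y ∧ s * (c * y * c⁻¹) * s⁻¹ = y * (c * y * c⁻¹) := by
  obtain ⟨s, hs, j, hj, e⟩ := D.c_outer
  obtain ⟨k, ⟨i, hk⟩, hkz, hke⟩ := D.class_Y (D.Y_conj hs hy) (fun e' => h1 (by simpa using e')) hy h1
  refine ⟨k * s, hkz.mul_left hs, mul_inv_eq_iff_eq_mul.1 (Eq.trans (by group) hke), ?_⟩
  have hkc : k * c⁻¹ * k⁻¹ = c⁻¹ := by
    rw [hk, ((Commute.refl c).zpow_left i).inv_right.eq, mul_inv_cancel_right]
  have hc' : c⁻¹ * (s * y * s⁻¹) * c ∈ yGrp z c := by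
    have := D.Y_conj D.c_z.inv_left (D.Y_conj hs hy)
    rwa [inv_inv] at this
  calc k * s * (c * y * c⁻¹) * (k * s)⁻¹
      = k * ((s * c * s⁻¹) * (s * y * s⁻¹) * (s * c * s⁻¹)⁻¹) * k⁻¹ := by group
    _ = k * (j * (c⁻¹ * (s * y * s⁻¹) * c) * j⁻¹) * k⁻¹ := by rw [e]; group
    _ = k * (c⁻¹ * (s * y * s⁻¹) * c) * k⁻¹ := by rw [(D.Y_J hc' hj).eq, mul_inv_cancel_right]
    _ = (k * c⁻¹ * k⁻¹) * (k * (s * y * s⁻¹) * k⁻¹) * (k * c⁻¹ * k⁻¹)⁻¹ := by group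
    _ = c⁻¹ * y * c := by rw [hkc, hke, inv_inv]
    _ = c * (c * y * c⁻¹) * c⁻¹ := by
      conv_lhs => rw [← D.c_cc (x := y)]
      group
    _ = _ := D.ccy_eq hy h1

/-- an involution of `C(z)` fixes an element of the four-group, and inverts `c` unless it centralises it -/
theorem invol_fix {h : G} (hh : Commute h z) (h2 : h * h = 1) :
    ∃ y ∈ yGrp z c, y ≠ 1 ∧ Commute h y := by
  obtain ⟨y, hy, h1⟩ := D.exists_y
  have hi : h⁻¹ = h := inv_eq_of_mul_eq_one_right h2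
  have hm : h * y * h⁻¹ ∈ yGrp z c := D.Y_conj hh hy
  have he : h * (h * y * h⁻¹) * h⁻¹ = y := by
    calc h * (h * y * h⁻¹) * h⁻¹ = h * h * y * (h * h)⁻¹ := by group
      _ = y := by rw [h2]; group
  by_cases hf : h * y * h⁻¹ = y
  · exact ⟨y, hy, h1, mul_inv_eq_iff_eq_mul.1 hf⟩
  refine ⟨y * (h * y * h⁻¹), mul_mem hy hm, fun e => hf ?_, ?_⟩
  · rw [← inv_eq_of_mul_eq_one_right e, D.Y_inv hy]
  · refine mul_inv_eq_iff_eq_mul.1 ?_
    calc h * (y * (h * y * h⁻¹)) * h⁻¹ = (h * y * h⁻¹) * (h * (h * y * h⁻¹) * h⁻¹) := by group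
      _ = y * (h * y * h⁻¹) := by rw [he]; exact (D.A_comm (D.Y_le hm) (D.Y_le hy)).eq

theorem invol_inverts {h : G} (hh : Commute h z) (h2 : h * h = 1) (hn : h ∉ cY z c) :
    ∃ j ∈ O2c z, h * c * h⁻¹ = j * c⁻¹ := by
  obtain ⟨y, hy, h1, hf⟩ := D.invol_fix hh h2
  obtain ⟨j, hj, e | e⟩ := D.c_mod h hh
  · exact absurd (D.mem_cY_of_fix hh hj e hy h1 (by rw [hf.eq, mul_inv_cancel_right])) hn
  · exact ⟨j, hj, e⟩

/-- the centraliser in `C(z)` of an element of the centre of the core outside `⟨z⟩` -/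
theorem exists_rep {x : G} (hx : x ∈ zA z) (h1 : x ≠ 1) (hz : x ≠ z) :
    ∃ y ∈ yGrp z c, y ≠ 1 ∧ (x = y ∨ x = z * y) ∧ cH z x = cH z y := by
  rcases D.A_cases hx with e | e
  · exact ⟨x, e, h1, Or.inl rfl, rfl⟩
  · have hx' : z * (z * x) = x := by rw [← mul_assoc, D.zz, one_mul]
    refine ⟨z * x, e, fun e' => hz ?_, Or.inr hx'.symm, ?_⟩
    · rw [← inv_eq_of_mul_eq_one_right e', D.z_inv]
    · ext h
      rw [FiTwentyTwoByTwo.mem_cH, FiTwentyTwoByTwo.mem_cH]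
      refine ⟨fun ⟨a, b⟩ => ⟨a, a.mul_right b⟩, fun ⟨a, b⟩ => ⟨a, ?_⟩⟩
      have := a.mul_right b
      rwa [hx'] at this

end Setup

end Cfsg.Agent.FiTwentyThreeByTwo
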