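import Cfsg.Agent.Lib.FiTwentyThreeByTwo.Basic

/-!
# The standing data from the hypotheses
-/

set_option autoImplicit false
set_option linter.unusedSectionVars false

namespace Cfsg.Agent.FiTwentyThreeByTwo

open Subgroup Cfsg.Agent.ThreeTransp.U62Cent Cfsg.Agent.FiTwentyTwoByTwo
open scoped commutatorElement

universe u' v

variable {G : Type u'} [Group G] [Finite G] {z : G} {S : Type v} [Group S]

theorem zpow_mod_three {H : Type*} [Group H] {c : H} (h3 : c * (c * c) = 1) (i : ℤ) :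
    c ^ i = 1 ∨ c ^ i = c ∨ c ^ i = c⁻¹ := by
  have e : c ^ (3 : ℤ) = 1 := by
    rw [show (3 : ℤ) = 1 + (1 + 1) by norm_num, zpow_add, zpow_add, zpow_one]; exact h3
  rw [← Int.mul_ediv_add_emod i 3, zpow_add, zpow_mul, e, one_zpow, one_mul]
  rcases (show i % 3 = 0 ∨ i % 3 = 1 ∨ i % 3 = 2 by omega) with h | h | h <;> rw [h]
  · exact Or.inl (zpow_zero c)
  · exact Or.inr (Or.inl (zpow_one c))
  · refine Or.inr (Or.inr ?_)
    rw [zpow_two, inv_eq_of_mul_eq_one_right h3]

theorem orderOf_conj' {H : Type*} [Group H] (a b : H) : orderOf (a * b * a⁻¹) = orderOf b :=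
  MulEquiv.orderOf_eq (MulAut.conj a) b

set_option maxHeartbeats 1000000 in
theorem setup_of_hyp (hz : orderOf z = 2)
    {V E : Subgroup ↥(centralizer ({z} : Set G))}
    (hVE : Cfsg.IsInternalDirectProduct V E (Cfsg.pCore 2 ↥(centralizer ({z} : Set G))))
    (hV : Nat.card ↥V = 4) (hV2 : ∀ v ∈ V, v ^ 2 = 1)
    (hE : Cfsg.IsExtraspecial 2 ↥E) (hEc : Nat.card ↥E = 2 ^ 9)
    (hCJ : centralizer ((Cfsg.pCore 2 ↥(centralizer ({z} : Set G))) : Set ↥(centralizer ({z} : Set G))) ≤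
      Cfsg.pCore 2 ↥(centralizer ({z} : Set G)))
    {zc c : ↥(centralizer ({z} : Set G))} (hzc : (zc : G) = z) (hc : orderOf c = 3)
    [hJc : (Cfsg.pCore 2 ↥(centralizer ({z} : Set G)) ⊔ zpowers c).Normal]
    (e : (↥(centralizer ({z} : Set G)) ⧸ (Cfsg.pCore 2 ↥(centralizer ({z} : Set G)) ⊔ zpowers c)) ≃* MulAut S)
    [hcz : ((zpowers c ⊔ zpowers zc).subgroupOf
      (centralizer ({c} : Set ↥(centralizer ({z} : Set G))))).Normal]
    (e' : (↥(centralizer ({c} : Set ↥(centralizer ({z} : Set G)))) ⧸ (zpowers c ⊔ zpowers zc).subgroupOf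
      (centralizer ({c} : Set ↥(centralizer ({z} : Set G))))) ≃* S)
    (hsimp : IsSimpleGroup S) (hS : Nat.card S = 25920) (hA : Nat.card (MulAut S) = 51840)
    (hinj : Function.Injective (MulAut.conj : S →* MulAut S)) :
    Setup z (c : G) ∧ Top z (c : G) S := by
  classical
  haveI := hsimp
  haveI : Finite S := Nat.finite_of_card_ne_zero (by rw [hS]; norm_num)
  haveI : Fact (Nat.Prime 2) := ⟨Nat.prime_two⟩
  haveI : Fact (Nat.Prime 3) := ⟨Nat.prime_three⟩
  obtain ⟨hVP, hEP, hcommVE, hinf, hsup⟩ := hVE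
  haveI hPn : (Cfsg.pCore 2 ↥(centralizer ({z} : Set G))).Normal := inferInstance
  have hzz : z * z = 1 := by rw [← pow_two, ← hz]; exact pow_orderOf_eq_one z
  have hz1 : z ≠ 1 := fun h => by rw [h, orderOf_one] at hz; norm_num at hz
  have hzcC : ∀ x : ↥(centralizer ({z} : Set G)), zc * x = x * zc := fun x => Subtype.ext (by
    rw [Subgroup.coe_mul, Subgroup.coe_mul, hzc]; exact (mem_cent.1 x.2).eq.symm)
  have hzcP : zc ∈ (Cfsg.pCore 2 ↥(centralizer ({z} : Set G))) := hCJ (mem_centralizer_iff.2 fun j _ => (hzcC j).symm)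
  have hzc1 : zc ≠ 1 := fun h => hz1 (by rw [← hzc, h]; rfl)
  have hzc2 : zc * zc = 1 := Subtype.ext (by rw [Subgroup.coe_mul, hzc]; exact hzz)
  have hP2 : IsPGroup 2 ↥(Cfsg.pCore 2 ↥(centralizer ({z} : Set G))) := Cfsg.Agent.Cores.pCore_isPGroup 2
  have hc3 : c * (c * c) = 1 := by
    have := pow_orderOf_eq_one c
    rwa [hc, pow_succ, pow_two, mul_assoc] at this
  have hc1 : c ≠ 1 := fun h => by rw [h, orderOf_one] at hc; norm_num at hc
  have hcP : c ∉ (Cfsg.pCore 2 ↥(centralizer ({z} : Set G))) := fun h => by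
    obtain ⟨k, hk⟩ := IsPGroup.iff_orderOf.1 hP2 ⟨c, h⟩
    rw [Subgroup.orderOf_mk, hc] at hk
    have h2 : 3 ∣ 2 ^ k := hk ▸ dvd_refl 3
    exact absurd (Nat.prime_three.dvd_of_dvd_pow h2) (by norm_num)
  have hcpow : ∀ i : ℤ, c ^ i ∈ (Cfsg.pCore 2 ↥(centralizer ({z} : Set G))) → c ^ i = 1 := by
    intro i hi
    rcases zpow_mod_three hc3 i with h | h | h
    · exact h
    · rw [h] at hi; exact absurd hi hcP
    · rw [h] at hi; exact absurd (inv_mem_iff.1 hi) hcP
  -- decomposition of the core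
  have hVab : ∀ a ∈ V, ∀ b ∈ V, a * b = b * a := by
    intro a ha b hb
    have h : ∀ x ∈ V, x⁻¹ = x := fun x hx => inv_eq_of_mul_eq_one_right (by rw [← pow_two]; exact hV2 x hx)
    rw [← h (a * b) (mul_mem ha hb), _root_.mul_inv_rev, h a ha, h b hb]
  have hdec : ∀ x ∈ (Cfsg.pCore 2 ↥(centralizer ({z} : Set G))), ∃ v ∈ V, ∃ f ∈ E, x = v * f := by
    let M : Subgroup ↥(centralizer ({z} : Set G)) :=
      { carrier := {x | ∃ v ∈ V, ∃ f ∈ E, x = v * f}
        one_mem' := ⟨1, one_mem _, 1, one_mem _, (one_mul 1).symm⟩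
        mul_mem' := by
          rintro _ _ ⟨a, ha, f, hf, rfl⟩ ⟨b, hb, g, hg, rfl⟩
          exact ⟨a * b, mul_mem ha hb, f * g, mul_mem hf hg, by
            rw [mul_assoc a f, ← mul_assoc f b, ← hcommVE b hb f hf]; group⟩
        inv_mem' := by
          rintro _ ⟨a, ha, f, hf, rfl⟩
          exact ⟨a⁻¹, inv_mem ha, f⁻¹, inv_mem hf, by
            rw [_root_.mul_inv_rev, hcommVE _ (inv_mem ha) _ (inv_mem hf)]⟩ }
    intro x hx
    have hle : (Cfsg.pCore 2 ↥(centralizer ({z} : Set G))) ≤ M := by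
      rw [← hsup, sup_le_iff]
      exact ⟨fun a ha => ⟨a, ha, 1, one_mem _, (mul_one a).symm⟩,
        fun f hf => ⟨1, one_mem _, f, hf, (one_mul f).symm⟩⟩
    exact hle hx
  have hVc : ∀ v ∈ V, ∀ x ∈ (Cfsg.pCore 2 ↥(centralizer ({z} : Set G))), v * x = x * v := by
    intro v hv x hx
    obtain ⟨a, ha, f, hf, rfl⟩ := hdec x hx
    rw [← mul_assoc, hVab v hv a ha, mul_assoc, hcommVE v hv f hf, mul_assoc]
  -- the centre of the extraspecial part
  obtain ⟨x0, y0, hxy⟩ := extra_nonabelian hE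
  set w0 : ↥E := ⁅x0, y0⁆ with hw0
  have hw0c : w0 ∈ center ↥E := hE.1.2.2 ▸ commutator_mem_commutator (mem_top _) (mem_top _)
  have hw01 : w0 ≠ 1 := fun h => hxy (commutatorElement_eq_one_iff_mul_comm.1 h)
  have hEctr : ∀ w : ↥E, w ∈ center ↥E → w = 1 ∨ w = w0 := by
    intro w hw
    by_contra hne
    push Not at hne
    have hle : ({1, w0, w} : Set ↥E) ⊆ (center ↥E : Set ↥E) := by
      rintro x (rfl | rfl | rfl)
      exacts [one_mem _, hw0c, hw]
    have h4 := Set.ncard_le_ncard hle (Set.toFinite _)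
    rw [Set.ncard_insert_of_notMem (by
        rintro (h | h)
        exacts [hw01 h.symm, hne.1 (Eq.symm h)]) (Set.toFinite _),
      Set.ncard_pair hne.2.symm, ← Nat.card_coe_set_eq] at h4
    have h5 := hE.2
    exact absurd (h4.trans h5.le) (by norm_num)
  have hcommP : ∀ x ∈ (Cfsg.pCore 2 ↥(centralizer ({z} : Set G))), ∀ y ∈ (Cfsg.pCore 2 ↥(centralizer ({z} : Set G))), x * y = y * x ∨ x * y = (w0 : ↥(centralizer ({z} : Set G))) * (y * x) := by
    intro x hx y hy
    obtain ⟨a, ha, f, hf, rfl⟩ := hdec x hx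
    obtain ⟨b, hb, g, hg, rfl⟩ := hdec y hy
    have e1 : a * f * (b * g) = a * b * (f * g) := by
      rw [mul_assoc a f, ← mul_assoc f b, ← hcommVE b hb f hf]; group
    have e2 : b * g * (a * f) = a * b * (g * f) := by
      rw [mul_assoc b g, ← mul_assoc g a, ← hcommVE a ha g hg, hVab a ha b hb]; group
    rcases hEctr ⁅(⟨f, hf⟩ : ↥E), ⟨g, hg⟩⁆ (hE.1.2.2 ▸ commutator_mem_commutator (mem_top _) (mem_top _))
      with h | h
    · left
      have h' : f * g = g * f := congrArg Subtype.val (commutatorElement_eq_one_iff_mul_comm.1 h)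
      rw [e1, e2, h']
    · right
      have h' : f * g * f⁻¹ * g⁻¹ = (w0 : ↥(centralizer ({z} : Set G))) := congrArg Subtype.val h
      have hfg : f * g = (w0 : ↥(centralizer ({z} : Set G))) * (g * f) := by rw [← h']; group
      rw [e1, e2, hfg, ← mul_assoc (a * b), ← mul_assoc (w0 : ↥(centralizer ({z} : Set G))),
        hcommVE (a * b) (mul_mem ha hb) _ w0.2]
  -- only `1` and `z` are centralised by `c`
  have hcJ : ∀ x ∈ (Cfsg.pCore 2 ↥(centralizer ({z} : Set G))), c * x = x * c → x = 1 ∨ x = zc := by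
    intro x hx hcx
    set CC := centralizer ({c} : Set ↥(centralizer ({z} : Set G))) with hCC
    set N0 := (zpowers c ⊔ zpowers zc).subgroupOf CC with hN0
    set Q := ((Cfsg.pCore 2 ↥(centralizer ({z} : Set G))).subgroupOf CC).map (QuotientGroup.mk' N0) with hQ
    haveI : ((Cfsg.pCore 2 ↥(centralizer ({z} : Set G))).subgroupOf CC).Normal := hPn.subgroupOf CC
    haveI : Q.Normal := Normal.map inferInstance _ (QuotientGroup.mk'_surjective _)
    have hQ2 : IsPGroup 2 ↥(Q.map e'.toMonoidHom) :=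
      ((hP2.comap_of_injective CC.subtype CC.subtype_injective).map _).map _
    haveI : (Q.map e'.toMonoidHom).Normal := Normal.map inferInstance _ e'.surjective
    have hxC : x ∈ CC := mem_centralizer_singleton_iff.2 hcx.symm
    have hmem : e' (QuotientGroup.mk' N0 ⟨x, hxC⟩) ∈ Q.map e'.toMonoidHom :=
      mem_map_of_mem _ (mem_map_of_mem _ (mem_subgroupOf.2 hx))
    rcases (inferInstance : (Q.map e'.toMonoidHom).Normal).eq_bot_or_eq_top with h | h
    · rw [h, mem_bot, map_eq_one_iff _ e'.injective, QuotientGroup.mk'_apply, QuotientGroup.eq_one_iff,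
        mem_subgroupOf] at hmem
      haveI : (zpowers zc).Normal := ⟨fun n hn g => by
        obtain ⟨k, rfl⟩ := mem_zpowers_iff.1 hn
        have hcg : Commute zc g := hzcC g
        rw [← (hcg.zpow_left k).eq, mul_inv_cancel_right]
        exact zpow_mem (mem_zpowers zc) k⟩
      obtain ⟨_, ⟨i, rfl⟩, b, ⟨k, rfl⟩, hik⟩ := mem_sup_of_normal_right.1 hmem
      have hi : c ^ i ∈ (Cfsg.pCore 2 ↥(centralizer ({z} : Set G))) := by
        have : c ^ i = x * (zc ^ k)⁻¹ := by
          rw [eq_mul_inv_iff_mul_eq]; exact hik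
        rw [this]
        exact mul_mem hx (inv_mem (zpow_mem hzcP k))
      rw [show (fun n => c ^ n) i = c ^ i from rfl, hcpow i hi, one_mul] at hik
      rcases Int.even_or_odd k with ⟨m, rfl⟩ | ⟨m, rfl⟩
      · left
        refine (show x = _ from hik.symm).trans ?_
        show zc ^ (m + m) = 1
        rw [zpow_add, ← (Commute.refl zc).mul_zpow, hzc2, one_zpow]
      · right
        refine (show x = _ from hik.symm).trans ?_
        show zc ^ (2 * m + 1) = zc
        rw [zpow_add, zpow_mul, zpow_one, zpow_two, hzc2, one_zpow, one_mul]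
    · exfalso
      obtain ⟨k, hk⟩ := IsPGroup.iff_card.1 hQ2
      rw [h, card_top, hS] at hk
      have h2 : 3 ∣ 2 ^ k := hk ▸ (by norm_num)
      exact absurd (Nat.prime_three.dvd_of_dvd_pow h2) (by norm_num)
  have hwz : (w0 : ↥(centralizer ({z} : Set G))) = zc := by
    have hx' : c * (x0 : ↥(centralizer ({z} : Set G))) * c⁻¹ ∈ (Cfsg.pCore 2 ↥(centralizer ({z} : Set G))) := hPn.conj_mem _ (hEP x0.2) c
    have hy' : c * (y0 : ↥(centralizer ({z} : Set G))) * c⁻¹ ∈ (Cfsg.pCore 2 ↥(centralizer ({z} : Set G))) := hPn.conj_mem _ (hEP y0.2) c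
    have e1 : c * (x0 : ↥(centralizer ({z} : Set G))) * c⁻¹ * (c * (y0 : ↥(centralizer ({z} : Set G))) * c⁻¹) =
        (c * (w0 : ↥(centralizer ({z} : Set G))) * c⁻¹) * (c * (y0 : ↥(centralizer ({z} : Set G))) * c⁻¹ * (c * (x0 : ↥(centralizer ({z} : Set G))) * c⁻¹)) := by
      simp only [hw0, commutatorElement_def, Subgroup.coe_mul, InvMemClass.coe_inv]
      group
    have hw0' : (w0 : ↥(centralizer ({z} : Set G))) ≠ 1 := fun h => hw01 (Subtype.ext h)
    rcases hcommP _ hx' _ hy' with h | h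
    · exact absurd (conj_eq_one_iff.1 (mul_eq_right.1 (e1.symm.trans h))) hw0'
    · exact (hcJ _ (hEP w0.2) (mul_inv_eq_iff_eq_mul.1 (mul_right_cancel (e1.symm.trans h)))).resolve_left hw0'
  have hzE : zc ∈ E := hwz ▸ w0.2
  have hsqP : ∀ x ∈ (Cfsg.pCore 2 ↥(centralizer ({z} : Set G))), x * x = 1 ∨ x * x = zc := by
    intro x hx
    obtain ⟨a, ha, f, hf, rfl⟩ := hdec x hx
    have e1 : a * f * (a * f) = f * f := by
      rw [mul_assoc a f, ← mul_assoc f a, ← hcommVE a ha f hf, ← mul_assoc, ← mul_assoc,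
        ← pow_two, hV2 a ha, one_mul]
    rw [e1]
    rcases hEctr _ (extra_sq hE ⟨f, hf⟩) with h | h
    · exact Or.inl (congrArg Subtype.val h)
    · exact Or.inr ((congrArg Subtype.val h).trans hwz)
  -- move to the group
  have hmem : ∀ {x : G}, x ∈ O2c z ↔ ∃ h : x ∈ (centralizer ({z} : Set G)), (⟨x, h⟩ : ↥(centralizer ({z} : Set G))) ∈ (Cfsg.pCore 2 ↥(centralizer ({z} : Set G))) := fun {x} =>
    ⟨fun ⟨d, hd, ed⟩ => ed ▸ ⟨d.2, hd⟩, fun ⟨h, hx⟩ => ⟨⟨x, h⟩, hx, rfl⟩⟩
  have hzJ : z ∈ O2c z := ⟨zc, hzcP, hzc⟩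
  have hin : ∀ {x : ↥(centralizer ({z} : Set G))}, x ∈ (Cfsg.pCore 2 ↥(centralizer ({z} : Set G))) → (x : G) ∈ O2c z := fun {x} hx => ⟨x, hx, rfl⟩
  have hcenter : ∀ g : G, (∀ j ∈ O2c z, Commute g j) →
      ∃ v ∈ V, g = (v : G) ∨ g = z * (v : G) := by
    intro g hg
    have hgC : g ∈ (centralizer ({z} : Set G)) := mem_cent.2 (hg z hzJ)
    have hgP : (⟨g, hgC⟩ : ↥(centralizer ({z} : Set G))) ∈ (Cfsg.pCore 2 ↥(centralizer ({z} : Set G))) :=
      hCJ (mem_centralizer_iff.2 fun j hj => Subtype.ext (hg j (hin hj)).eq.symm)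
    obtain ⟨a, ha, f, hf, eaf⟩ := hdec _ hgP
    have hfc : (⟨f, hf⟩ : ↥E) ∈ center ↥E := by
      refine mem_center_iff.2 fun f' => Subtype.ext ?_
      show (f' : ↥(centralizer ({z} : Set G))) * f = f * f'
      have h : (⟨g, hgC⟩ : ↥(centralizer ({z} : Set G))) * f' = f' * ⟨g, hgC⟩ := Subtype.ext (hg _ (hin (hEP f'.2))).eq
      rw [eaf, mul_assoc, ← mul_assoc (f' : ↥(centralizer ({z} : Set G))) a, ← hcommVE a ha _ f'.2, mul_assoc] at h
      exact (mul_left_cancel h).symm
    refine ⟨a, ha, ?_⟩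
    rcases hEctr _ hfc with h | h
    · left
      rw [show f = 1 from congrArg Subtype.val h, mul_one] at eaf
      exact congrArg Subtype.val eaf
    · right
      rw [show f = zc from (congrArg Subtype.val h).trans hwz, ← hzcC a] at eaf
      have := congrArg Subtype.val eaf
      rwa [Subgroup.coe_mul, hzc] at this
  have hVA : ∀ v ∈ V, (v : G) ∈ zA z := fun v hv =>
    mem_centralizer_iff.2 fun j hj => by
      obtain ⟨hjC, hjP⟩ := hmem.1 hj
      exact congrArg Subtype.val (hVc v hv _ hjP).symm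
  have hzA : z ∈ zA z := mem_centralizer_iff.2 fun j hj => (commute_of_O2c hj).eq
  have hcA : Nat.card ↥(zA z) = 8 := by
    let f : ↥V × Bool → ↥(zA z) := fun p => ⟨(if p.2 then z else 1) * ((p.1 : ↥(centralizer ({z} : Set G))) : G), by
      cases p.2
      · simpa using hVA _ p.1.2
      · simpa using mul_mem hzA (hVA _ p.1.2)⟩
    have hb : Function.Bijective f := by
      constructor
      · rintro ⟨a, s⟩ ⟨b, t⟩ h
        have h' : (if s then z else 1) * ((a : ↥(centralizer ({z} : Set G))) : G) = (if t then z else 1) * ((b : ↥(centralizer ({z} : Set G))) : G) :=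
          congrArg Subtype.val h
        have hne : ∀ a' b' : ↥V, ((a' : ↥(centralizer ({z} : Set G))) : G) ≠ z * ((b' : ↥(centralizer ({z} : Set G))) : G) := by
          intro a' b' h
          have h2 : (a' : ↥(centralizer ({z} : Set G))) * (b' : ↥(centralizer ({z} : Set G)))⁻¹ = zc := Subtype.ext (by
            rw [Subgroup.coe_mul, h, hzc, InvMemClass.coe_inv]; group)
          have hm : (a' : ↥(centralizer ({z} : Set G))) * (b' : ↥(centralizer ({z} : Set G)))⁻¹ ∈ V :=
            mul_mem a'.2 (inv_mem b'.2)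
          rw [h2] at hm
          have : zc ∈ V ⊓ E := ⟨hm, hzE⟩
          rw [hinf, mem_bot] at this
          exact hzc1 this
        cases s <;> cases t <;> simp only [if_true, if_false, Bool.false_eq_true, one_mul] at h'
        · rw [show a = b from Subtype.ext (Subtype.ext h')]
        · exact absurd h' (hne a b)
        · exact absurd h'.symm (hne b a)
        · rw [show a = b from Subtype.ext (Subtype.ext (mul_left_cancel h'))]
      · rintro ⟨g, hg⟩
        obtain ⟨v, hv, h | h⟩ := hcenter g fun j hj => (mem_centralizer_iff.1 hg j hj).symm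
        · exact ⟨(⟨v, hv⟩, false), Subtype.ext (by simpa [f] using h.symm)⟩
        · exact ⟨(⟨v, hv⟩, true), Subtype.ext (by simpa [f] using h.symm)⟩
    rw [← Nat.card_eq_of_bijective f hb, Nat.card_prod, hV, Nat.card_eq_fintype_card, Fintype.card_bool]
  have hcardP : Nat.card ↥(Cfsg.pCore 2 ↥(centralizer ({z} : Set G))) = 2048 := by
    let f : ↥V × ↥E → ↥(Cfsg.pCore 2 ↥(centralizer ({z} : Set G))) := fun p => ⟨(p.1 : ↥(centralizer ({z} : Set G))) * p.2, mul_mem (hVP p.1.2) (hEP p.2.2)⟩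
    have hb : Function.Bijective f := by
      constructor
      · rintro ⟨a, x⟩ ⟨b, y⟩ h
        have h' : (a : ↥(centralizer ({z} : Set G))) * (x : ↥(centralizer ({z} : Set G))) = (b : ↥(centralizer ({z} : Set G))) * (y : ↥(centralizer ({z} : Set G))) := congrArg Subtype.val h
        have h2 : (b : ↥(centralizer ({z} : Set G)))⁻¹ * a = (y : ↥(centralizer ({z} : Set G))) * (x : ↥(centralizer ({z} : Set G)))⁻¹ := by
          rw [eq_mul_inv_iff_mul_eq, mul_assoc, h', inv_mul_cancel_left]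
        have hm : (y : ↥(centralizer ({z} : Set G))) * (x : ↥(centralizer ({z} : Set G)))⁻¹ ∈ E :=
          mul_mem y.2 (inv_mem x.2)
        rw [← h2] at hm
        have h3 : (b : ↥(centralizer ({z} : Set G)))⁻¹ * a ∈ V ⊓ E :=
          mem_inf.2 ⟨mul_mem (inv_mem b.2) a.2, hm⟩
        rw [hinf, mem_bot] at h3
        have hab : a = b := Subtype.ext (inv_mul_eq_one.1 h3).symm
        subst hab
        exact Prod.ext rfl (Subtype.ext (mul_left_cancel h'))
      · rintro ⟨x, hx⟩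
        obtain ⟨a, ha, g, hg, h⟩ := hdec x hx
        exact ⟨(⟨a, ha⟩, ⟨g, hg⟩), Subtype.ext h.symm⟩
    rw [← Nat.card_eq_of_bijective f hb, Nat.card_prod, hV, hEc]; norm_num
  -- conjugates of `c`
  have hmod : ∀ h : ↥(centralizer ({z} : Set G)), ∃ j ∈ (Cfsg.pCore 2 ↥(centralizer ({z} : Set G))), h * c * h⁻¹ = j * c ∨ h * c * h⁻¹ = j * c⁻¹ := by
    intro h
    have hm := hJc.conj_mem c (mem_sup_right (mem_zpowers c)) h
    obtain ⟨j, hj, _, ⟨i, rfl⟩, ej⟩ := mem_sup_of_normal_left.1 hm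
    refine ⟨j, hj, ?_⟩
    rcases zpow_mod_three hc3 i with ei | ei | ei <;>
      rw [show (fun n => c ^ n) i = c ^ i from rfl, ei] at ej
    · exfalso
      refine hcP ?_
      rw [show c = h⁻¹ * (h * c * h⁻¹) * h⁻¹⁻¹ by group, ← ej, mul_one]
      exact hPn.conj_mem j hj h⁻¹
    · exact Or.inl ej.symm
    · exact Or.inr ej.symm
  -- the orders
  have hK0 : Nat.card ↥((Cfsg.pCore 2 ↥(centralizer ({z} : Set G))) ⊔ zpowers c) = 2048 * 3 := by
    have h := Cfsg.Agent.Cores.card_sup_mul_card_inf (zpowers c) (Cfsg.pCore 2 ↥(centralizer ({z} : Set G)))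
    have hb : zpowers c ⊓ (Cfsg.pCore 2 ↥(centralizer ({z} : Set G))) = ⊥ := eq_bot_iff.2 fun x ⟨hx, hxP⟩ => by
      obtain ⟨i, rfl⟩ := mem_zpowers_iff.1 hx
      exact mem_bot.2 (hcpow i hxP)
    rw [hb, card_bot, mul_one, Nat.card_zpowers, hc, hcardP, sup_comm] at h
    rw [h]
  have hcardC : Nat.card ↥(centralizer ({z} : Set G)) = 51840 * (2048 * 3) := by
    rw [((Cfsg.pCore 2 ↥(centralizer ({z} : Set G))) ⊔ zpowers c).card_eq_card_quotient_mul_card_subgroup, Nat.card_congr e.toEquiv, hA, hK0]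
  have hout : ∃ h : ↥(centralizer ({z} : Set G)), ∃ j ∈ (Cfsg.pCore 2 ↥(centralizer ({z} : Set G))), h * c * h⁻¹ = j * c⁻¹ := by
    by_contra hno
    push Not at hno
    set K0 := (Cfsg.pCore 2 ↥(centralizer ({z} : Set G))) ⊔ zpowers c with hK0def
    have hcK : c ∈ K0 := mem_sup_right (mem_zpowers c)
    have hsyl : ∀ x : ↥K0, orderOf x = 3 → ¬ 3 ∣ (zpowers x).index := by
      intro x hx
      have h1 := (zpowers x).card_mul_index
      rw [Nat.card_zpowers, hx, hK0] at h1
      have : (zpowers x).index = 2048 := by omega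
      rw [this]; norm_num
    have hmove : ∀ h : ↥(centralizer ({z} : Set G)), ∃ p ∈ (Cfsg.pCore 2 ↥(centralizer ({z} : Set G))), p⁻¹ * h ∈ centralizer ({c} : Set ↥(centralizer ({z} : Set G))) := by
      intro h
      obtain ⟨j, hj, ej⟩ := hmod h
      have ej := ej.resolve_right (hno h j hj)
      have hc' : j * c ∈ K0 := mul_mem (mem_sup_left hj) hcK
      have ho' : orderOf (⟨j * c, hc'⟩ : ↥K0) = 3 := by
        rw [Subgroup.orderOf_mk, ← ej, orderOf_conj', hc]
      have ho : orderOf (⟨c, hcK⟩ : ↥K0) = 3 := by rw [Subgroup.orderOf_mk, hc]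
      have hp : ∀ x : ↥K0, orderOf x = 3 → IsPGroup 3 ↥(zpowers x) := fun x hx =>
        IsPGroup.of_card (n := 1) (by rw [Nat.card_zpowers, hx, pow_one])
      let S1 : Sylow 3 ↥K0 := (hp _ ho).toSylow (hsyl _ ho)
      let S2 : Sylow 3 ↥K0 := (hp _ ho').toSylow (hsyl _ ho')
      obtain ⟨k, hk⟩ := MulAction.exists_smul_eq ↥K0 S1 S2
      have hk' : k * ⟨c, hcK⟩ * k⁻¹ ∈ zpowers (⟨j * c, hc'⟩ : ↥K0) := by
        show _ ∈ (S2 : Subgroup ↥K0)
        rw [← hk, Sylow.coe_subgroup_smul]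
        exact ⟨⟨c, hcK⟩, mem_zpowers _, rfl⟩
      obtain ⟨i, hi⟩ := mem_zpowers_iff.1 hk'
      obtain ⟨p, hp', _, ⟨l, rfl⟩, hpl⟩ := mem_sup_of_normal_left.1 k.2
      have hkc : (k : ↥(centralizer ({z} : Set G))) * c * (k : ↥(centralizer ({z} : Set G)))⁻¹ = p * c * p⁻¹ := by
        rw [← hpl, show (fun n => c ^ n) l = c ^ l from rfl]
        calc p * c ^ l * c * (p * c ^ l)⁻¹ = p * (c ^ l * c * (c ^ l)⁻¹) * p⁻¹ := by group
          _ = _ := by rw [((Commute.refl c).zpow_left l).eq, mul_inv_cancel_right]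
      have hi' : (j * c) ^ i = p * c * p⁻¹ := by
        rw [← hkc]
        exact congrArg Subtype.val hi
      have h3' : j * c * (j * c * (j * c)) = 1 := by
        have := pow_orderOf_eq_one (j * c)
        rw [← ej, orderOf_conj', hc, pow_succ, pow_two, mul_assoc, ej] at this
        exact this
      rcases zpow_mod_three h3' i with ei | ei | ei <;> rw [ei] at hi'
      · exact absurd (conj_eq_one_iff.1 hi'.symm) hc1
      · refine ⟨p, hp', mem_centralizer_singleton_iff.2 ?_⟩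
        have e1 : p⁻¹ * h * c * (p⁻¹ * h)⁻¹ = c := by
          rw [show p⁻¹ * h * c * (p⁻¹ * h)⁻¹ = p⁻¹ * (h * c * h⁻¹) * p by group, ej, hi']; group
        exact mul_inv_eq_iff_eq_mul.1 e1
      · exfalso
        refine hcP ?_
        have hcp : p * (c * p⁻¹ * c⁻¹) ∈ (Cfsg.pCore 2 ↥(centralizer ({z} : Set G))) := mul_mem hp' (hPn.conj_mem _ (inv_mem hp') c)
        rw [show c = p * (c * p⁻¹ * c⁻¹) * (c * j * c⁻¹) by
          rw [← mul_assoc p, ← mul_assoc p, ← hi', _root_.mul_inv_rev]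
          calc c = c⁻¹ * c⁻¹ := by rw [inv_eq_of_mul_eq_one_right hc3]; rw [show c * c * (c * c) = c * (c * (c * c)) by group, hc3, mul_one]
            _ = _ := by group]
        exact mul_mem hcp (hPn.conj_mem j hj c)
    -- counting
    let θ := (QuotientGroup.mk' (Cfsg.pCore 2 ↥(centralizer ({z} : Set G)))).comp (centralizer ({c} : Set ↥(centralizer ({z} : Set G)))).subtype
    have hθ : Function.Surjective θ := fun q => by
      obtain ⟨h, rfl⟩ := QuotientGroup.mk'_surjective (Cfsg.pCore 2 ↥(centralizer ({z} : Set G))) q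
      obtain ⟨p, hp, hph⟩ := hmove h
      refine ⟨⟨p⁻¹ * h, hph⟩, ?_⟩
      show QuotientGroup.mk' (Cfsg.pCore 2 ↥(centralizer ({z} : Set G))) (p⁻¹ * h) = QuotientGroup.mk' (Cfsg.pCore 2 ↥(centralizer ({z} : Set G))) h
      rw [map_mul, map_inv, show QuotientGroup.mk' (Cfsg.pCore 2 ↥(centralizer ({z} : Set G))) p = 1 from (QuotientGroup.eq_one_iff p).2 hp,
        inv_one, one_mul]
    have hker : 2 ≤ Nat.card ↥θ.ker := by
      have hzC : zc ∈ centralizer ({c} : Set ↥(centralizer ({z} : Set G))) := mem_centralizer_singleton_iff.2 (hzcC c)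
      have hm : (⟨zc, hzC⟩ : ↥(centralizer ({c} : Set ↥(centralizer ({z} : Set G))))) ∈ θ.ker := (QuotientGroup.eq_one_iff zc).2 hzcP
      have h2 := θ.ker.orderOf_dvd_natCard hm
      rw [Subgroup.orderOf_mk, orderOf_eq_prime (by rw [pow_two, hzc2]) hzc1] at h2
      exact Nat.le_of_dvd Nat.card_pos h2
    have h1 := θ.ker.card_eq_card_quotient_mul_card_subgroup
    rw [Nat.card_congr (QuotientGroup.quotientKerEquivOfSurjective θ hθ).toEquiv] at h1
    have h2 := (Cfsg.pCore 2 ↥(centralizer ({z} : Set G))).card_eq_card_quotient_mul_card_subgroup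
    rw [hcardP, hcardC] at h2
    have h3 := ((zpowers c ⊔ zpowers zc).subgroupOf
      (centralizer ({c} : Set ↥(centralizer ({z} : Set G))))).card_eq_card_quotient_mul_card_subgroup
    rw [Nat.card_congr e'.toEquiv, hS] at h3
    haveI : (zpowers zc).Normal := ⟨fun n hn g => by
      obtain ⟨k, rfl⟩ := mem_zpowers_iff.1 hn
      have hcg : Commute zc g := hzcC g
      rw [← (hcg.zpow_left k).eq, mul_inv_cancel_right]
      exact zpow_mem (mem_zpowers zc) k⟩
    have h4 : Nat.card ↥((zpowers c ⊔ zpowers zc).subgroupOf (centralizer ({c} : Set ↥(centralizer ({z} : Set G))))) ≤ 6 := by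
      refine le_trans (Nat.card_le_card_of_injective (fun x =>
        (⟨((x : ↥(centralizer ({c} : Set ↥(centralizer ({z} : Set G))))) : ↥(centralizer ({z} : Set G))), mem_subgroupOf.1 x.2⟩ : ↥(zpowers c ⊔ zpowers zc)))
        fun x y h => Subtype.ext (Subtype.ext (Subtype.mk.inj h))) ?_
      have := Cfsg.Agent.Cores.card_sup_dvd_mul (zpowers c) (zpowers zc)
      rw [Nat.card_zpowers, Nat.card_zpowers, hc, orderOf_eq_prime (by rw [pow_two, hzc2]) hzc1] at this
      exact Nat.le_of_dvd (by norm_num) this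
    nlinarith
  refine ⟨⟨hzz, hz1, hzJ, ?_, ?_, ?_, ?_, ?_, hcA, ?_, mem_cent.1 c.2, ?_, ?_, ?_, ?_, ?_⟩,
    ⟨hsimp, hS, hA, hinj, ?_⟩⟩
  · rw [card_map_of_injective (centralizer ({z} : Set G)).subtype_injective]; exact hcardP
  · intro x hx
    obtain ⟨h, hx⟩ := hmem.1 hx
    exact (hsqP _ hx).imp (congrArg Subtype.val) fun ex => (congrArg Subtype.val ex).trans hzc
  · intro x hx y hy
    obtain ⟨h, hx⟩ := hmem.1 hx
    obtain ⟨h', hy⟩ := hmem.1 hy
    refine (hcommP _ hx _ hy).imp (congrArg Subtype.val) fun ex => ?_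
    have := congrArg Subtype.val ex
    rw [hwz, Subgroup.coe_mul, Subgroup.coe_mul, hzc] at this
    exact this
  · intro g hg
    obtain ⟨v, hv, rfl | rfl⟩ := hcenter g hg
    exacts [hin (hVP hv), mul_mem hzJ (hin (hVP hv))]
  · intro a ha
    obtain ⟨v, hv, rfl | rfl⟩ := hcenter a fun j hj => (mem_centralizer_iff.1 ha j hj).symm
    · rw [← Subgroup.coe_mul, ← pow_two, hV2 v hv]; rfl
    · have hzv : Commute z (v : G) := (mem_cent.1 v.2).symm
      rw [hzv.symm.mul_mul_mul_comm, hzz, one_mul, ← Subgroup.coe_mul, ← pow_two, hV2 v hv]; rfl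
  · refine ⟨E.map (centralizer ({z} : Set G)).subtype, map_mono hEP,
      Cfsg.Agent.LargeExtra.isExtraspecial_of_equiv hE (E.equivMapOfInjective (centralizer ({z} : Set G)).subtype (centralizer ({z} : Set G)).subtype_injective),
      by rw [card_map_of_injective (centralizer ({z} : Set G)).subtype_injective, hEc]; norm_num, ⟨zc, hzE, hzc⟩, fun x hx => ?_⟩
    obtain ⟨h, hx⟩ := hmem.1 hx
    obtain ⟨a, ha, f, hf, ef⟩ := hdec _ hx
    refine ⟨((a⁻¹ : ↥(centralizer ({z} : Set G))) : G), hVA _ (inv_mem ha), f, hf, ?_⟩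
    have := congrArg (fun w => ((a⁻¹ * w : ↥(centralizer ({z} : Set G))) : G)) ef
    simp only [inv_mul_cancel_left, Subgroup.coe_mul] at this
    exact this.symm
  · have := congrArg Subtype.val hc3
    simpa using this
  · exact fun h => hc1 (Subtype.ext h)
  · intro x hx hcx
    obtain ⟨h, hx⟩ := hmem.1 hx
    exact (hcJ _ hx (Subtype.ext hcx)).imp (congrArg Subtype.val) fun ex => (congrArg Subtype.val ex).trans hzc
  · intro h hh
    obtain ⟨j, hj, ej⟩ := hmod ⟨h, mem_cent.2 hh⟩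
    exact ⟨j, hin hj, ej.imp (congrArg Subtype.val) (congrArg Subtype.val)⟩
  · obtain ⟨h, j, hj, ej⟩ := hout
    exact ⟨h, mem_cent.1 h.2, j, hin hj, congrArg Subtype.val ej⟩
  · refine ⟨e.toMonoidHom.comp (QuotientGroup.mk' _), e.surjective.comp (QuotientGroup.mk'_surjective _),
      fun h => ?_⟩
    show e (QuotientGroup.mk' _ h) = 1 ↔ _
    rw [map_eq_one_iff e e.injective, QuotientGroup.mk'_apply, QuotientGroup.eq_one_iff, mem_sup_of_normal_left]
    constructor
    · rintro ⟨j, hj, _, ⟨i, rfl⟩, ej⟩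
      exact ⟨j, hin hj, i, by rw [← ej]; simp⟩
    · rintro ⟨j, ⟨j', hj', rfl⟩, i, ej⟩
      exact ⟨j', hj', c ^ i, zpow_mem (mem_zpowers c) i, Subtype.ext (by simpa using ej.symm)⟩

end Cfsg.Agent.FiTwentyThreeByTwo
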