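import Cfsg.Agent.Lib.FiTwentyThreeByTwo.Core

/-!
# Odd subgroups normalised by the centraliser of an involution in the core
-/

set_option autoImplicit false
set_option linter.unusedSectionVars false

namespace Cfsg.Agent.FiTwentyThreeByTwo

open Subgroup Cfsg.Agent.ThreeTransp.U62Cent Cfsg.Agent.FiTwentyTwoByTwo

universe u'

variable {G : Type u'} [Group G] [Finite G] {z c : G}

/-- the property of `x` passes to its conjugates under `C(z)` -/
theorem TI_conj {x h : G} (hT : TI z x) (hh : Commute h z) : TI z (h * x * h⁻¹) := by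
  intro g hg
  have hg' : Commute (h⁻¹ * g * h) x := by
    have := conj_commute h⁻¹ hg
    rwa [show h⁻¹ * (h * x * h⁻¹) * h⁻¹⁻¹ = x by group, inv_inv] at this
  obtain ⟨k, o, hkz, hkx, ho, e⟩ := hT _ hg'
  refine ⟨h * k * h⁻¹, h * o * h⁻¹, (hh.mul_left hkz).mul_left hh.inv_left, conj_commute h hkx, ?_, ?_⟩
  · set x' := h * x * h⁻¹ with hx'
    let φ : ↥(centralizer ({x} : Set G)) →* ↥(centralizer ({x'} : Set G)) :=
      { toFun := fun w => ⟨h * w * h⁻¹, mem_cent.2 (conj_commute h (mem_cent.1 w.2))⟩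
        map_one' := Subtype.ext (by simp)
        map_mul' := fun a b => Subtype.ext (by simp [mul_assoc]) }
    have hφ : Function.Surjective φ := fun w => by
      refine ⟨⟨h⁻¹ * w * h, mem_cent.2 ?_⟩, Subtype.ext ?_⟩
      · have := conj_commute h⁻¹ (mem_cent.1 w.2)
        rwa [show h⁻¹ * x' * h⁻¹⁻¹ = x by rw [hx']; group, inv_inv] at this
      · show h * (h⁻¹ * (w : G) * h) * h⁻¹ = w
        group
    obtain ⟨o', ho', rfl⟩ := ho
    exact ⟨φ o', Cfsg.Agent.Cores.map_pPrimeCore_le hφ 2 (mem_map_of_mem φ ho'), rfl⟩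
  · calc g = h * (h⁻¹ * g * h) * h⁻¹ := by group
      _ = _ := by rw [e]; group

namespace Setup

variable (D : Setup z c)

include D

/-- An odd subgroup of `C(z, x)` normalised by the centraliser of the involution `x` in the core is
trivial. -/
theorem odd_trivial {x : G} (hx2 : x * x = 1) (hxz : Commute x z) {Q : Subgroup G}
    (hodd : Odd (Nat.card ↥Q)) (hQz : ∀ q ∈ Q, Commute q z) (hQx : ∀ q ∈ Q, Commute q x)
    (hn : ∀ j ∈ O2c z, Commute j x → ∀ q ∈ Q, j * q * j⁻¹ ∈ Q) : Q = ⊥ := by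
  haveI : Fact (Nat.Prime 2) := ⟨Nat.prime_two⟩
  have hJ : IsPGroup 2 ↥(O2c z) := IsPGroup.of_card (n := 11) (by rw [D.card]; norm_num)
  have hP : IsPGroup 2 ↥(zpowers x) := fun y => ⟨1, by
    obtain ⟨k, hk⟩ := mem_zpowers_iff.1 y.2
    refine Subtype.ext ?_
    rw [SubgroupClass.coe_pow, ← hk, pow_one, pow_two, ← (Commute.refl x).mul_zpow, hx2, one_zpow]
    rfl⟩
  have hnJ : ∀ {q}, Commute q z → q ∈ normalizer (O2c z : Set G) := fun {q} hq =>
    mem_normalizer_iff.2 fun j => ⟨fun hj => conj_O2c hq hj, fun hj => by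
      have := conj_O2c hq.inv_left hj
      simpa [mul_assoc] using this⟩
  have hcap : ∀ w ∈ Q, w ∈ O2c z → w = 1 := by
    intro w hw hwJ
    by_contra hne
    have h1 : orderOf (⟨w, hwJ⟩ : ↥(O2c z)) ≠ 1 := fun e =>
      hne (congrArg Subtype.val (orderOf_eq_one_iff.1 e))
    obtain ⟨k, hk⟩ := IsPGroup.iff_orderOf.1 hJ (⟨w, hwJ⟩ : ↥(O2c z))
    have hd : orderOf w ∣ Nat.card ↥Q := Q.orderOf_dvd_natCard hw
    rw [Subgroup.orderOf_mk] at hk h1
    rw [hk] at hd h1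
    have hk0 : k ≠ 0 := fun e => h1 (by rw [e, pow_zero])
    exact Nat.not_even_iff_odd.2 hodd (even_iff_two_dvd.2 ((dvd_pow_self 2 hk0).trans hd))
  have h := Cfsg.Agent.Coprime.le_centralizer_of_pxq hP (Nat.coprime_two_right.2 hodd) hJ
    (zpowers_le.2 (mem_centralizer_iff.2 fun q hq => (hQx q hq).eq))
    (zpowers_le.2 (hnJ hxz)) (fun q hq => hnJ (hQz q hq)) (by
      rintro j ⟨hj, hjP⟩
      refine mem_centralizer_iff.2 fun q hq => ?_
      have hjx : Commute j x := (mem_centralizer_iff.1 hjP x (mem_zpowers x)).symm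
      have h1 : q * j * q⁻¹ * j⁻¹ ∈ O2c z := mul_mem (conj_O2c (hQz q hq) hj) (inv_mem hj)
      have h2 : q * j * q⁻¹ * j⁻¹ ∈ Q := by
        rw [show q * j * q⁻¹ * j⁻¹ = q * (j * q⁻¹ * j⁻¹) by group]
        exact mul_mem hq (hn j hj hjx _ (inv_mem hq))
      exact mul_inv_eq_iff_eq_mul.1 (mul_inv_eq_one.1 (hcap _ h2 h1)))
  refine eq_bot_iff.2 fun q hq => ?_
  exact hcap q hq (D.cent q fun j hj => (mem_centralizer_iff.1 (h hq) j hj).symm)

/-- If `C(x) = C(z, x) O(C(x))` for the conjugate `x ↦ g x g⁻¹`, `z ↦ g z g⁻¹`, both in `C(z)`, then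
the latter is centralised by the centraliser of the former in `C(z)`. -/
theorem cent_conj {x g : G} (hT : TI z x) (hzx : Commute z x) (hx2 : x * x = 1)
    (hvz : Commute (g * x * g⁻¹) z) (haz : Commute (g * z * g⁻¹) z)
    {h : G} (hhz : Commute h z) (hhv : Commute h (g * x * g⁻¹)) : Commute h (g * z * g⁻¹) := by
  set v := g * x * g⁻¹ with hv
  set a := g * z * g⁻¹ with ha
  have hinv : ∀ {d}, Commute d v → Commute (g⁻¹ * d * g) x := fun {d} hd => by
    have := conj_commute g⁻¹ hd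
    rwa [hv, show g⁻¹ * (g * x * g⁻¹) * g⁻¹⁻¹ = x by group, inv_inv] at this
  let O : Subgroup G := (oCore x).map (MulAut.conj g).toMonoidHom
  have hO : ∀ {o}, o ∈ O → Commute o v ∧ ∀ {d}, Commute d v → d * o * d⁻¹ ∈ O := by
    rintro _ ⟨o, ho, rfl⟩
    refine ⟨conj_commute g (oCore_le x ho), fun {d} hd => ⟨_, oCore_conj (hinv hd) ho, ?_⟩⟩
    show g * (g⁻¹ * d * g * o * (g⁻¹ * d * g)⁻¹) * g⁻¹ = d * (g * o * g⁻¹) * d⁻¹
    group
  let Q : Subgroup G := O ⊓ centralizer ({z} : Set G)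
  have hQ : Q = ⊥ := by
    refine D.odd_trivial (x := v) ?_ hvz ?_ (fun q hq => mem_cent.1 hq.2)
      (fun q hq => (hO hq.1).1) fun j hj hjv q hq => ⟨(hO hq.1).2 hjv, ?_⟩
    · rw [hv, show g * x * g⁻¹ * (g * x * g⁻¹) = g * (x * x) * g⁻¹ by group, hx2]; group
    · refine Odd.of_dvd_nat ?_ (card_dvd_of_le inf_le_left)
      rw [card_map_of_injective (MulAut.conj g).injective]
      exact oCore_odd x
    · exact mem_cent.2 (((commute_of_O2c hj).mul_left (mem_cent.1 hq.2)).mul_left (commute_of_O2c hj).inv_left)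
  have hm : h * a * h⁻¹ * a ∈ Q := by
    refine ⟨⟨_, hT.move hzx D.zz (hinv hhv), ?_⟩, mem_cent.2 (((hhz.mul_left haz).mul_left hhz.inv_left).mul_left haz)⟩
    show g * (g⁻¹ * h * g * z * (g⁻¹ * h * g)⁻¹ * z) * g⁻¹ = h * (g * z * g⁻¹) * h⁻¹ * (g * z * g⁻¹)
    group
  rw [hQ, mem_bot] at hm
  have hai : a⁻¹ = a := by rw [ha, _root_.mul_inv_rev, _root_.mul_inv_rev, inv_inv, D.z_inv, mul_assoc]
  have := mul_eq_one_iff_eq_inv.1 hm
  rw [hai] at this
  exact mul_inv_eq_iff_eq_mul.1 this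

end Setup

end Cfsg.Agent.FiTwentyThreeByTwo
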