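import Cfsg.Agent.Lib.FiTwentyThreeByTwo.Invol
import Cfsg.Agent.Lib.FiTwentyThreeByTwo.Odd
import Cfsg.Agent.Lib.FiTwentyTwoByTwo.Lifts

/-!
# A conjugate of `z` in `C(z)` comes with the same four-group
-/

set_option autoImplicit false
set_option linter.unusedSectionVars false
set_option maxRecDepth 100000

namespace Cfsg.Agent.FiTwentyThreeByTwo

open Subgroup Cfsg.Agent.ThreeTransp.U62Cent Cfsg.Agent.ThreeTransp.U62Cent.W8 Cfsg.Agent.FiTwentyTwoByTwo

universe u'

variable {G : Type u'} [Group G]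

/-- the conjugate four-group -/
def yc (z c g : G) : Subgroup G := (yGrp z c).map (MulAut.conj g).toMonoidHom

/-- In the situation of a conjugate of `z` in `C(z)`, the centraliser in `C(z)` of an element of the
conjugate four-group normalises it. -/
def Nor (z c : G) : Prop :=
  ∀ g, Commute (g * z * g⁻¹) z → ∀ y ∈ yGrp z c, y ≠ 1 → Commute (g * y * g⁻¹) z →
    ∀ h, Commute h z → Commute h (g * y * g⁻¹) → ∀ w ∈ yc z c g, h * w * h⁻¹ ∈ yc z c g

theorem mem_yc {z c g w : G} : w ∈ yc z c g ↔ g⁻¹ * w * g ∈ yGrp z c := by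
  constructor
  · rintro ⟨y, hy, rfl⟩
    show g⁻¹ * (g * y * g⁻¹) * g ∈ yGrp z c
    rwa [show g⁻¹ * (g * y * g⁻¹) * g = y by group]
  · intro h
    exact ⟨_, h, by show g * (g⁻¹ * w * g) * g⁻¹ = w; group⟩

variable [Finite G] {z c : G}

theorem perp_pair (u : W8) : ∃ p q, bb p u = false ∧ bb q u = false ∧ bb p q = true := by
  by_contra h
  push Not at h
  have hsub : {v : W8 | bb v u = false} ⊆ {0, u} := by
    intro p hp
    rcases perp_perp (d := u) (w := p) (fun q hq => by
      simpa using h p q hp (by rw [bb_comm]; exact hq)) with e | e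
    exacts [Or.inl e, Or.inr e]
  have h2 := (Set.ncard_le_ncard hsub (Set.toFinite _)).trans
    ((Set.ncard_insert_le _ _).trans (Nat.succ_le_succ (Set.ncard_singleton u).le))
  by_cases hu : u = 0
  · subst hu
    have : {v : W8 | bb v 0 = false} = Set.univ := Set.eq_univ_of_forall fun v => by
      have := bb_add_right v 0 0
      rw [add_zero] at this
      simpa using this
    rw [this, Set.ncard_univ, card_W8] at h2
    omega
  · rw [ncard_perp hu] at h2
    omega

namespace Setup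

variable (D : Setup z c)

include D

theorem yc_sq {g w : G} (hw : w ∈ yc z c g) : w * w = 1 := by
  obtain ⟨y, hy, rfl⟩ := hw
  show g * y * g⁻¹ * (g * y * g⁻¹) = 1
  rw [show g * y * g⁻¹ * (g * y * g⁻¹) = g * (y * y) * g⁻¹ by group, D.Y_sq hy]; group

theorem yc_comm {g w w' : G} (hw : w ∈ yc z c g) (hw' : w' ∈ yc z c g) : Commute w w' := by
  obtain ⟨y, hy, rfl⟩ := hw
  obtain ⟨y', hy', rfl⟩ := hw'
  exact conj_commute g (D.A_comm (D.Y_le hy) (D.Y_le hy'))

theorem yc_cases {g w w' x : G} (hw : w ∈ yc z c g) (hw1 : w ≠ 1) (hw' : w' ∈ yc z c g) (hw'1 : w' ≠ 1)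
    (hne : w' ≠ w) (hx : x ∈ yc z c g) : x = 1 ∨ x = w ∨ x = w' ∨ x = w' * w := by
  obtain ⟨y, hy, rfl⟩ := hw
  obtain ⟨y', hy', rfl⟩ := hw'
  obtain ⟨t, ht, rfl⟩ := hx
  have h1 : y ≠ 1 := fun e => hw1 (by rw [e]; exact map_one _)
  have h2 : y' ≠ 1 := fun e => hw'1 (by rw [e]; exact map_one _)
  have h3 : y' ≠ y := fun e => hne (by rw [e])
  have key : t = 1 ∨ t = y ∨ t = y' ∨ t = y' * y := by
    have hcc : c * (c * y * c⁻¹) * c⁻¹ = c * y * c⁻¹ * y := by
      rw [D.ccy_eq hy h1]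
      exact (D.A_comm (D.Y_le hy) (D.Y_le (D.c_Y hy))).eq
    rcases D.Y_cases hy h1 hy' with e | e | e | e
    · exact absurd e h2
    · exact absurd e h3
    · rw [e, ← hcc]; exact D.Y_cases hy h1 ht
    · rcases D.Y_cases hy h1 ht with r | r | r | r
      · exact Or.inl r
      · exact Or.inr (Or.inl r)
      · refine Or.inr (Or.inr (Or.inr ?_))
        rw [r, e, hcc, mul_assoc (c * y * c⁻¹) y y, D.Y_sq hy, mul_one]
      · exact Or.inr (Or.inr (Or.inl (r.trans e.symm)))
  rcases key with e | e | e | e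
  · exact Or.inl (by rw [e]; exact map_one _)
  · exact Or.inr (Or.inl (by rw [e]))
  · exact Or.inr (Or.inr (Or.inl (by rw [e])))
  · exact Or.inr (Or.inr (Or.inr (by rw [e]; exact map_mul _ y' y)))

theorem yc_card (g : G) : Nat.card ↥(yc z c g) = 4 := by
  rw [yc, card_map_of_injective (MulAut.conj g).injective]; exact D.card_Y

theorem yc_exists {g w : G} : ∃ w' ∈ yc z c g, w' ≠ 1 ∧ w' ≠ w := by
  by_contra h
  push Not at h
  have hsub : (yc z c g : Set G) ⊆ {1, w} := fun x hx => by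
    by_cases e : x = 1
    · exact Or.inl e
    · exact Or.inr (h x hx e)
  have h2 := (Set.ncard_le_ncard hsub (Set.toFinite _)).trans
    ((Set.ncard_insert_le _ _).trans (Nat.succ_le_succ (Set.ncard_singleton w).le))
  rw [← Nat.card_coe_set_eq, show Nat.card ↥((yc z c g : Set G)) = 4 from D.yc_card g] at h2
  omega

theorem yc_fix {g w w' h : G} (hw : w ∈ yc z c g) (hw1 : w ≠ 1) (hw' : w' ∈ yc z c g) (hhw : Commute h w)
    (hmem : h * w' * h⁻¹ ∈ yc z c g) : h * w' * h⁻¹ = w' ∨ h * w' * h⁻¹ = w' * w := by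
  by_cases h1 : w' = 1
  · left; rw [h1]; group
  by_cases h2 : w' = w
  · left; rw [h2, hhw.eq, mul_inv_cancel_right]
  rcases D.yc_cases hw hw1 hw' h1 h2 hmem with e | e | e | e
  · exact absurd (conj_eq_one_iff.1 e) h1
  · refine absurd ?_ h2
    calc w' = h⁻¹ * (h * w' * h⁻¹) * h := by group
      _ = h⁻¹ * (w * h) := by rw [e]; group
      _ = w := by rw [← hhw.eq, inv_mul_cancel_left]
  · exact Or.inl e
  · exact Or.inr e

theorem outer_swap {h y : G} (hh : Commute h z) (h2 : h * h = 1) (hn : h ∉ cY z c)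
    (hy : y ∈ yGrp z c) (h1 : y ≠ 1) (hhy : Commute h y) :
    h * (c * y * c⁻¹) * h⁻¹ = y * (c * y * c⁻¹) := by
  obtain ⟨j, hj, ej⟩ := D.invol_inverts hh h2 hn
  have hcy' : c⁻¹ * y * c = y * (c * y * c⁻¹) := by
    rw [← D.ccy_eq hy h1]
    conv_lhs => rw [← D.c_cc (x := y)]
    group
  calc h * (c * y * c⁻¹) * h⁻¹ = (h * c * h⁻¹) * (h * y * h⁻¹) * (h * c * h⁻¹)⁻¹ := by group
    _ = j * (c⁻¹ * y * c) * j⁻¹ := by rw [ej, hhy.eq, mul_inv_cancel_right]; group
    _ = _ := by rw [hcy', (D.Y_J (mul_mem hy (D.c_Y hy)) hj).eq, mul_inv_cancel_right]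

end Setup

/-- a set invariant under a fixed-point-free permutation of order three, with zero -/
theorem three_dvd {κ : Equiv.Perm W8} (hκ : ∀ v, κ (κ (κ v)) = v) (hfix : ∀ v, κ v = v → v = 0)
    (h0 : κ 0 = 0) {S : Set W8} (hS : ∀ v ∈ S, κ v ∈ S) : 3 ∣ (S \ {0}).ncard := by
  classical
  by_contra hd
  have hm : ∀ v ∈ S \ {0}, κ v ∈ S \ {0} := fun v hv =>
    ⟨hS v hv.1, fun e => hv.2 (κ.injective ((show κ v = 0 from e).trans h0.symm))⟩
  let σ : Equiv.Perm ↥(S \ {0}) :=
    { toFun := fun v => ⟨κ v, hm _ v.2⟩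
      invFun := fun v => ⟨κ (κ v), hm _ (hm _ v.2)⟩
      left_inv := fun v => Subtype.ext (hκ v)
      right_inv := fun v => Subtype.ext (hκ v) }
  haveI : Fact (Nat.Prime 3) := ⟨Nat.prime_three⟩
  letI := Fintype.ofFinite ↥(S \ {0})
  have h3 : σ ^ 3 ^ 1 = 1 := Equiv.ext fun x => by
    rw [pow_one, pow_succ, pow_two, Equiv.Perm.mul_apply, Equiv.Perm.mul_apply]
    exact σ.right_inv x
  obtain ⟨x, hx⟩ := Equiv.Perm.exists_fixed_point_of_prime (p := 3) (n := 1)
    (by rwa [← Nat.card_eq_fintype_card, Nat.card_coe_set_eq]) h3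
  exact x.2.2 (hfix _ (congrArg Subtype.val hx))

namespace Model

variable (K : Model z c)

include K

theorem kap_three (v : W8) : K.act c (K.act c (K.act c v)) = v := by
  have h : K.act (c * (c * c)) = 1 := by rw [K.base.c3, K.act_one]
  rw [K.act_mul K.base.c_z (K.base.c_z.mul_left K.base.c_z), K.act_mul K.base.c_z K.base.c_z] at h
  exact congrArg (fun f : Equiv.Perm W8 => f v) h

theorem comm_of_perp {x j : G} (hx : x ∈ O2c z) (hj : j ∈ O2c z) (h : bb (K.vec j) (K.vec x) = false) :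
    Commute j x := by
  show j * x = x * j
  rw [K.comm hj hx, h, zb_false, one_mul]

theorem perp_of_comm {x j : G} (hx : x ∈ O2c z) (hj : j ∈ O2c z) (h : Commute j x) :
    bb (K.vec j) (K.vec x) = false := by
  by_contra hb
  have e := K.comm hj hx
  rw [show bb (K.vec j) (K.vec x) = true by simpa using hb, zb_true, h.eq] at e
  exact K.base.z_ne (mul_eq_right.1 e.symm)

section Conj

variable {g : G} (hN : Nor z c) (hga : Commute (g * z * g⁻¹) z) (hzY : z ∉ yc z c g)

include hN hga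

theorem normalises {w : G} (hw : w ∈ yc z c g) (hw1 : w ≠ 1) (hwz : Commute w z) {h : G}
    (hh : Commute h z) (hhw : Commute h w) {w' : G} (hw' : w' ∈ yc z c g) :
    h * w' * h⁻¹ ∈ yc z c g := by
  obtain ⟨y, hy, rfl⟩ := hw
  exact hN g hga y hy (fun e => hw1 (by rw [e]; exact map_one _)) hwz h hh hhw w' hw'

/-- a nonabelian centraliser in the core forces the conjugate four-group into `C(z)` -/
theorem all_comm {w : G} (hw : w ∈ yc z c g) (hw1 : w ≠ 1) (hwz : Commute w z) {x y : G}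
    (hx : x ∈ O2c z) (hy : y ∈ O2c z) (hwx : Commute w x) (hwy : Commute w y)
    (hb : bb (K.vec x) (K.vec y) = true) {w' : G} (hw' : w' ∈ yc z c g) : Commute w' z := by
  have e := K.comm hx hy
  rw [hb, zb_true] at e
  have hX := K.base.yc_fix hw hw1 hw' hwx.symm
    (K.normalises hN hga hw hw1 hwz (commute_of_O2c hx) hwx.symm hw')
  have hY := K.base.yc_fix hw hw1 hw' hwy.symm
    (K.normalises hN hga hw hw1 hwz (commute_of_O2c hy) hwy.symm hw')
  have key : x * y * w' * (x * y)⁻¹ = y * x * w' * (y * x)⁻¹ := by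
    have ew : ∀ {k : G}, Commute w k → ∀ t, k * (t * w) * k⁻¹ = k * t * k⁻¹ * w := fun {k} hk t => by
      rw [show k * (t * w) * k⁻¹ = k * t * (w * k⁻¹) by group, hk.inv_right.eq]; group
    calc x * y * w' * (x * y)⁻¹ = x * (y * w' * y⁻¹) * x⁻¹ := by group
      _ = y * (x * w' * x⁻¹) * y⁻¹ := by
        rcases hX with eX | eX <;> rcases hY with eY | eY <;>
          simp only [eX, eY, ew hwx, ew hwy]
      _ = _ := by group
  rw [e] at key
  have h2 : Commute z w' := by
    refine mul_inv_eq_iff_eq_mul.1 ?_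
    calc z * w' * z⁻¹ = z * ((y * x) * ((y * x)⁻¹ * w' * (y * x)) * (y * x)⁻¹) * z⁻¹ := by group
      _ = z * (y * x) * ((y * x)⁻¹ * w' * (y * x)) * (z * (y * x))⁻¹ := by group
      _ = _ := by
        have hm := K.normalises hN hga hw hw1 hwz
          ((commute_of_O2c hy).mul_left (commute_of_O2c hx)).inv_left
          (hwy.mul_right hwx).inv_right.symm hw'
        rw [inv_inv] at hm
        have key' : ∀ t ∈ yc z c g, z * (y * x) * t * (z * (y * x))⁻¹ = y * x * t * (y * x)⁻¹ := by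
          intro t ht
          have hX := K.base.yc_fix hw hw1 ht hwx.symm
            (K.normalises hN hga hw hw1 hwz (commute_of_O2c hx) hwx.symm ht)
          have hY := K.base.yc_fix hw hw1 ht hwy.symm
            (K.normalises hN hga hw hw1 hwz (commute_of_O2c hy) hwy.symm ht)
          have ew : ∀ {k : G}, Commute w k → ∀ s, k * (s * w) * k⁻¹ = k * s * k⁻¹ * w := fun {k} hk s => by
            rw [show k * (s * w) * k⁻¹ = k * s * (w * k⁻¹) by group, hk.inv_right.eq]; group
          rw [← e]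
          calc x * y * t * (x * y)⁻¹ = x * (y * t * y⁻¹) * x⁻¹ := by group
            _ = y * (x * t * x⁻¹) * y⁻¹ := by
              rcases hX with eX | eX <;> rcases hY with eY | eY <;>
                simp only [eX, eY, ew hwx, ew hwy]
            _ = _ := by group
        rw [key' _ hm]; group
  exact h2.symm

include hzY

theorem mv_Y {x w : G} (hx : x ∈ O2c z) (hw : w ∈ yc z c g) (hwJ : w ∈ O2c z)
    (hmem : x * w * x⁻¹ ∈ yc z c g) : Commute x w := by
  refine mul_inv_eq_iff_eq_mul.1 ?_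
  rcases K.base.comm _ hx _ hwJ with e | e
  · rw [e, mul_inv_cancel_right]
  · exfalso
    refine hzY ?_
    have := mul_mem hmem (inv_mem hw)
    rwa [show x * w * x⁻¹ * w⁻¹ = x * w * (w * x)⁻¹ by group, e, mul_inv_cancel_right] at this

variable (hne : yc z c g ≠ yGrp z c)

include hne

theorem no_A {w : G} (hw : w ∈ yc z c g) (hw1 : w ≠ 1) : w ∉ zA z := by
  intro hwA
  have D := K.base
  have hwz := D.A_comm_z hwA
  have hwJ : ∀ {j}, j ∈ O2c z → Commute w j := fun hj => D.A_comm_J hwA hj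
  obtain ⟨p, q, -, -, hpq⟩ := perp_pair (0 : W8)
  have hall : ∀ w' ∈ yc z c g, Commute w' z := fun w' hw' =>
    K.all_comm hN hga hw hw1 hwz (K.lift_mem p) (K.lift_mem q) (hwJ (K.lift_mem p)) (hwJ (K.lift_mem q))
      (by rw [K.vec_lift, K.vec_lift]; exact hpq) hw'
  have hsub : ∀ w' ∈ yc z c g, w' ∈ zA z := by
    intro w' hw'
    have hnorm : ∀ j ∈ O2c z, j * w' * j⁻¹ ∈ yc z c g := fun j hj =>
      K.normalises hN hga hw hw1 hwz (commute_of_O2c hj) (hwJ hj).symm hw'
    by_cases hJ : w' ∈ O2c z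
    · exact D.mem_A.2 fun j hj => (K.mv_Y hN hga hzY hj hw' hJ (hnorm j hj)).symm
    · exfalso
      refine K.act_ne (hall w' hw') hJ (Equiv.ext fun v => ?_)
      have hx := K.lift_mem v
      show K.act w' v = v
      rcases D.yc_fix hw hw1 hw' (hwJ hx).symm (hnorm _ hx) with e | e
      · have hc : Commute (K.lift v) w' := mul_inv_eq_iff_eq_mul.1 e
        conv_lhs => rw [← K.vec_lift v, ← K.act_vec (hall w' hw') hx, ← hc.eq, mul_inv_cancel_right,
          K.vec_lift]
      · have e2 : w' * K.lift v * w'⁻¹ = w * K.lift v := by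
          have hc : Commute w' w := D.yc_comm hw' hw
          calc w' * K.lift v * w'⁻¹ = w' * (K.lift v * w' * (K.lift v)⁻¹)⁻¹ * K.lift v := by group
            _ = w' * (w' * w)⁻¹ * K.lift v := by rw [e]
            _ = w⁻¹ * K.lift v := by rw [hc.eq]; group
            _ = _ := by rw [D.A_inv hwA]
        conv_lhs => rw [← K.vec_lift v, ← K.act_vec (hall w' hw') hx, e2, K.vec_mul (D.A_le hwA) hx,
          K.vec_A hwA, zero_add, K.vec_lift]
  have hex : ∃ d ∈ yc z c g, d ∉ yGrp z c := by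
    by_contra h
    push Not at h
    exact hne (eq_of_le_of_card_ge h (by rw [D.yc_card, D.card_Y]))
  obtain ⟨d, hd, hdY⟩ := hex
  have hy : z * d ∈ yGrp z c := (D.A_cases (hsub d hd)).resolve_left hdY
  set y := z * d with hydef
  have hd' : z * y = d := by rw [hydef, ← mul_assoc, D.zz, one_mul]
  have hy1 : y ≠ 1 := fun e => hzY (by rw [e, mul_one] at hd'; have := hd; rwa [← hd'] at this)
  have hd1 : d ≠ 1 := fun e => hdY (e ▸ one_mem _)
  -- a nontrivial element of both groups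
  obtain ⟨e, he, he1, hed⟩ := D.yc_exists (g := g) (w := d)
  obtain ⟨e, he, he1, heY⟩ : ∃ e ∈ yc z c g, e ≠ 1 ∧ e ∈ yGrp z c := by
    rcases D.A_cases (hsub e he) with h | h
    · exact ⟨e, he, he1, h⟩
    · refine ⟨d * e, mul_mem hd he, fun h1 => hed ?_, ?_⟩
      · rw [← inv_eq_of_mul_eq_one_right h1]
        exact inv_eq_of_mul_eq_one_right (D.yc_sq hd)
      · have := mul_mem hy h
        rwa [hydef, show z * d * (z * e) = (z * z) * (d * e) by
          rw [(D.A_comm_z (hsub d hd)).symm.mul_mul_mul_comm], D.zz, one_mul] at this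
  obtain ⟨s, hsz, hsy, hsc⟩ := D.exists_swap hy hy1
  have hsd : Commute s d := hd' ▸ hsz.mul_right hsy
  have hse : s * e * s⁻¹ ∈ yc z c g := K.normalises hN hga hd hd1 (D.A_comm_z (hsub d hd)) hsz hsd he
  have hey : e ≠ y := fun h => hzY (by
    have := mul_mem hd he
    rwa [h, ← hd', mul_assoc, D.Y_sq hy, mul_one] at this)
  rcases D.swap_A hy hy1 hsz hsy hsc (D.Y_le heY) with ⟨-, h | h | h | h⟩ | h
  · exact he1 h
  · exact D.z_not_Y (h ▸ heY)
  · exact hey h
  · exact hzY (by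
      have := mul_mem hy heY
      exfalso
      refine D.z_not_Y ?_
      have h' := mul_mem heY (inv_mem hy)
      rwa [h, mul_inv_cancel_right] at h')
  · have := mul_mem hd (mul_mem hse (inv_mem he))
    rw [h, mul_inv_cancel_right, ← hd', mul_assoc, D.Y_sq hy, mul_one] at this
    exact hzY this

/-- the conjugate four-group meets the core trivially -/
theorem no_J {w : G} (hw : w ∈ yc z c g) (hw1 : w ≠ 1) : w ∉ O2c z := by
  intro hwJ
  have D := K.base
  have hA := fun {t} => K.no_A hN hga hzY hne (w := t)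
  have hwz := commute_of_O2c hwJ
  have hvw : K.vec w ≠ 0 := fun e => hA hw hw1 ((K.vec_eq_zero hwJ).1 e)
  obtain ⟨p, q, hp, hq, hpq⟩ := perp_pair (K.vec w)
  have hall : ∀ w' ∈ yc z c g, Commute w' z := fun w' hw' =>
    K.all_comm hN hga hw hw1 hwz (K.lift_mem p) (K.lift_mem q)
      (K.comm_of_perp hwJ (K.lift_mem p) (by rw [K.vec_lift]; exact hp)).symm
      (K.comm_of_perp hwJ (K.lift_mem q) (by rw [K.vec_lift]; exact hq)).symm
      (by rw [K.vec_lift, K.vec_lift]; exact hpq) hw'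
  obtain ⟨w', hw', hw'1, hne'⟩ := D.yc_exists (g := g) (w := w)
  have hnorm : ∀ x ∈ O2c z, Commute x w → x * w' * x⁻¹ ∈ yc z c g := fun x hx hc =>
    K.normalises hN hga hw hw1 hwz (commute_of_O2c hx) hc hw'
  by_cases hJ : w' ∈ O2c z
  · rcases perp_perp (d := K.vec w) (w := K.vec w') (fun v hv => by
      have hx := K.lift_mem v
      have hc : Commute (K.lift v) w := K.comm_of_perp hwJ hx (by rw [K.vec_lift, bb_comm]; exact hv)
      have := K.perp_of_comm hJ hx (K.mv_Y hN hga hzY hx hw' hJ (hnorm _ hx hc))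
      rw [K.vec_lift] at this
      rw [bb_comm]; exact this) with e | e
    · exact hA hw' hw'1 ((K.vec_eq_zero hJ).1 e)
    · have hm : w * w' ∈ zA z := (K.vec_eq_zero (mul_mem hwJ hJ)).1 (by rw [K.vec_mul hwJ hJ, e, W8.add_self])
      refine hA (mul_mem hw hw') (fun h => hne' ?_) hm
      rw [← inv_eq_of_mul_eq_one_right h]
      exact inv_eq_of_mul_eq_one_right (D.yc_sq hw)
  -- `w'` acts as a transvection
  have hzw' := hall w' hw'
  have h2 := D.yc_sq hw'
  have hcomm : Commute w' w := D.yc_comm hw' hw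
  set u := K.vec w with hu
  set t := K.act w' with ht
  have hadd := (K.iso hzw').add
  have hcase : ∀ x ∈ O2c z, Commute x w →
      mv w' x = 1 ∨ mv w' x = w := by
    intro x hx hc
    rcases D.yc_fix hw hw1 hw' hc (hnorm x hx hc) with e | e
    · left
      show w' * x * w'⁻¹ * x⁻¹ = 1
      rw [← (mul_inv_eq_iff_eq_mul.1 e : x * w' = w' * x)]; group
    · right
      show w' * x * w'⁻¹ * x⁻¹ = w
      calc w' * x * w'⁻¹ * x⁻¹ = w' * (x * w' * x⁻¹)⁻¹ := by group
        _ = w' * (w' * w)⁻¹ := by rw [e]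
        _ = w⁻¹ := by rw [hcomm.eq]; group
        _ = w := inv_eq_of_mul_eq_one_right (D.yc_sq hw)
  have hP : ∀ v, bb v u = false → t v + v = 0 ∨ t v + v = u := by
    intro v hv
    have hx := K.lift_mem v
    have hc : Commute (K.lift v) w := K.comm_of_perp hwJ hx (by rw [K.vec_lift]; exact hv)
    have e1 : K.vec (mv w' (K.lift v)) = t v + v := by
      rw [K.vec_mul (conj_O2c hzw' hx) (inv_mem hx), K.vec_inv hx, K.act_vec hzw' hx, K.vec_lift]
    rcases hcase _ hx hc with e | e <;> rw [e] at e1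
    · exact Or.inl (by rw [← e1, K.vec_A (one_mem _)])
    · exact Or.inr e1.symm
  have h64 : 64 ≤ (fixV t).ncard := by
    have h128 := ncard_perp hvw
    by_cases hex : ∃ v0, bb v0 u = false ∧ t v0 + v0 = u
    · obtain ⟨v0, hv0, hv0t⟩ := hex
      have hsub : {v : W8 | bb v u = false} ⊆ fixV t ∪ (· + v0) '' fixV t := by
        intro v hv
        rcases hP v hv with e | e
        · exact Or.inl (W8.eq_of_add e)
        · refine Or.inr ⟨v + v0, W8.eq_of_add ?_, ?_⟩
          · show t (v + v0) + (v + v0) = 0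
            rw [hadd, add_add_add_comm, e, hv0t, W8.add_self]
          · show v + v0 + v0 = v
            rw [add_assoc, W8.add_self, add_zero]
      have := (Set.ncard_le_ncard hsub (Set.toFinite _)).trans (Set.ncard_union_le _ _)
      have := Set.ncard_image_le (f := (· + v0)) (Set.toFinite (fixV t))
      omega
    · push Not at hex
      have hsub : {v : W8 | bb v u = false} ⊆ fixV t := fun v hv =>
        W8.eq_of_add ((hP v hv).resolve_right (hex v hv))
      have := Set.ncard_le_ncard hsub (Set.toFinite _)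
      omega
  have h64' : (fixV t).ncard = 64 := le_antisymm (K.fix_le hzw' h2 hJ) h64
  have hY' : w' ∈ cY z c := by
    by_contra hn
    rw [ht, K.fix_outer hzw' h2 hn] at h64'
    omega
  have hu_im : u ∈ imV t := by
    obtain ⟨v, hv, hvt⟩ : ∃ v, bb v u = false ∧ t v ≠ v := by
      by_contra h
      push Not at h
      have := Set.ncard_le_ncard (show {v : W8 | bb v u = false} ⊆ fixV t from h) (Set.toFinite _)
      rw [ncard_perp hvw] at this
      omega
    exact ⟨v, (hP v hv).resolve_left fun e => hvt (W8.eq_of_add e)⟩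
  have hfixc : ∀ x ∈ O2c z, t (K.vec x) = K.vec x → Commute w' x := by
    intro x hx hf
    have hc : Commute x w := K.comm_of_perp hwJ hx (by
      obtain ⟨v, hv⟩ := hu_im
      show bb (K.vec x) u = false
      rw [← hv]
      exact (K.isInv hzw' h2).perp_im hf v)
    rcases hcase x hx hc with e | e
    · exact mul_inv_eq_iff_eq_mul.1 (mul_inv_eq_one.1 e)
    · exact absurd (e ▸ K.mv_A hzw' hx hf) (hA hw hw1)
  obtain ⟨γ, hγ, hγ3, hγt, hγu, hγL⟩ :=
    nat_scalar K.inat (K.act_I hY') (K.isInv hzw' h2).sq (K.act_ne hzw' hJ) h64' hu_im hvw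
  obtain ⟨k, hk, hkγ, -, hkw⟩ := K.lift_three hY' h2 hγ hγ3 hγt (by
    intro k hk hkγ hk3
    have hkz := (D.mem_cY.1 hk).1
    set m := k * w' * k⁻¹ * w' with hm
    have hmJ : m ∈ O2c z := (K.ker (((hkz.mul_left hzw').mul_left hkz.inv_left).mul_left hzw')).1 (by
      rw [K.act_mul ((hkz.mul_left hzw').mul_left hkz.inv_left) hzw', K.act_conj hkz hzw', hkγ, hγt,
        mul_inv_cancel_right, (K.isInv hzw' h2).sq])
    have hwi : w'⁻¹ = w' := inv_eq_of_mul_eq_one_right h2
    have hmi : w' * m * w'⁻¹ = m⁻¹ := by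
      rw [hm]
      calc w' * (k * w' * k⁻¹ * w') * w'⁻¹ = w' * k * w' * k⁻¹ := by group
        _ = w'⁻¹ * (k * w'⁻¹ * k⁻¹) := by rw [hwi]; group
        _ = _ := by group
    have hmf : t (K.vec m) = K.vec m := by
      rw [ht, ← K.act_vec hzw' hmJ, hmi, K.vec_inv hmJ]
    have hmc := hfixc m hmJ hmf
    have hm2 : m * m = 1 := by
      rw [hmc.eq, mul_inv_cancel_right] at hmi
      nth_rewrite 1 [hmi]
      exact inv_mul_cancel m
    refine hγL _ hmf ?_ ?_
    · have := K.sq hmJ
      rw [hm2] at this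
      cases hq : qe true (K.vec m)
      · rfl
      · rw [hq, zb_true] at this
        exact absurd this.symm D.z_ne
    · have hm1 := conj_O2c hkz hmJ
      have hm2' := conj_O2c hkz hm1
      have e : k * (k * m * k⁻¹) * k⁻¹ * (k * m * k⁻¹) * m = 1 := by
        calc k * (k * m * k⁻¹) * k⁻¹ * (k * m * k⁻¹) * m
            = (k * (k * k)) * w' * (k * (k * k))⁻¹ * (k * k * (w' * w') * (k * k)⁻¹) *
              (k * (w' * w') * k⁻¹) * w' := by rw [hm]; group
          _ = 1 := by rw [hk3, h2]; simp [h2]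
      have := congrArg K.vec e
      rw [K.vec_mul (mul_mem hm2' hm1) hmJ, K.vec_mul hm2' hm1, K.act_vec hkz hm1, K.act_vec hkz hmJ, hkγ,
        K.vec_A (one_mem _)] at this
      rw [← this]; abel)
  have hkz := (D.mem_cY.1 hk).1
  refine hγu ?_
  have hkw' : k * w * k⁻¹ = w := by
    rcases D.yc_fix hw' hw'1 hw hkw (K.normalises hN hga hw' hw'1 hzw' hkz hkw hw) with e | e
    · exact e
    · exfalso
      refine hJ ?_
      have h3 := mul_mem (inv_mem hwJ) (conj_O2c hkz hwJ)
      rwa [e, inv_mul_cancel_left] at h3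
  have := congrArg K.vec hkw'
  rwa [K.act_vec hkz hwJ, hkγ] at this

/-- the data attached to an element of the conjugate four-group commuting with `z` -/
theorem partner (hd : ∀ y ∈ yGrp z c, y ≠ 1 → TI z (z * y)) (haA : g * z * g⁻¹ ∉ zA z)
    {y : G} (hy : y ∈ yGrp z c) (hy1 : y ≠ 1) (hyz : Commute (g * y * g⁻¹) z) :
    g * y * g⁻¹ ∈ cY z c ∧ (fixV (K.act (g * y * g⁻¹))).ncard = 64 ∧
      fixV (K.act (g * y * g⁻¹)) = (fun p : W8 × W8 => p.1 + K.act c p.2) ''
        (K.dSet (g * z * g⁻¹) ×ˢ K.dSet (g * z * g⁻¹)) := by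
  have D := K.base
  set a := g * z * g⁻¹ with ha
  set w := g * y * g⁻¹ with hw
  have hwY : w ∈ yc z c g := ⟨y, hy, rfl⟩
  have hw1 : w ≠ 1 := fun e => hy1 (conj_eq_one_iff.1 e)
  have hwJ : w ∉ O2c z := K.no_J hN hga hzY hne hwY hw1
  have hw2 := D.yc_sq hwY
  have ha2 : a * a = 1 := by
    rw [ha, show g * z * g⁻¹ * (g * z * g⁻¹) = g * (z * z) * g⁻¹ by group, D.zz]; group
  have hwa : Commute w a := conj_commute g (D.Y_z hy)
  set v := a * w with hv
  have hv2 : v * v = 1 := by rw [hv, hwa.mul_mul_mul_comm, ha2, hw2, one_mul]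
  have hvz : Commute v z := hga.mul_left hyz
  have hva : Commute v a := (Commute.refl a).mul_left hwa
  have hv' : v = g * (z * y) * g⁻¹ := by rw [hv, ha, hw]; group
  have hcent : ∀ h, Commute h z → Commute h v → Commute h a := fun h hh hc =>
    D.cent_conj (hd y hy hy1) ((Commute.refl z).mul_right (D.Y_z hy).symm)
      (by rw [(D.Y_z hy).mul_mul_mul_comm, D.zz, D.Y_sq hy, one_mul])
      (by rw [← hv']; exact hvz) hga hh (by rw [← hv']; exact hc)
  have hnormA : ∀ h, Commute h a → ∀ w' ∈ yc z c g, h * w' * h⁻¹ ∈ yc z c g := by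
    intro h hh w' hw'
    rw [mem_yc] at hw' ⊢
    have hgz : Commute (g⁻¹ * h * g) z := by
      have := conj_commute g⁻¹ hh
      rwa [ha, show g⁻¹ * (g * z * g⁻¹) * g⁻¹⁻¹ = z by group, inv_inv] at this
    have := D.Y_conj hgz hw'
    rwa [show g⁻¹ * h * g * (g⁻¹ * w' * g) * (g⁻¹ * h * g)⁻¹ = g⁻¹ * (h * w' * h⁻¹) * g by group] at this
  have hC : ∀ x ∈ O2c z, (Commute x a ↔ Commute x v) := by
    refine fun x hx => ⟨fun hxa => ?_, hcent x (commute_of_O2c hx)⟩
    have hm : x * w * x⁻¹ * w⁻¹ ∈ yc z c g := mul_mem (hnormA x hxa w hwY) (inv_mem hwY)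
    have hmJ : x * w * x⁻¹ * w⁻¹ ∈ O2c z := by
      rw [show x * w * x⁻¹ * w⁻¹ = x * (w * x⁻¹ * w⁻¹) by group]
      exact mul_mem hx (conj_O2c hyz (inv_mem hx))
    by_contra hn
    refine K.no_J hN hga hzY hne hm (fun e => hn ?_) hmJ
    exact hxa.mul_right (mul_inv_eq_iff_eq_mul.1 (mul_inv_eq_one.1 e))
  have hvA : v ∉ zA z := fun hvA => by
    have h1 : ∀ j ∈ O2c z, Commute a j := fun j hj => ((hC j hj).2 (D.A_comm_J hvA hj).symm).symm
    exact haA (D.mem_A.2 h1)
  have hperp : ∀ {h k : G}, h ∈ O2c z → h ∉ zA z → Commute k z → k * k = 1 → k ∉ O2c z →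
      (∀ x ∈ O2c z, Commute x h → Commute x k) → False := by
    intro h k hh hhA hk hk2 hkJ hsub
    have hu : K.vec h ≠ 0 := fun e => hhA ((K.vec_eq_zero hh).1 e)
    have hs : {p : W8 | bb p (K.vec h) = false} ⊆ fixV (K.act k) := fun p hp => by
      have hx := K.lift_mem p
      have hc := hsub _ hx (K.comm_of_perp hh hx (by rw [K.vec_lift]; exact hp))
      show K.act k p = p
      conv_lhs => rw [← K.vec_lift p, ← K.act_vec hk hx, ← hc.eq, mul_inv_cancel_right, K.vec_lift]
    have := Set.ncard_le_ncard hs (Set.toFinite _)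
    rw [ncard_perp hu] at this
    have := K.fix_le hk hk2 hkJ
    omega
  have hnot : ¬ (v ∈ O2c z ∧ a ∈ O2c z) := fun ⟨h1, h2⟩ => hwJ (by
    have := mul_mem h2 h1
    rwa [hv, ← mul_assoc, ha2, one_mul] at this)
  have hvJ : v ∉ O2c z := fun h => by
    by_cases h' : a ∈ O2c z
    · exact hnot ⟨h, h'⟩
    · exact hperp h hvA hga ha2 h' fun x hx hc => (hC x hx).2 hc
  have haJ : a ∉ O2c z := fun h => hperp h haA hvz hv2 hvJ fun x hx hc => (hC x hx).1 hc
  have hiff : v ∈ cY z c ↔ a ∈ cY z c := by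
    constructor
    · intro h
      exact D.mem_cY.2 ⟨hga, fun y hy => ((hC y (D.A_le (D.Y_le hy))).2 ((D.mem_cY.1 h).2 y hy).symm).symm⟩
    · intro h
      exact D.mem_cY.2 ⟨hvz, fun y hy => ((hC y (D.A_le (D.Y_le hy))).1 ((D.mem_cY.1 h).2 y hy).symm).symm⟩
  have hD : K.dSet v = K.dSet a := by
    ext p
    exact ⟨fun ⟨x, hx, e, hc⟩ => ⟨x, hx, e, ((hC x hx).2 hc.symm).symm⟩,
      fun ⟨x, hx, e, hc⟩ => ⟨x, hx, e, ((hC x hx).1 hc.symm).symm⟩⟩
  have hne' : K.act v ≠ K.act a := fun e => hwJ (by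
    refine (K.ker hyz).1 ?_
    rw [show w = a * v by rw [hv, ← mul_assoc, ha2, one_mul], K.act_mul hga hvz, e, (K.isInv hga ha2).sq])
  have hDa := K.d_half hga ha2 haJ
  have hDv := K.d_half hvz hv2 hvJ
  rw [hD] at hDv
  have hDsa := K.d_sub hga (h := a)
  have hDsv : K.dSet a ⊆ fixV (K.act v) := hD ▸ K.d_sub hvz
  -- the common fixed space of commuting linear involutions
  have hinter : ∀ {s t : G}, s ∈ cY z c → t ∈ cY z c → Commute s t →
      (fixV (K.act t) ∩ fixV (K.act s)).ncard ∣ (fixV (K.act s)).ncard ∧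
      3 ∣ ((fixV (K.act t) ∩ fixV (K.act s)) \ {0}).ncard := by
    intro s t hs ht hst
    have hsz := (D.mem_cY.1 hs).1
    have htz := (D.mem_cY.1 ht).1
    constructor
    · refine Dvd.intro _ (card_fix_mul_im (S := fixV (K.act s)) (K.iso hsz).map_zero
        (fun p hp q hq => K.fix_add hsz hp hq) (K.iso htz).add (fun p hp => ?_))
      show K.act s (K.act t p) = K.act t p
      rw [← Equiv.Perm.mul_apply, ← K.act_mul hsz htz, hst.eq, K.act_mul htz hsz, Equiv.Perm.mul_apply,
        show K.act s p = p from hp]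
    · refine three_dvd K.kap_three K.kfix (K.iso D.c_z).map_zero fun p hp => ⟨?_, ?_⟩
      · show K.act t (K.act c p) = K.act c p
        rw [K.kcomm ht, show K.act t p = p from hp.1]
      · show K.act s (K.act c p) = K.act c p
        rw [K.kcomm hs, show K.act s p = p from hp.2]
  have h0 : ∀ {s t : G}, Commute s z → Commute t z → (0 : W8) ∈ fixV (K.act t) ∩ fixV (K.act s) :=
    fun hs ht => ⟨(K.iso ht).map_zero, (K.iso hs).map_zero⟩
  by_cases hlin : v ∈ cY z c
  · exfalso
    have hlina := hiff.1 hlin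
    obtain ⟨hdiv, h3⟩ := hinter hlin hlina hva
    rw [Set.ncard_sdiff_singleton_of_mem (h0 hvz hga)] at h3
    set n := (fixV (K.act a) ∩ fixV (K.act v)).ncard with hn
    have hlow : (K.dSet a).ncard ≤ n :=
      Set.ncard_le_ncard (fun p hp => ⟨hDsa hp, hDsv hp⟩) (Set.toFinite _)
    have hupa : n ≤ (fixV (K.act a)).ncard := Set.ncard_le_ncard Set.inter_subset_left (Set.toFinite _)
    have hupv : n ≤ (fixV (K.act v)).ncard := Set.ncard_le_ncard Set.inter_subset_right (Set.toFinite _)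
    rcases K.fix_lin hlin hv2 hvJ with hfv | hfv <;> rcases K.fix_lin hlina ha2 haJ with hfa | hfa <;>
      rw [hfv] at hDv <;> rw [hfa] at hDa
    · have hn64 : n = 64 := by
        rw [hfv] at hdiv
        obtain ⟨i, hi, hni⟩ := (Nat.dvd_prime_pow Nat.prime_two (m := 6)).1 (by simpa using hdiv)
        rw [hni] at h3 hlow hupa ⊢
        interval_cases i <;> first | omega | (norm_num at h3) | (norm_num at h3 hlow ⊢ <;> omega)
      have hsub : fixV (K.act v) ⊆ fixV (K.act a) := by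
        have := Set.eq_of_subset_of_ncard_le (Set.inter_subset_right (s := fixV (K.act a))
          (t := fixV (K.act v))) (by rw [← hn, hfv, hn64]) (Set.toFinite _)
        exact Set.inter_eq_right.1 this
      exact hne' (transvection_eq K.inat (K.act_I hlin) (K.act_I hlina) (K.isInv hvz hv2).sq
        (K.act_ne hvz hvJ) (K.act_ne hga haJ) hfv hsub).symm
    · omega
    · omega
    · have hn16 : n = 16 := by
        rw [hfv] at hdiv
        obtain ⟨i, hi, hni⟩ := (Nat.dvd_prime_pow Nat.prime_two (m := 4)).1 (by simpa using hdiv)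
        rw [hni] at h3 hlow hupa ⊢
        interval_cases i <;> first | omega | (norm_num at h3) | (norm_num at h3 hlow ⊢ <;> omega)
      have hF : fixV (K.act v) = fixV (K.act a) := by
        have e1 := Set.eq_of_subset_of_ncard_le (Set.inter_subset_right (s := fixV (K.act a))
          (t := fixV (K.act v))) (by rw [← hn, hfv, hn16]) (Set.toFinite _)
        have e2 := Set.eq_of_subset_of_ncard_le (Set.inter_subset_left (s := fixV (K.act a))
          (t := fixV (K.act v))) (by rw [← hn, hfa, hn16]) (Set.toFinite _)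
        exact e1.symm.trans e2
      have P : (rngI K.inat).Pair (K.act v) (K.act a) :=
        ⟨K.act_I hlin, K.act_I hlina, (K.isInv hvz hv2).sq, (K.isInv hga ha2).sq, K.act_ne hvz hvJ,
          K.act_ne hga haJ, hne', show _ = _ by rw [← K.act_mul hvz hga, hva.eq, K.act_mul hga hvz]⟩
      obtain ⟨γ, hγ, hγ3, hγt, hγs⟩ :=
        P.natural_witness K.inat (K.act_I hlin) (K.act_I hlina) hF hfv
      have him : imV (K.act v) = fixV (K.act v) := by
        have h1 := K.fix_mul_im hvz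
        rw [hfv] at h1
        exact Set.eq_of_subset_of_ncard_le (K.im_sub hvz hv2) (by omega) (Set.toFinite _)
      obtain ⟨k, hk, hkγ, -, hkv⟩ := K.lift_three hlin hv2 hγ hγ3 hγt (by
        intro k hk hkγ _
        rw [him]
        have hkz := (D.mem_cY.1 hk).1
        have hmJ : k * v * k⁻¹ * v ∈ O2c z := (K.ker (((hkz.mul_left hvz).mul_left hkz.inv_left).mul_left hvz)).1 (by
          rw [K.act_mul ((hkz.mul_left hvz).mul_left hkz.inv_left) hvz, K.act_conj hkz hvz, hkγ, hγt,
            mul_inv_cancel_right, (K.isInv hvz hv2).sq])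
        show K.act v _ = _
        have hvi : v⁻¹ = v := inv_eq_of_mul_eq_one_right hv2
        have e : v * (k * v * k⁻¹ * v) * v⁻¹ = (k * v * k⁻¹ * v)⁻¹ := by
          calc v * (k * v * k⁻¹ * v) * v⁻¹ = v * k * v * k⁻¹ := by group
            _ = v⁻¹ * (k * v⁻¹ * k⁻¹) := by rw [hvi]; group
            _ = _ := by group
        rw [← K.act_vec hvz hmJ, e, K.vec_inv hmJ])
      have hkz := (D.mem_cY.1 hk).1
      refine hγs ?_
      rw [← hkγ, ← K.act_mul hkz hga, (hcent k hkz hkv).eq, K.act_mul hga hkz]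
  · -- both outer
    have hlina : a ∉ cY z c := fun h => hlin (hiff.2 h)
    obtain ⟨t, ht, ht1, hvt⟩ := D.invol_fix hvz hv2
    have hat : Commute a t := ((hC t (D.A_le (D.Y_le ht))).2 hvt.symm).symm
    have hwt : Commute w t := by
      have := hat.mul_left hvt
      rwa [hv, ← mul_assoc, ha2, one_mul] at this
    have hwct : w * (c * t * c⁻¹) * w⁻¹ = c * t * c⁻¹ := by
      have e1 := D.outer_swap hga ha2 hlina ht ht1 hat
      have e2 := D.outer_swap hvz hv2 hlin ht ht1 hvt
      calc w * (c * t * c⁻¹) * w⁻¹ = a * (v * (c * t * c⁻¹) * v⁻¹) * a⁻¹ := by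
            rw [show w = a * v by rw [hv, ← mul_assoc, ha2, one_mul]]; group
        _ = (a * t * a⁻¹) * (a * (c * t * c⁻¹) * a⁻¹) := by rw [e2]; group
        _ = _ := by rw [e1, hat.eq, mul_inv_cancel_right, ← mul_assoc, D.Y_sq ht, one_mul]
    have hwcY : w ∈ cY z c := by
      refine D.mem_cY.2 ⟨hyz, fun x hx => mul_inv_eq_iff_eq_mul.1 ?_⟩
      rcases D.Y_cases ht ht1 hx with rfl | rfl | rfl | rfl
      · group
      · rw [hwt.eq, mul_inv_cancel_right]
      · exact hwct
      · rw [D.ccy_eq ht ht1,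
          show w * (t * (c * t * c⁻¹)) * w⁻¹ = (w * t * w⁻¹) * (w * (c * t * c⁻¹) * w⁻¹) by group,
          hwt.eq, mul_inv_cancel_right, hwct]
    have hDw : ∀ p ∈ K.dSet a, K.act w p = p := fun p hp => by
      rw [show w = a * v by rw [hv, ← mul_assoc, ha2, one_mul], K.act_mul hga hvz, Equiv.Perm.mul_apply,
        show K.act v p = p from hDsv hp, show K.act a p = p from hDsa hp]
    have hsub : (fun p : W8 × W8 => p.1 + K.act c p.2) '' (K.dSet a ×ˢ K.dSet a) ⊆ fixV (K.act w) := by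
      rintro _ ⟨⟨p, q⟩, ⟨hp, hq⟩, rfl⟩
      exact K.fix_add hyz (hDw p hp) (by
        show K.act w (K.act c q) = K.act c q
        rw [K.kcomm hwcY, hDw q hq])
    have hinj : Set.InjOn (fun p : W8 × W8 => p.1 + K.act c p.2) (K.dSet a ×ˢ K.dSet a) := by
      rintro ⟨p, q⟩ ⟨hp, hq⟩ ⟨p', q'⟩ ⟨hp', hq'⟩ e
      have e' : p + p' = K.act c (q + q') := by
        rw [(K.iso D.c_z).add]
        calc p + p' = (p + K.act c q) + (p' + K.act c q) := by
              rw [add_add_add_comm, W8.add_self, add_zero]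
          _ = (p' + K.act c q') + (p' + K.act c q) := by rw [show p + K.act c q = p' + K.act c q' from e]
          _ = _ := by rw [add_add_add_comm, W8.add_self, zero_add, add_comm]
      have hq0 : q + q' = 0 := K.fix_outer_disj hga ha2 hlina (K.fix_add hga (hDsa hq) (hDsa hq'))
        (by rw [← e']; exact K.fix_add hga (hDsa hp) (hDsa hp'))
      obtain rfl := W8.eq_of_add hq0
      rw [W8.add_self, (K.iso D.c_z).map_zero] at e'
      rw [W8.eq_of_add e']
    have hcard := Set.ncard_le_ncard hsub (Set.toFinite _)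
    rw [Set.ncard_image_of_injOn hinj, Set.ncard_prod] at hcard
    rw [K.fix_outer hga ha2 hlina] at hDa
    have hle := K.fix_le hyz hw2 hwJ
    have h8 : 64 ≤ (K.dSet a).ncard * (K.dSet a).ncard := by nlinarith
    refine ⟨hwcY, by omega, (Set.eq_of_subset_of_ncard_le hsub ?_ (Set.toFinite _)).symm⟩
    rw [Set.ncard_image_of_injOn hinj, Set.ncard_prod]
    omega

omit hN hga hzY hne in
theorem yc_z_notMem {S : Type*} [Group S] (T : Top z c S) (g : G) : z ∉ yc z c g := by
  rintro ⟨y, hy, e⟩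
  exact K.base.not_conj T (K.base.Y_le hy) (fun h => K.base.z_not_Y (h ▸ hy)) g e

end Conj

/-- A conjugate of `z` in `C(z)` is `z` or comes with the same four-group. -/
theorem same_four {S : Type*} [Group S] (T : Top z c S) (hd : ∀ y ∈ yGrp z c, y ≠ 1 → TI z (z * y))
    (hN : Nor z c) {g : G} (hga : Commute (g * z * g⁻¹) z) :
    g * z * g⁻¹ = z ∨ yc z c g = yGrp z c := by
  by_contra hcon
  push Not at hcon
  obtain ⟨hne_a, hne⟩ := hcon
  have D := K.base
  have haA : g * z * g⁻¹ ∉ zA z := fun h => D.not_conj T h hne_a g⁻¹ (by group)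
  have hzY := K.yc_z_notMem (g := g) T
  have hz'' : Commute (g⁻¹ * z * g) z := by
    have := conj_commute g⁻¹ hga
    rw [show g⁻¹ * (g * z * g⁻¹) * g⁻¹⁻¹ = z by group, inv_inv] at this
    exact this.symm
  obtain ⟨y, hy, hy1, hcy⟩ := D.invol_fix hz'' (by
    rw [show g⁻¹ * z * g * (g⁻¹ * z * g) = g⁻¹ * (z * z) * g by group, D.zz]; group)
  have hyz : Commute (g * y * g⁻¹) z := by
    have := conj_commute g hcy
    rw [show g * (g⁻¹ * z * g) * g⁻¹ = z by group] at this
    exact this.symm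
  obtain ⟨hwY, h64, hfix⟩ := K.partner hN hga hzY hne hd haA hy hy1 hyz
  have hw : g * y * g⁻¹ ∈ yc z c g := ⟨y, hy, rfl⟩
  have hw1 : g * y * g⁻¹ ≠ 1 := fun e => hy1 (conj_eq_one_iff.1 e)
  obtain ⟨p, hp, q, hq, hwp, hwq, hpq⟩ := K.d_pair_bb hwY (D.yc_sq hw) h64
  obtain ⟨_, ⟨y', hy', rfl⟩, hw'1, hne'⟩ := D.yc_exists (g := g) (w := g * y * g⁻¹)
  have hy'1 : y' ≠ 1 := fun e => hw'1 (by rw [e]; exact map_one _)
  have hy'z : Commute (g * y' * g⁻¹) z :=
    K.all_comm hN hga hw hw1 hyz hp hq hwp hwq hpq ⟨y', hy', rfl⟩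
  obtain ⟨hwY', h64', hfix'⟩ := K.partner hN hga hzY hne hd haA hy' hy'1 hy'z
  have hJ : g * y' * g⁻¹ ∉ O2c z := K.no_J hN hga hzY hne ⟨y', hy', rfl⟩ hw'1
  have hJw : g * y * g⁻¹ ∉ O2c z := K.no_J hN hga hzY hne hw hw1
  have heq := transvection_eq K.inat (K.act_I hwY) (K.act_I hwY') (K.isInv hyz (D.yc_sq hw)).sq
    (K.act_ne hyz hJw) (K.act_ne hy'z hJ) h64 (by rw [hfix, hfix'])
  have hm : g * y * g⁻¹ * (g * y' * g⁻¹) ∈ yc z c g := mul_mem hw ⟨y', hy', rfl⟩
  refine K.no_J hN hga hzY hne hm (fun e => hne' ?_) ((K.ker (hyz.mul_left hy'z)).1 ?_)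
  · rw [← inv_eq_of_mul_eq_one_right (D.yc_sq hw)]
    exact (inv_eq_of_mul_eq_one_right e).symm
  · rw [K.act_mul hyz hy'z, heq]
    exact (K.isInv hyz (D.yc_sq hw)).sq

end Model

end Cfsg.Agent.FiTwentyThreeByTwo
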