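import Cfsg.Agent.Lib.FiTwentyThreeByTwo.Basic

/-!
# The quotient of `C(z)` by its core: stabilisers, orders, and no fusion of `z` into the rest of `A`
-/

set_option autoImplicit false
set_option linter.unusedSectionVars false

namespace Cfsg.Agent.FiTwentyThreeByTwo

open Subgroup Cfsg.Agent.ThreeTransp.U62Cent Cfsg.Agent.FiTwentyTwoByTwo

universe u' v

variable {G : Type u'} [Group G] [Finite G] {z c : G} {S : Type v} [Group S]

namespace Setup

variable (D : Setup z c)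

include D

theorem J_pgroup : IsPGroup 2 ↥(O2c z) := by
  haveI : Fact (Nat.Prime 2) := ⟨Nat.prime_two⟩
  exact IsPGroup.of_card (n := 11) (by rw [D.card]; norm_num)

theorem cJ_ne {j : G} (hj : j ∈ O2c z) : c ≠ j := by
  intro e
  rcases D.c_J j hj (e ▸ Commute.refl c) with h | h
  · exact D.c_ne (e.trans h)
  · refine D.z_ne ?_
    have h3 := D.c3
    rwa [e, h, D.zz, mul_one] at h3

theorem J_zpowers {j : G} (hj : j ∈ O2c z) {i : ℤ} (h : j * c ^ i ∈ O2c z) : c ^ i = 1 := by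
  have hm : c ^ i ∈ O2c z := by
    have := mul_mem (inv_mem hj) h
    rwa [inv_mul_cancel_left] at this
  obtain ⟨m, r, hr, rfl⟩ : ∃ (m : ℤ) (r : ℤ), (r = 0 ∨ r = 1 ∨ r = 2) ∧ i = 3 * m + r :=
    ⟨i / 3, i % 3, by omega, (Int.mul_ediv_add_emod i 3).symm⟩
  have e3 : c ^ (3 * m) = 1 := by
    rw [zpow_mul, show c ^ (3 : ℤ) = 1 by
      rw [show (3 : ℤ) = 1 + (1 + 1) by norm_num, zpow_add, zpow_add, zpow_one]; exact D.c3, one_zpow]
  rw [zpow_add, e3, one_mul] at hm ⊢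
  rcases hr with rfl | rfl | rfl
  · exact zpow_zero c
  · rw [zpow_one] at hm
    exact absurd rfl (D.cJ_ne hm)
  · rw [zpow_two] at hm
    exfalso
    refine D.cJ_ne (inv_mem hm) ?_
    rw [← D.c_inv, inv_inv]

end Setup

/-- A normal 2-subgroup of the automorphism group of a simple group of order 25920 is trivial. -/
theorem aut_two_trivial (hS : IsSimpleGroup S) (hc : Nat.card S = 25920)
    (hinj : Function.Injective (MulAut.conj : S →* MulAut S)) {N : Subgroup (MulAut S)} [hN : N.Normal]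
    (h2 : IsPGroup 2 ↥N) : N = ⊥ := by
  haveI : Finite S := Nat.finite_of_card_ne_zero (by rw [hc]; norm_num)
  haveI : Fact (Nat.Prime 2) := ⟨Nat.prime_two⟩
  have hn := hN.comap (MulAut.conj : S →* MulAut S)
  rcases hn.eq_bot_or_eq_top with h | h
  · refine eq_bot_iff.2 fun n hn' => mem_bot.2 (MulEquiv.ext fun s => ?_)
    have hconj : ∀ t : S, n * MulAut.conj t * n⁻¹ = MulAut.conj (n t) := fun t => MulEquiv.ext fun u => by
      show n (t * (n⁻¹ : MulAut S) u * t⁻¹) = n t * u * (n t)⁻¹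
      rw [map_mul, map_mul, map_inv, MulAut.apply_inv_self]
    have hcomm : MulAut.conj (n s * s⁻¹) ∈ N := by
      rw [map_mul, map_inv, ← hconj s,
        show n * MulAut.conj s * n⁻¹ * (MulAut.conj s)⁻¹ = n * (MulAut.conj s * n⁻¹ * (MulAut.conj s)⁻¹) by group]
      exact mul_mem hn' (hN.conj_mem _ (inv_mem hn') _)
    have hb : n s * s⁻¹ ∈ N.comap (MulAut.conj : S →* MulAut S) := hcomm
    rw [h, mem_bot, mul_inv_eq_one] at hb
    exact hb
  · exfalso
    have hp : IsPGroup 2 ↥(MulAut.conj : S →* MulAut S).range := h2.to_le (by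
      rintro _ ⟨t, rfl⟩
      exact (h ▸ mem_top t : t ∈ N.comap (MulAut.conj : S →* MulAut S)))
    obtain ⟨k, hk⟩ := IsPGroup.iff_card.1 hp
    rw [← Nat.card_congr (MonoidHom.ofInjective hinj).toEquiv, hc] at hk
    have h3 : 3 ∣ 2 ^ k := hk ▸ (by norm_num)
    exact absurd (Nat.prime_three.dvd_of_dvd_pow h3) (by norm_num)

namespace Setup

variable (D : Setup z c) (T : Top z c S)

include D T

theorem card_H : Nat.card ↥(centralizer ({z} : Set G)) = 3 * (2048 * 51840) := by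
  obtain ⟨φ, hφ, hk⟩ := T.hom
  have hK : Nat.card ↥φ.ker = 2048 * 3 := by
    let f : ↥(O2c z) × Fin 3 → ↥φ.ker := fun p => ⟨⟨(p.1 : G) * c ^ ((p.2 : ℕ) : ℤ),
      mul_mem (mem_cent.2 (commute_of_O2c p.1.2)) (zpow_mem (mem_cent.2 D.c_z) _)⟩,
      (hk _).2 ⟨p.1, p.1.2, _, rfl⟩⟩
    have hinj : Function.Injective f := by
      rintro ⟨j, i⟩ ⟨j', i'⟩ h
      have h' : (j : G) * c ^ ((i : ℕ) : ℤ) = (j' : G) * c ^ ((i' : ℕ) : ℤ) :=
        congrArg (fun x : ↥φ.ker => ((x : ↥(centralizer ({z} : Set G))) : G)) h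
      have h1 : (j' : G)⁻¹ * j * c ^ (((i : ℕ) : ℤ) - ((i' : ℕ) : ℤ)) = 1 := by
        rw [zpow_sub, mul_assoc, ← mul_assoc (j : G), h']
        group
      have h2 := D.J_zpowers (mul_mem (inv_mem j'.2) j.2) (h1.symm ▸ one_mem _)
      rw [h2, mul_one, inv_mul_eq_one] at h1
      have hi : i = i' := by
        by_contra hne
        have h3 : c ^ (((i : ℕ) : ℤ) - ((i' : ℕ) : ℤ)) = 1 := h2
        have ho : orderOf c = 3 := orderOf_eq_prime (by rw [pow_succ, pow_two, mul_assoc]; exact D.c3) D.c_ne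
        have hd := orderOf_dvd_iff_zpow_eq_one.2 h3
        rw [ho] at hd
        have := i.2; have := i'.2
        exact hne (Fin.ext (by omega))
      exact Prod.ext (Subtype.ext h1.symm) hi
    have hsurj : Function.Surjective f := by
      rintro ⟨h, hh⟩
      obtain ⟨j, hj, i, e⟩ := (hk h).1 hh
      refine ⟨⟨⟨j, hj⟩, ⟨(i % 3).toNat, by omega⟩⟩, Subtype.ext (Subtype.ext ?_)⟩
      show j * c ^ (((i % 3).toNat : ℕ) : ℤ) = (h : G)
      rw [e]
      congr 1
      rw [Int.toNat_of_nonneg (by omega)]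
      conv_rhs => rw [← Int.mul_ediv_add_emod i 3, zpow_add, zpow_mul,
        show c ^ (3 : ℤ) = 1 by
          rw [show (3 : ℤ) = 1 + (1 + 1) by norm_num, zpow_add, zpow_add, zpow_one]; exact D.c3,
        one_zpow, one_mul]
    rw [← Nat.card_eq_of_bijective f ⟨hinj, hsurj⟩, Nat.card_prod, D.card, Nat.card_fin]
  rw [φ.ker.card_eq_card_quotient_mul_card_subgroup,
    Nat.card_congr (QuotientGroup.quotientKerEquivOfSurjective φ hφ).toEquiv, T.card_aut, hK]

/-- the stabiliser of an element of the four-group is the automorphism group modulo the core -/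
theorem hom_y {y : G} (hy : y ∈ yGrp z c) (h1 : y ≠ 1) : ∃ ψ : ↥(cH z y) →* MulAut S,
    Function.Surjective ψ ∧ ∀ h, ψ h = 1 ↔ (h : G) ∈ O2c z := by
  obtain ⟨φ, hφ, hk⟩ := T.hom
  refine ⟨φ.comp (inclusion (cH_le z y)), fun s => ?_, fun h => ?_⟩
  · obtain ⟨g, rfl⟩ := hφ s
    have hg := mem_cent.1 g.2
    obtain ⟨k, ⟨i, hki⟩, hkz, hke⟩ := D.class_Y (D.Y_conj hg hy) (fun e => h1 (by simpa using e)) hy h1
    refine ⟨⟨k * g, FiTwentyTwoByTwo.mem_cH.2 ⟨hkz.mul_left hg,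
      mul_inv_eq_iff_eq_mul.1 (Eq.trans (by group) hke)⟩⟩, ?_⟩
    show φ (⟨k * g, _⟩ : ↥(centralizer ({z} : Set G))) = φ g
    rw [show (⟨k * g, mem_cent.2 (hkz.mul_left hg)⟩ : ↥(centralizer ({z} : Set G))) =
      ⟨k, mem_cent.2 hkz⟩ * g from rfl, map_mul,
      (hk ⟨k, _⟩).2 ⟨1, one_mem _, i, by simpa using hki⟩, one_mul]
  · rw [MonoidHom.comp_apply, hk]
    refine ⟨fun ⟨j, hj, i, e⟩ => ?_, fun hJ => ⟨h, hJ, 0, by simp⟩⟩
    have hy' : Commute (h : G) y := (FiTwentyTwoByTwo.mem_cH.1 h.2).2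
    have e' : (h : G) = j * c ^ i := e
    have hci : Commute (c ^ i) y := by
      have := (D.Y_J hy hj).inv_left.mul_left hy'
      rwa [e', inv_mul_cancel_left] at this
    suffices c ^ i = 1 by rw [e', this, mul_one]; exact hj
    obtain ⟨m, r, hr, rfl⟩ : ∃ (m : ℤ) (r : ℤ), (r = 0 ∨ r = 1 ∨ r = 2) ∧ i = 3 * m + r :=
      ⟨i / 3, i % 3, by omega, (Int.mul_ediv_add_emod i 3).symm⟩
    rw [zpow_add, zpow_mul, show c ^ (3 : ℤ) = 1 by
      rw [show (3 : ℤ) = 1 + (1 + 1) by norm_num, zpow_add, zpow_add, zpow_one]; exact D.c3,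
      one_zpow, one_mul] at hci ⊢
    rcases hr with rfl | rfl | rfl
    · exact zpow_zero c
    · rw [zpow_one] at hci
      exact absurd (D.c_Y_fix hy (by rw [hci.eq, mul_inv_cancel_right])) h1
    · exfalso
      refine D.ccy_ne hy h1 ?_
      rw [zpow_two] at hci
      calc c * (c * y * c⁻¹) * c⁻¹ = c * c * y * (c * c)⁻¹ := by group
        _ = y := by rw [hci.eq, mul_inv_cancel_right]

theorem card_cH {x : G} (hx : x ∈ zA z) (h1 : x ≠ 1) (hz : x ≠ z) :
    Nat.card ↥(cH z x) = 2048 * 51840 := by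
  obtain ⟨y, hy, hy1, -, e⟩ := D.exists_rep hx h1 hz
  rw [e]
  obtain ⟨ψ, hψ, hk⟩ := D.hom_y T hy hy1
  have hker : Nat.card ↥ψ.ker = 2048 := by
    rw [← D.card]
    exact Nat.card_congr
      { toFun := fun h => ⟨((h : ↥(cH z y)) : G), (hk _).1 h.2⟩
        invFun := fun j => ⟨⟨j, FiTwentyTwoByTwo.mem_cH.2 ⟨commute_of_O2c j.2, D.Y_J hy j.2⟩⟩, (hk _).2 j.2⟩
        left_inv := fun _ => rfl
        right_inv := fun _ => rfl }
  rw [ψ.ker.card_eq_card_quotient_mul_card_subgroup,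
    Nat.card_congr (QuotientGroup.quotientKerEquivOfSurjective ψ hψ).toEquiv, hker, T.card_aut, mul_comm]

/-- a normal 2-subgroup of such a stabiliser lies in the core -/
theorem two_le {x : G} (hx : x ∈ zA z) (h1 : x ≠ 1) (hz : x ≠ z) {P : Subgroup G} (hP : P ≤ cH z x)
    (hn : ∀ h ∈ cH z x, ∀ p ∈ P, h * p * h⁻¹ ∈ P) (h2 : IsPGroup 2 ↥P) : P ≤ O2c z := by
  obtain ⟨y, hy, hy1, -, e⟩ := D.exists_rep hx h1 hz
  rw [e] at hP hn
  obtain ⟨ψ, hψ, hk⟩ := D.hom_y T hy hy1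
  have hnor : (P.subgroupOf (cH z y)).Normal := ⟨fun n hn' g => mem_subgroupOf.2 (by
    simp only [coe_mul, InvMemClass.coe_inv]
    exact hn _ g.2 _ (mem_subgroupOf.1 hn'))⟩
  haveI := Normal.map hnor ψ hψ
  have hb := aut_two_trivial T.simple T.card T.inj (N := (P.subgroupOf (cH z y)).map ψ)
    ((h2.of_equiv (subgroupOfEquivOfLe hP).symm).map ψ)
  intro p hp
  have : ψ ⟨p, hP hp⟩ = 1 := by
    rw [← mem_bot, ← hb]
    exact mem_map_of_mem ψ (mem_subgroupOf.2 hp)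
  exact (hk _).1 this

omit T in
theorem exists_comm : ∃ x ∈ O2c z, ∃ y ∈ O2c z, x * y = z * (y * x) := by
  obtain ⟨E, hE, hEx, -⟩ := D.compl
  obtain ⟨x, y, hxy⟩ := extra_nonabelian hEx
  exact ⟨x, hE x.2, y, hE y.2, (D.comm _ (hE x.2) _ (hE y.2)).resolve_left fun e => hxy (Subtype.ext e)⟩

/-- Elements of the centre of the core outside `⟨z⟩` are not conjugate to `z`. -/
theorem not_conj {x : G} (hx : x ∈ zA z) (hxz : x ≠ z) (g : G) : g * x * g⁻¹ ≠ z := by
  intro hg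
  haveI : Fact (Nat.Prime 2) := ⟨Nat.prime_two⟩
  by_cases h1 : x = 1
  · exact D.z_ne (by rw [← hg, h1]; group)
  set z' := g * z * g⁻¹ with hz'
  have hxzc : Commute x z := D.A_comm_z hx
  have hz'z : Commute z' z := by
    have := conj_commute g hxzc
    rw [hg] at this
    exact this.symm
  set K := (cH z x).map (MulAut.conj g).toMonoidHom with hK
  have hKle : K ≤ centralizer ({z} : Set G) := by
    rintro _ ⟨h, hh, rfl⟩
    have := conj_commute g (FiTwentyTwoByTwo.mem_cH.1 hh).2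
    rw [hg] at this
    exact mem_cent.2 this
  have hKz' : ∀ k ∈ K, Commute k z' := by
    rintro _ ⟨h, hh, rfl⟩
    exact conj_commute g (FiTwentyTwoByTwo.mem_cH.1 hh).1
  have hKall : ∀ k, Commute k z → Commute k z' → k ∈ K := fun k hk hk' => by
    refine ⟨g⁻¹ * k * g, FiTwentyTwoByTwo.mem_cH.2 ⟨?_, ?_⟩, by
      show g * (g⁻¹ * k * g) * g⁻¹ = k; group⟩
    · have := conj_commute g⁻¹ hk'
      rwa [hz', show g⁻¹ * (g * z * g⁻¹) * g⁻¹⁻¹ = z by group, inv_inv] at this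
    · have := conj_commute g⁻¹ hk
      rwa [show g⁻¹ * z * g⁻¹⁻¹ = x by rw [← hg]; group, inv_inv] at this
  have hKc : Nat.card ↥K = 2048 * 51840 := by
    rw [card_map_of_injective (MulAut.conj g).injective, D.card_cH T hx h1 hxz]
  -- the core lies in `K`
  have hJK : O2c z ≤ K := by
    set C := centralizer ({z} : Set G) with hC
    set K0 := K.subgroupOf C with hK0
    obtain ⟨P⟩ := (Sylow.nonempty : Nonempty (Sylow 2 ↥K0))
    have hK0c : Nat.card ↥K0 = 2048 * 51840 := by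
      rw [hK0, Nat.card_congr (subgroupOfEquivOfLe hKle).toEquiv, hKc]
    have hidx : ¬ 2 ∣ ((P : Subgroup ↥K0).map K0.subtype).index := by
      have h1 := K0.card_mul_index
      rw [hK0c, D.card_H T] at h1
      have h3 : K0.index = 3 := by omega
      rw [index_map_subtype, h3]
      intro hd
      rcases (Nat.prime_two.dvd_mul).1 hd with h | h
      · exact P.not_dvd_index h
      · norm_num at h
    let Q : Sylow 2 ↥C := (P.2.map K0.subtype).toSylow hidx
    intro j hj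
    obtain ⟨jc, hjc, rfl⟩ := hj
    have : jc ∈ (Q : Subgroup ↥C) := Cfsg.Agent.Cores.pCore_le_sylow Q hjc
    obtain ⟨p, -, e⟩ := this
    rw [← e]
    exact mem_subgroupOf.1 p.2
  have hz'A : z' ∈ zA z := D.mem_A.2 fun j hj => (hKz' j (hJK hj)).symm
  have hz'ne : z' ≠ z := fun e => hxz (by
    have hgz : g⁻¹ * z * g = z := by
      calc g⁻¹ * z * g = g⁻¹ * z' * g := by rw [e]
        _ = z := by rw [hz']; group
    rw [← hgz, ← hg]; group)
  have hz'1 : z' ≠ 1 := fun e => D.z_ne (by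
    calc z = g⁻¹ * z' * g := by rw [hz']; group
      _ = 1 := by rw [e]; group)
  have hle : (O2c z).map (MulAut.conj g).toMonoidHom ≤ O2c z := by
    refine D.two_le T hz'A hz'1 hz'ne ?_ ?_ (D.J_pgroup.map _)
    · rintro _ ⟨j, hj, rfl⟩
      have hjK : g * j * g⁻¹ ∈ K := ⟨j, FiTwentyTwoByTwo.mem_cH.2
        ⟨commute_of_O2c hj, (D.A_comm_J hx hj).symm⟩, rfl⟩
      exact FiTwentyTwoByTwo.mem_cH.2 ⟨mem_cent.1 (hKle hjK), hKz' _ hjK⟩
    · rintro h hh _ ⟨j, hj, rfl⟩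
      obtain ⟨h', hh', e⟩ := hKall h (FiTwentyTwoByTwo.mem_cH.1 hh).1 (FiTwentyTwoByTwo.mem_cH.1 hh).2
      refine ⟨h' * j * h'⁻¹, conj_O2c (FiTwentyTwoByTwo.mem_cH.1 hh').1 hj, ?_⟩
      rw [← e]
      show g * (h' * j * h'⁻¹) * g⁻¹ = g * h' * g⁻¹ * (g * j * g⁻¹) * (g * h' * g⁻¹)⁻¹
      group
  obtain ⟨p, hp, q, hq, hpq⟩ := D.exists_comm
  have e1 : g * p * g⁻¹ * (g * q * g⁻¹) = z' * (g * q * g⁻¹ * (g * p * g⁻¹)) := by
    rw [hz', show g * p * g⁻¹ * (g * q * g⁻¹) = g * (p * q) * g⁻¹ by group, hpq]; group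
  rcases D.comm _ (hle (mem_map_of_mem _ hp)) _ (hle (mem_map_of_mem _ hq)) with e | e
  · exact hz'1 (mul_eq_right.1 (e1.symm.trans e))
  · exact hz'ne (mul_right_cancel (e1.symm.trans e))

/-- modulo an element of the centre of the core, only `z` is a conjugate of `z` -/
theorem conj_eq {x : G} (hx : x ∈ zA z) (h1 : x ≠ 1) {g : G}
    (h : g * z * g⁻¹ = z ∨ g * z * g⁻¹ = z * x) : g * z * g⁻¹ = z := by
  refine h.resolve_right fun e => ?_
  refine D.not_conj T (mul_mem D.z_A hx) (fun e' => h1 (mul_eq_left.1 e')) g⁻¹ ?_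
  rw [← e]; group

end Setup

end Cfsg.Agent.FiTwentyThreeByTwo
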