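import Cfsg.Agent.Lib.FiTwentyThreeByTwo.Model
import Cfsg.Agent.Lib.FiTwentyTwoByTwo.Pairs
import Cfsg.Agent.Lib.FiTwentyTwoByTwo.Scalar

/-!
# Involutions of `C(z)` on the core modulo its centre
-/

set_option autoImplicit false
set_option linter.unusedSectionVars false
set_option maxRecDepth 100000

namespace Cfsg.Agent.FiTwentyThreeByTwo

open Subgroup Cfsg.Agent.ThreeTransp.U62Cent Cfsg.Agent.ThreeTransp.U62Cent.W8 Cfsg.Agent.FiTwentyTwoByTwo

universe u'

variable {G : Type u'} [Group G] [Finite G] {z c : G}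

theorem card_W8 : Nat.card W8 = 256 := by show Nat.card (Fin 256) = 256; simp

namespace Setup

variable (D : Setup z c)

include D

theorem swap_A {s y : G} (hy : y ∈ yGrp z c) (h1 : y ≠ 1) (hsz : Commute s z) (hsy : Commute s y)
    (hsc : s * (c * y * c⁻¹) * s⁻¹ = y * (c * y * c⁻¹)) {a : G} (ha : a ∈ zA z) :
    (Commute s a ∧ (a = 1 ∨ a = z ∨ a = y ∨ a = z * y)) ∨ s * a * s⁻¹ = y * a := by
  have hY : ∀ x ∈ yGrp z c, (Commute s x ∧ (x = 1 ∨ x = y)) ∨ s * x * s⁻¹ = y * x := by
    intro x hx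
    rcases D.Y_cases hy h1 hx with rfl | rfl | rfl | rfl
    · exact Or.inl ⟨Commute.one_right s, Or.inl rfl⟩
    · exact Or.inl ⟨hsy, Or.inr rfl⟩
    · exact Or.inr hsc
    · right
      rw [D.ccy_eq hy h1, ← mul_assoc y y, D.Y_sq hy, one_mul,
        show s * (y * (c * y * c⁻¹)) * s⁻¹ = (s * y * s⁻¹) * (s * (c * y * c⁻¹) * s⁻¹) by group,
        hsy.eq, mul_inv_cancel_right, hsc, ← mul_assoc, D.Y_sq hy, one_mul]
  rcases D.A_cases ha with e | e
  · rcases hY a e with ⟨h, h'⟩ | h
    · exact Or.inl ⟨h, by tauto⟩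
    · exact Or.inr h
  · have e' : z * (z * a) = a := by rw [← mul_assoc, D.zz, one_mul]
    rcases hY _ e with ⟨h, h'⟩ | h
    · left
      refine ⟨?_, ?_⟩
      · have := hsz.mul_right h
        rwa [e'] at this
      · rcases h' with h' | h' <;> rw [← e', h']
        · exact Or.inr (Or.inl (mul_one z))
        · exact Or.inr (Or.inr (Or.inr rfl))
    · right
      calc s * a * s⁻¹ = s * (z * (z * a)) * s⁻¹ := by rw [e']
        _ = (s * z * s⁻¹) * (s * (z * a) * s⁻¹) := by group
        _ = z * (y * (z * a)) := by rw [hsz.eq, mul_inv_cancel_right, h]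
        _ = y * a := by rw [← mul_assoc z y, ← (D.Y_z hy).eq, mul_assoc, e']

end Setup

/-- the natural-shaped group as a range -/
def rngI {I : Subgroup (Equiv.Perm W8)} (hN : INat I) : Rng where
  e := true
  R := I
  I := I
  I_le := le_rfl
  iso t ht := ⟨(hN.le ht).add, (hN.le ht).q, fun h => absurd h (by decide)⟩
  mul_mem_iff t ht s hs := iff_of_true (mul_mem ht hs) (iff_of_true ht hs)
  shape := Or.inl ⟨rfl, hN⟩
  cent t ht h := by
    haveI := hN.simple
    have hc : (⟨t, ht⟩ : ↥I) ∈ Subgroup.center ↥I := mem_center_iff.2 fun g => Subtype.ext (h g g.2).symm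
    rcases (inferInstance : (Subgroup.center ↥I).Normal).eq_bot_or_eq_top with e | e
    · rw [e, mem_bot] at hc
      exact congrArg Subtype.val hc
    · letI : CommGroup ↥I :=
        { (inferInstance : Group ↥I) with
          mul_comm := fun a b => mem_center_iff.1 (e ▸ mem_top b : b ∈ Subgroup.center _) a }
      have hp := IsSimpleGroup.prime_card (α := ↥I)
      rw [hN.card] at hp
      norm_num at hp
  semi _ _ t ht hI := absurd ht hI
  six_map hS t ht d hd := GS_six (hS.le ht) hd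
  flip_six _ t ht hI := absurd ht hI

/-- Two transvections of the natural group with one fixed space are equal. -/
theorem transvection_eq {I : Subgroup (Equiv.Perm W8)} (hN : INat I) {t s : Equiv.Perm W8} (ht : t ∈ I)
    (hs : s ∈ I) (ht2 : t * t = 1) (ht1 : t ≠ 1) (hs1 : s ≠ 1) (h64 : (fixV t).ncard = 64)
    (h : fixV t ⊆ fixV s) : s = t := by
  obtain ⟨y, hy, hc⟩ := hN.classes ht ht2 ht1
  rcases hc with hc | hc
  swap
  · exfalso
    have : (fixV t).ncard = 16 := by
      rw [← Set.ncard_image_of_injective (fixV t) y.injective, ← N.ncard_fix1]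
      congr 1
      ext x
      constructor
      · rintro ⟨x, hx, rfl⟩; exact (transport_fix hc).1 hx
      · intro hx
        exact ⟨y.symm x, (transport_fix hc).2 (by rw [Equiv.apply_symm_apply]; exact hx),
          y.apply_symm_apply x⟩
    omega
  set s' := y * s * y⁻¹ with hs'
  have hs'I : s' ∈ I := mul_mem (mul_mem hy hs) (inv_mem hy)
  have hfix : ∀ v ∈ N.C0, s' v = v := fun v hv => by
    have h1 : y⁻¹ v ∈ fixV t := (transport_fix hc).2 (by
      rw [Equiv.Perm.inv_def, Equiv.apply_symm_apply]; exact (N.C0_iff v).2 hv)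
    show y (s (y⁻¹ v)) = v
    rw [show s (y⁻¹ v) = y⁻¹ v from h h1]
    simp
  rcases N.fix0_group (hN.le hs'I) hfix with e | e
  · exact absurd (by rwa [hs', mul_inv_eq_one, mul_eq_left] at e) hs1
  · have : y * s * y⁻¹ = y * t * y⁻¹ := Equiv.ext fun v => (e v).trans (hc v).symm
    exact mul_left_cancel (mul_right_cancel this)

theorem hyper_facts : (∀ v ∈ vecs [16, 32, 64, 128], v ∈ N.C0) ∧
    ∀ f : Bool × Bool × Bool × Bool, ∃ p ∈ vecs [16, 32, 48, 64, 128, 192, 80, 144, 208, 96, 160, 224, 112, 176, 240],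
      ∃ q ∈ vecs [16, 32, 48, 64, 128, 192, 80, 144, 208, 96, 160, 224, 112, 176, 240], bb p q = true ∧
        (xor (xor (p.bit 4 && f.1) (p.bit 5 && f.2.1)) (xor (p.bit 6 && f.2.2.1) (p.bit 7 && f.2.2.2))) = false ∧
        (xor (xor (q.bit 4 && f.1) (q.bit 5 && f.2.1)) (xor (q.bit 6 && f.2.2.1) (q.bit 7 && f.2.2.2))) = false := by
  decide +kernel

theorem bits_facts : ∀ v ∈ vecs [16, 32, 48, 64, 128, 192, 80, 144, 208, 96, 160, 224, 112, 176, 240],
    v = (if v.bit 4 then W8.mk 16 else 0) + (if v.bit 5 then W8.mk 32 else 0) +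
      ((if v.bit 6 then W8.mk 64 else 0) + (if v.bit 7 then W8.mk 128 else 0)) := by decide +kernel

/-- A hyperplane of the fixed space of a transvection is not totally isotropic. -/
theorem transvection_pair {I : Subgroup (Equiv.Perm W8)} (hN : INat I) {t : Equiv.Perm W8} (ht : t ∈ I)
    (ht2 : t * t = 1) (ht1 : t ≠ 1) (h64 : (fixV t).ncard = 64) {f : W8 → Bool}
    (hf : ∀ v ∈ fixV t, ∀ w ∈ fixV t, f (v + w) = xor (f v) (f w)) :
    ∃ p ∈ fixV t, ∃ q ∈ fixV t, f p = false ∧ f q = false ∧ bb p q = true := by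
  obtain ⟨y, hy, hc⟩ := hN.classes ht ht2 ht1
  rcases hc with hc | hc
  swap
  · exfalso
    have : (fixV t).ncard = 16 := by
      rw [← Set.ncard_image_of_injective (fixV t) y.injective, ← N.ncard_fix1]
      congr 1
      ext x
      constructor
      · rintro ⟨x, hx, rfl⟩; exact (transport_fix hc).1 hx
      · intro hx
        exact ⟨y.symm x, (transport_fix hc).2 (by rw [Equiv.apply_symm_apply]; exact hx),
          y.apply_symm_apply x⟩
    omega
  have hyi := hN.le (inv_mem hy)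
  obtain ⟨hC, hall⟩ := hyper_facts
  set g : W8 → W8 := fun v => (y⁻¹ : Equiv.Perm W8) v with hg
  have hfix : ∀ v ∈ vecs [16, 32, 64, 128], g v ∈ fixV t := fun v hv => (transport_fix hc).2 (by
    rw [hg, Equiv.Perm.inv_def, Equiv.apply_symm_apply]; exact (N.C0_iff v).2 (hC v hv))
  have hti := (hN.le ht).add
  have h0 : (0 : W8) ∈ fixV t := additive_zero hti
  have hadd : ∀ {v w}, v ∈ fixV t → w ∈ fixV t → v + w ∈ fixV t := fun {v w} hv hw => by
    show t (v + w) = v + w
    rw [hti, show t v = v from hv, show t w = w from hw]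
  have hf0 : f 0 = false := by
    have := hf 0 h0 0 h0
    rw [add_zero] at this
    simpa using this
  obtain ⟨p, hp, q, hq, hpq, hfp, hfq⟩ :=
    hall (f (g (W8.mk 16)), f (g (W8.mk 32)), f (g (W8.mk 64)), f (g (W8.mk 128)))
  have key : ∀ v ∈ vecs [16, 32, 48, 64, 128, 192, 80, 144, 208, 96, 160, 224, 112, 176, 240],
      g v ∈ fixV t ∧ f (g v) = xor (xor (v.bit 4 && f (g (W8.mk 16))) (v.bit 5 && f (g (W8.mk 32))))
        (xor (v.bit 6 && f (g (W8.mk 64))) (v.bit 7 && f (g (W8.mk 128)))) := by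
    intro v hv
    have one : ∀ w ∈ vecs [16, 32, 64, 128], ∀ b : Bool, g (if b then w else 0) ∈ fixV t ∧
        f (g (if b then w else 0)) = (b && f (g w)) := fun w hw b => by
      cases b
      · simp only [Bool.false_eq_true, if_false, Bool.false_and, hg, hyi.map_zero]
        exact ⟨h0, hf0⟩
      · exact ⟨hfix w hw, by simp⟩
    have e := congrArg g (bits_facts v hv)
    simp only [hg, hyi.add] at e
    obtain ⟨a1, b1⟩ := one (W8.mk 16) (by decide +kernel) (v.bit 4)
    obtain ⟨a2, b2⟩ := one (W8.mk 32) (by decide +kernel) (v.bit 5)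
    obtain ⟨a3, b3⟩ := one (W8.mk 64) (by decide +kernel) (v.bit 6)
    obtain ⟨a4, b4⟩ := one (W8.mk 128) (by decide +kernel) (v.bit 7)
    simp only [hg] at a1 a2 a3 a4 b1 b2 b3 b4 ⊢
    rw [e, hf _ (hadd a1 a2) _ (hadd a3 a4), hf _ a1 _ a2, hf _ a3 _ a4, b1, b2, b3, b4]
    exact ⟨hadd (hadd a1 a2) (hadd a3 a4), rfl⟩
  refine ⟨g p, (key p hp).1, g q, (key q hq).1, by rw [(key p hp).2]; exact hfp,
    by rw [(key q hq).2]; exact hfq, ?_⟩
  rw [hg]
  exact (hyi.bb p q).trans hpq

namespace Model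

variable (K : Model z c)

include K

theorem act_J {x : G} (hx : x ∈ O2c z) : K.act x = 1 := (K.ker (commute_of_O2c hx)).2 hx

theorem act_one : K.act 1 = 1 := K.act_J (one_mem _)

theorem act_A {a : G} (ha : a ∈ zA z) : K.act a = 1 := K.act_J (K.base.A_le ha)

theorem vec_A {a : G} (ha : a ∈ zA z) : K.vec a = 0 := (K.vec_eq_zero (K.base.A_le ha)).2 ha

theorem vec_inv {x : G} (hx : x ∈ O2c z) : K.vec x⁻¹ = K.vec x := by
  have h := K.vec_mul hx (inv_mem hx)
  rw [mul_inv_cancel, K.vec_A (one_mem _)] at h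
  exact (W8.eq_of_add h.symm).symm

theorem eq_mul_A {x y : G} (hx : x ∈ O2c z) (hy : y ∈ O2c z) (h : K.vec x = K.vec y) : x⁻¹ * y ∈ zA z :=
  (K.vec_eq_zero (mul_mem (inv_mem hx) hy)).1 (by
    rw [K.vec_mul (inv_mem hx) hy, K.vec_inv hx, h, W8.add_self])

/-- a chosen lift -/
noncomputable def lift (v : W8) : G := (K.surj v).choose

theorem lift_mem (v : W8) : K.lift v ∈ O2c z := (K.surj v).choose_spec.1

theorem vec_lift (v : W8) : K.vec (K.lift v) = v := (K.surj v).choose_spec.2

theorem act_inv {h : G} (hh : Commute h z) : K.act h⁻¹ = (K.act h)⁻¹ := by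
  rw [eq_inv_iff_mul_eq_one, ← K.act_mul hh.inv_left hh, inv_mul_cancel, K.act_one]

theorem act_conj {g h : G} (hg : Commute g z) (hh : Commute h z) :
    K.act (g * h * g⁻¹) = K.act g * K.act h * (K.act g)⁻¹ := by
  rw [K.act_mul (hg.mul_left hh) hg.inv_left, K.act_mul hg hh, K.act_inv hg]

theorem act_I {h : G} (hh : h ∈ cY z c) : K.act h ∈ K.I := (K.range _).2 ⟨h, hh, rfl⟩

theorem iso {h : G} (hh : Commute h z) : IsIso true false (K.act h) := by
  refine ⟨fun v w => ?_, fun v => ?_, fun hs => absurd hs (by decide)⟩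
  · rw [← K.vec_lift v, ← K.vec_lift w, ← K.vec_mul (K.lift_mem v) (K.lift_mem w),
      ← K.act_vec hh (mul_mem (K.lift_mem v) (K.lift_mem w)), ← K.act_vec hh (K.lift_mem v),
      ← K.act_vec hh (K.lift_mem w), ← K.vec_mul (conj_O2c hh (K.lift_mem v)) (conj_O2c hh (K.lift_mem w))]
    congr 1
    group
  · have hx := K.lift_mem v
    refine zb_ne K.base.z_ne ?_
    rw [← K.vec_lift v, ← K.act_vec hh hx, ← K.sq (conj_O2c hh hx), ← K.sq hx,
      show h * K.lift v * h⁻¹ * (h * K.lift v * h⁻¹) = h * (K.lift v * K.lift v) * h⁻¹ by group]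
    rcases K.base.sq _ hx with e | e <;> rw [e]
    · group
    · rw [hh.eq, mul_inv_cancel_right]

theorem isInv {h : G} (hh : Commute h z) (h2 : h * h = 1) : IsInv true (K.act h) :=
  ⟨K.iso hh, by rw [← K.act_mul hh hh, h2, K.act_one]⟩

theorem kcomm {h : G} (hh : h ∈ cY z c) (v : W8) : K.act h (K.act c v) = K.act c (K.act h v) := by
  obtain ⟨j, hj, e⟩ := K.base.cY_mod hh
  have hz := (K.base.mem_cY.1 hh).1
  have h1 : K.act (h * c) = K.act (c * h) := by
    rw [show h * c = j * (c * h) by rw [← mul_assoc, ← e]; group,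
      K.act_mul (commute_of_O2c hj) (K.base.c_z.mul_left hz), K.act_J hj, one_mul]
  rw [K.act_mul hz K.base.c_z, K.act_mul K.base.c_z hz] at h1
  exact congrArg (fun f : Equiv.Perm W8 => f v) h1

theorem kinv {h : G} (hh : Commute h z) (h2 : h * h = 1) (hn : h ∉ cY z c) (v : W8) :
    K.act h (K.act c v) = K.act c (K.act c (K.act h v)) := by
  obtain ⟨j, hj, e⟩ := K.base.invol_inverts hh h2 hn
  have hcc : Commute (c * c) z := K.base.c_z.mul_left K.base.c_z
  have h1 : K.act (h * c) = K.act ((c * c) * h) := by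
    rw [show h * c = j * ((c * c) * h) by rw [← K.base.c_inv, ← mul_assoc, ← e]; group,
      K.act_mul (commute_of_O2c hj) (hcc.mul_left hh), K.act_J hj, one_mul]
  rw [K.act_mul hh K.base.c_z, K.act_mul hcc hh, K.act_mul K.base.c_z K.base.c_z] at h1
  exact congrArg (fun f : Equiv.Perm W8 => f v) h1

theorem act_ne {h : G} (hh : Commute h z) (hJ : h ∉ O2c z) : K.act h ≠ 1 := fun e => hJ ((K.ker hh).1 e)

theorem fix_mul_im {h : G} (hh : Commute h z) :
    (fixV (K.act h)).ncard * (imV (K.act h)).ncard = 256 := by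
  have := card_fix_mul_im (S := Set.univ) (Set.mem_univ 0) (fun _ _ _ _ => Set.mem_univ _)
    (K.iso hh).add (fun _ _ => Set.mem_univ _)
  rw [Set.inter_univ, Set.image_univ] at this
  rw [show imV (K.act h) = Set.range fun v => K.act h v + v from rfl, this, Set.ncard_univ]
  exact card_W8

theorem im_sub {h : G} (hh : Commute h z) (h2 : h * h = 1) : imV (K.act h) ⊆ fixV (K.act h) :=
  fun _ hv => (K.isInv hh h2).im_fix hv

theorem fix_lin {h : G} (hh : h ∈ cY z c) (h2 : h * h = 1) (hJ : h ∉ O2c z) :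
    (fixV (K.act h)).ncard = 64 ∨ (fixV (K.act h)).ncard = 16 :=
  INat'.fix_cases K.inat (K.act_I hh) (K.isInv (K.base.mem_cY.1 hh).1 h2).sq
    (K.act_ne (K.base.mem_cY.1 hh).1 hJ)

theorem fix_outer_disj {h : G} (hh : Commute h z) (h2 : h * h = 1) (hn : h ∉ cY z c) {v : W8}
    (hv : K.act h v = v) (hkv : K.act h (K.act c v) = K.act c v) : v = 0 := by
  rw [K.kinv hh h2 hn, hv] at hkv
  exact K.kfix v ((K.act c).injective hkv)

theorem fix_add {h : G} (hh : Commute h z) {v w : W8} (hv : v ∈ fixV (K.act h)) (hw : w ∈ fixV (K.act h)) :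
    v + w ∈ fixV (K.act h) := by
  show K.act h (v + w) = v + w
  rw [(K.iso hh).add, show K.act h v = v from hv, show K.act h w = w from hw]

theorem fix_outer {h : G} (hh : Commute h z) (h2 : h * h = 1) (hn : h ∉ cY z c) :
    (fixV (K.act h)).ncard = 16 := by
  set F := fixV (K.act h) with hF
  have hinj : (F ×ˢ F).ncard ≤ (Set.univ : Set W8).ncard := by
    refine Set.ncard_le_ncard_of_injOn (fun p => p.1 + K.act c p.2) (fun _ _ => Set.mem_univ _) ?_
      (Set.toFinite _)
    rintro ⟨a, b⟩ ⟨ha, hb⟩ ⟨a', b'⟩ ⟨ha', hb'⟩ e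
    have e' : a + a' = K.act c (b + b') := by
      rw [(K.iso K.base.c_z).add]
      have := congrArg (fun x => x + a' + K.act c b) e
      simp only [add_assoc] at this
      calc a + a' = a + K.act c b + (a' + K.act c b) := by
            rw [add_add_add_comm, W8.add_self, add_zero]
        _ = a' + K.act c b' + (a' + K.act c b) := by rw [show a + K.act c b = a' + K.act c b' from e]
        _ = _ := by rw [add_add_add_comm, W8.add_self, zero_add, add_comm]
    have hb0 : b + b' = 0 := K.fix_outer_disj hh h2 hn (K.fix_add hh hb hb')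
      (by rw [← e']; exact K.fix_add hh ha ha')
    obtain rfl := W8.eq_of_add hb0
    rw [W8.add_self, (K.iso K.base.c_z).map_zero] at e'
    rw [W8.eq_of_add e']
  rw [Set.ncard_prod, Set.ncard_univ, card_W8] at hinj
  have h1 := K.fix_mul_im hh
  rw [← hF] at h1
  have h3 := Set.ncard_le_ncard (K.im_sub hh h2) (Set.toFinite _)
  rw [← hF] at h3
  nlinarith

theorem fix_le {h : G} (hh : Commute h z) (h2 : h * h = 1) (hJ : h ∉ O2c z) :
    (fixV (K.act h)).ncard ≤ 64 := by
  by_cases hY : h ∈ cY z c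
  · rcases K.fix_lin hY h2 hJ with e | e <;> omega
  · rw [K.fix_outer hh h2 hY]; norm_num

theorem mv_A {h x : G} (hh : Commute h z) (hx : x ∈ O2c z) (hf : K.act h (K.vec x) = K.vec x) :
    mv h x ∈ zA z := by
  refine (K.vec_eq_zero (mul_mem (conj_O2c hh hx) (inv_mem hx))).1 ?_
  rw [K.vec_mul (conj_O2c hh hx) (inv_mem hx), K.vec_inv hx, K.act_vec hh hx, hf, W8.add_self]

theorem mv_mul {h x x' : G} (hh : Commute h z) (hx : x ∈ O2c z) (hx' : x' ∈ O2c z)
    (hf : K.act h (K.vec x') = K.vec x') : mv h (x * x') = mv h x * mv h x' := by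
  calc mv h (x * x') = h * x * h⁻¹ * (mv h x' * x⁻¹) := by unfold mv; group
    _ = h * x * h⁻¹ * (x⁻¹ * mv h x') := by rw [(K.base.A_comm_J (K.mv_A hh hx' hf) hx).inv_right.eq]
    _ = _ := by unfold mv; group

/-- the fixed vectors lifting to elements of the core moved at most by `z` -/
theorem lift_fix {h : G} (hh : Commute h z) (h2 : h * h = 1) (hJ : h ∉ O2c z) {p : W8}
    (hp : K.act h p = p) : ∃ x ∈ O2c z, K.vec x = p ∧ (mv h x = 1 ∨ mv h x = z) := by
  classical
  have D := K.base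
  have hhi : h⁻¹ = h := inv_eq_of_mul_eq_one_right h2
  by_cases hY : h ∈ cY z c
  · -- inner: two invariant functionals
    refine ⟨K.lift p, K.lift_mem p, K.vec_lift p, ?_⟩
    set m := mv h (K.lift p) with hm
    have hmA : m ∈ zA z := K.mv_A hh (K.lift_mem p) (by rw [K.vec_lift, hp])
    have key : ∀ y ∈ yGrp z c, y ≠ 1 → m = 1 ∨ m = z ∨ m = y ∨ m = z * y := by
      intro y hy hy1
      obtain ⟨s, hsz, hsy, hsc⟩ := D.exists_swap hy hy1
      let f : W8 → Bool := fun v => decide (¬ Commute s (mv h (K.lift v)))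
      have heq : ∀ {v x}, x ∈ O2c z → K.vec x = v → K.act h v = v → mv h x = mv h (K.lift v) := by
        intro v x hx e hv
        have hA := K.eq_mul_A (K.lift_mem v) hx (by rw [K.vec_lift, e])
        calc mv h x = mv h (K.lift v * ((K.lift v)⁻¹ * x)) := by rw [mul_inv_cancel_left]
          _ = mv h (K.lift v) * mv h ((K.lift v)⁻¹ * x) := K.mv_mul hh (K.lift_mem v) (D.A_le hA)
              (by rw [K.vec_A hA, (K.iso hh).map_zero])
          _ = _ := by rw [mv_eq_one_iff'.2 (D.commute_A hY hA), mul_one]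
      have hxor : ∀ a ∈ zA z, ∀ b ∈ zA z,
          decide (¬ Commute s (a * b)) = xor (decide (¬ Commute s a)) (decide (¬ Commute s b)) := by
        intro a ha b hb
        by_cases h1 : Commute s a <;> by_cases h3 : Commute s b
        · simp [h1, h3, h1.mul_right h3]
        · have : ¬ Commute s (a * b) := fun h4 => h3 (by
            have := h1.inv_right.mul_right h4
            rwa [inv_mul_cancel_left] at this)
          simp [h1, h3, this]
        · have : ¬ Commute s (a * b) := fun h4 => h1 (by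
            have := h4.mul_right h3.inv_right
            rwa [mul_inv_cancel_right] at this)
          simp [h1, h3, this]
        · have e1 := (D.swap_A hy hy1 hsz hsy hsc ha).resolve_left fun h4 => h1 h4.1
          have e2 := (D.swap_A hy hy1 hsz hsy hsc hb).resolve_left fun h4 => h3 h4.1
          have : Commute s (a * b) := mul_inv_eq_iff_eq_mul.1 (by
            calc s * (a * b) * s⁻¹ = (s * a * s⁻¹) * (s * b * s⁻¹) := by group
              _ = (y * a) * (y * b) := by rw [e1, e2]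
              _ = a * b := by
                rw [(D.A_comm (D.Y_le hy) ha).symm.mul_mul_mul_comm, D.Y_sq hy, one_mul])
          simp [h1, h3, this]
      have hg := K.isInv hh h2
      have hadd : ∀ v w, K.act h v = v → K.act h w = w → f (v + w) = xor (f v) (f w) := by
        intro v w hv hw
        have hvw : K.act h (v + w) = v + w := K.fix_add hh hv hw
        have e := heq (mul_mem (K.lift_mem v) (K.lift_mem w))
          (by rw [K.vec_mul (K.lift_mem v) (K.lift_mem w), K.vec_lift, K.vec_lift]) hvw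
        show decide (¬ Commute s (mv h (K.lift (v + w)))) = _
        rw [← e, K.mv_mul hh (K.lift_mem v) (K.lift_mem w) (by rw [K.vec_lift, hw]),
          hxor _ (K.mv_A hh (K.lift_mem v) (by rw [K.vec_lift, hv]))
            _ (K.mv_A hh (K.lift_mem w) (by rw [K.vec_lift, hw]))]
      have him : ∀ v, f (K.act h v + v) = false := by
        intro v
        have hk := K.lift_mem v
        have hmv : mv h (K.lift v) ∈ O2c z := mul_mem (conj_O2c hh hk) (inv_mem hk)
        have e := heq hmv (v := K.act h v + v)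
          (by rw [K.vec_mul (conj_O2c hh hk) (inv_mem hk), K.vec_inv hk, K.act_vec hh hk, K.vec_lift])
          (hg.im_fix ⟨v, rfl⟩)
        have e1 : mv h (mv h (K.lift v)) = ((mv h (K.lift v)) * (mv h (K.lift v)))⁻¹ := by
          calc mv h (mv h (K.lift v)) = (h * h) * K.lift v * (h⁻¹ * h⁻¹) * (h * (K.lift v)⁻¹ * h⁻¹) *
              (mv h (K.lift v))⁻¹ := by unfold mv; group
            _ = K.lift v * (h * (K.lift v)⁻¹ * h⁻¹) * (mv h (K.lift v))⁻¹ := by rw [hhi, h2]; group
            _ = _ := by unfold mv; group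
        have hcm : Commute s (mv h (mv h (K.lift v))) := by
          rw [e1]
          refine Commute.inv_right ?_
          rcases D.sq _ hmv with e2 | e2 <;> rw [e2]
          exacts [Commute.one_right s, hsz]
        exact decide_eq_false (fun hn => hn (e ▸ hcm))
      have hinv : ∀ k ∈ K.I, k * K.act h = K.act h * k → ∀ v, K.act h v = v → f (k v) = f v := by
        intro k hk hc v hv
        obtain ⟨k', hk', rfl⟩ := (K.range k).1 hk
        obtain ⟨hkz, hkY⟩ := D.mem_cY.1 hk'
        have hkv : K.act h (K.act k' v) = K.act k' v := by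
          have := congrArg (fun g : Equiv.Perm W8 => g v) hc
          simp only [Equiv.Perm.mul_apply] at this
          rw [← this, hv]
        set x := K.lift v with hx
        have hxJ : x ∈ O2c z := K.lift_mem v
        have e := heq (conj_O2c hkz hxJ) (v := K.act k' v) (by rw [K.act_vec hkz hxJ, hx, K.vec_lift]) hkv
        set j := h⁻¹ * (k'⁻¹ * h * k') with hj
        have hh' : Commute (k'⁻¹ * h * k') z := (hkz.inv_left.mul_left hh).mul_left hkz
        have hjJ : j ∈ O2c z := (K.ker (hh.inv_left.mul_left hh')).1 (by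
          rw [K.act_mul hh.inv_left hh', K.act_mul (hkz.inv_left.mul_left hh) hkz,
            K.act_mul hkz.inv_left hh, K.act_inv hh, K.act_inv hkz, mul_assoc ((K.act k')⁻¹), ← hc,
            inv_mul_cancel_left, inv_mul_cancel])
        have e2 : mv h (k' * x * k'⁻¹) = k' * (h * mv j x * h⁻¹ * mv h x) * k'⁻¹ := by
          rw [hj]; unfold mv; group
        have hjx : mv j x = 1 ∨ mv j x = z := by
          rcases D.comm _ hjJ _ hxJ with e3 | e3 <;>
            rw [show mv j x = j * x * (x * j)⁻¹ by unfold mv; group, e3]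
          · exact Or.inl (mul_inv_cancel _)
          · exact Or.inr (mul_inv_cancel_right z _)
        have hmA' : mv h x ∈ zA z := K.mv_A hh hxJ (by rw [hx, K.vec_lift, hv])
        have hcmA : k' * mv h x * k'⁻¹ = mv h x := by
          rw [(D.commute_A hk' hmA').eq, mul_inv_cancel_right]
        have hiff : Commute s (mv h (k' * x * k'⁻¹)) ↔ Commute s (mv h x) := by
          rw [e2]
          rcases hjx with e3 | e3 <;> rw [e3]
          · rw [mul_one, mul_inv_cancel, one_mul, hcmA]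
          · rw [hh.eq, mul_inv_cancel_right, show k' * (z * mv h x) * k'⁻¹ =
              (k' * z * k'⁻¹) * (k' * mv h x * k'⁻¹) by group, hkz.eq, mul_inv_cancel_right, hcmA]
            exact ⟨fun h4 => by
              have := hsz.inv_right.mul_right h4
              rwa [inv_mul_cancel_left] at this, fun h4 => hsz.mul_right h4⟩
        show decide (¬ Commute s (mv h (K.lift (K.act k' v)))) = decide (¬ Commute s (mv h (K.lift v)))
        rw [← e, ← hx]
        simp only [hiff]
      have h0 : f p = false := psi_nat K.inat (K.act_I hY) hg.sq (K.act_ne hh hJ) hadd him hinv p hp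
      have hcs : Commute s m := by simpa [f] using h0
      rcases D.swap_A hy hy1 hsz hsy hsc hmA with ⟨-, h'⟩ | h'
      · exact h'
      · exfalso
        rw [hcs.eq, mul_inv_cancel_right] at h'
        exact hy1 (mul_eq_right.1 h'.symm)
    obtain ⟨y, hy, hy1⟩ := D.exists_y
    have hcy1 : c * y * c⁻¹ ≠ 1 := fun e => hy1 (by simpa using e)
    rcases key y hy hy1 with e | e | e | e
    · exact Or.inl e
    · exact Or.inr e
    · rcases key _ (D.c_Y hy) hcy1 with e' | e' | e' | e' <;> rw [e] at e'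
      · exact absurd e' hy1
      · exact absurd (e' ▸ hy) D.z_not_Y
      · exact absurd e'.symm (D.cy_ne hy hy1)
      · exfalso
        refine D.z_not_Y ?_
        have := mul_mem hy (inv_mem (D.c_Y hy))
        rwa [show y * (c * y * c⁻¹)⁻¹ = z from mul_inv_eq_iff_eq_mul.2 e'] at this
    · rcases key _ (D.c_Y hy) hcy1 with e' | e' | e' | e' <;> rw [e] at e'
      · exfalso
        refine D.z_not_Y ?_
        have hm := hy
        rwa [show y = z by rw [mul_eq_one_iff_eq_inv.1 e', D.Y_inv hy]] at hm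
      · exact absurd (mul_eq_left.1 e') hy1
      · exfalso
        refine D.z_not_Y ?_
        have := mul_mem (D.c_Y hy) (inv_mem hy)
        rwa [← e', mul_inv_cancel_right] at this
      · exact absurd (mul_left_cancel e').symm (D.cy_ne hy hy1)
  · -- outer
    obtain ⟨y, hy, hy1, hhy⟩ := D.invol_fix hh h2
    obtain ⟨j, hj, ej⟩ := D.invol_inverts hh h2 hY
    have hcy' : c⁻¹ * y * c = y * (c * y * c⁻¹) := by
      rw [← D.ccy_eq hy hy1]
      conv_lhs => rw [← D.c_cc (x := y)]
      group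
    have hswap : h * (c * y * c⁻¹) * h⁻¹ = y * (c * y * c⁻¹) := by
      calc h * (c * y * c⁻¹) * h⁻¹ = (h * c * h⁻¹) * (h * y * h⁻¹) * (h * c * h⁻¹)⁻¹ := by group
        _ = j * (c⁻¹ * y * c) * j⁻¹ := by rw [ej, hhy.eq, mul_inv_cancel_right]; group
        _ = _ := by rw [hcy', (D.Y_J (mul_mem hy (D.c_Y hy)) hj).eq, mul_inv_cancel_right]
    set x := K.lift p with hx
    have hxJ : x ∈ O2c z := K.lift_mem p
    set m := mv h x with hm
    have hmA : m ∈ zA z := K.mv_A hh hxJ (by rw [hx, K.vec_lift, hp])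
    have hmh : Commute h m := by
      refine mul_inv_eq_iff_eq_mul.1 ?_
      calc h * m * h⁻¹ = (h * h) * x * (h⁻¹ * h⁻¹) * (h * x⁻¹ * h⁻¹) := by rw [hm]; unfold mv; group
        _ = x * (h * x⁻¹ * h⁻¹) := by rw [hhi, h2]; group
        _ = m⁻¹ := by rw [hm]; unfold mv; group
        _ = m := D.A_inv hmA
    have h4 : m = 1 ∨ m = z ∨ m = y ∨ m = z * y := by
      rcases D.swap_A hy hy1 hh hhy hswap hmA with ⟨-, e⟩ | e
      · exact e
      · rw [hmh.eq, mul_inv_cancel_right] at e
        exact absurd (mul_eq_right.1 e.symm) hy1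
    have hmc : mv h (c * y * c⁻¹) = y := by
      show h * (c * y * c⁻¹) * h⁻¹ * (c * y * c⁻¹)⁻¹ = y
      rw [hswap, mul_inv_cancel_right]
    have hcA : c * y * c⁻¹ ∈ zA z := D.Y_le (D.c_Y hy)
    have e2 : mv h (x * (c * y * c⁻¹)) = m * y := by
      rw [K.mv_mul hh hxJ (D.A_le hcA) (by rw [K.vec_A hcA, (K.iso hh).map_zero]), hmc]
    have hv2 : K.vec (x * (c * y * c⁻¹)) = p := by
      rw [K.vec_mul hxJ (D.A_le hcA), K.vec_A hcA, add_zero, hx, K.vec_lift]
    rcases h4 with e | e | e | e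
    · exact ⟨x, hxJ, by rw [hx, K.vec_lift], Or.inl e⟩
    · exact ⟨x, hxJ, by rw [hx, K.vec_lift], Or.inr e⟩
    · exact ⟨_, mul_mem hxJ (D.A_le hcA), hv2, Or.inl (by rw [e2, e, D.Y_sq hy])⟩
    · exact ⟨_, mul_mem hxJ (D.A_le hcA), hv2, Or.inr (by rw [e2, e, mul_assoc, D.Y_sq hy, mul_one])⟩
where
  mv_eq_one_iff' {h x : G} : mv h x = 1 ↔ Commute h x := by
    show h * x * h⁻¹ * x⁻¹ = 1 ↔ _
    rw [mul_inv_eq_one, mul_inv_eq_iff_eq_mul]
    rfl

/-- the images of the centraliser in the core -/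
def dSet (h : G) : Set W8 := {p | ∃ x ∈ O2c z, K.vec x = p ∧ Commute h x}

theorem d_sub {h : G} (hh : Commute h z) : K.dSet h ⊆ fixV (K.act h) := by
  rintro _ ⟨x, hx, rfl, hc⟩
  show K.act h (K.vec x) = K.vec x
  rw [← K.act_vec hh hx, hc.eq, mul_inv_cancel_right]

theorem d_add {h : G} {p q : W8} (hp : p ∈ K.dSet h) (hq : q ∈ K.dSet h) : p + q ∈ K.dSet h := by
  obtain ⟨x, hx, rfl, hxc⟩ := hp
  obtain ⟨y, hy, rfl, hyc⟩ := hq
  exact ⟨x * y, mul_mem hx hy, K.vec_mul hx hy, hxc.mul_right hyc⟩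

theorem d_pair {h : G} (hh : Commute h z) (h2 : h * h = 1) (hJ : h ∉ O2c z) {p q : W8}
    (hp : p ∈ fixV (K.act h)) (hq : q ∈ fixV (K.act h)) (hpn : p ∉ K.dSet h) (hqn : q ∉ K.dSet h) :
    p + q ∈ K.dSet h := by
  obtain ⟨x, hx, ex, e1⟩ := K.lift_fix hh h2 hJ hp
  obtain ⟨y, hy, ey, e2⟩ := K.lift_fix hh h2 hJ hq
  have hz1 : mv h x = z := e1.resolve_left fun e =>
    hpn ⟨x, hx, ex, mul_inv_eq_iff_eq_mul.1 (mul_inv_eq_one.1 e)⟩
  have hz2 : mv h y = z := e2.resolve_left fun e =>
    hqn ⟨y, hy, ey, mul_inv_eq_iff_eq_mul.1 (mul_inv_eq_one.1 e)⟩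
  refine ⟨x * y, mul_mem hx hy, by rw [K.vec_mul hx hy, ex, ey], mul_inv_eq_iff_eq_mul.1 (mul_inv_eq_one.1 ?_)⟩
  have e := K.mv_mul hh hx hy (by rw [ey]; exact hq)
  rw [hz1, hz2, K.base.zz] at e
  exact e

theorem d_half {h : G} (hh : Commute h z) (h2 : h * h = 1) (hJ : h ∉ O2c z) :
    (fixV (K.act h)).ncard ≤ 2 * (K.dSet h).ncard := by
  by_cases hall : ∃ q ∈ fixV (K.act h), q ∉ K.dSet h
  · obtain ⟨q, hq, hqn⟩ := hall
    refine le_trans (Set.ncard_le_ncard (t := K.dSet h ∪ (fun v => v + q) '' K.dSet h) (fun p hp => ?_)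
      (Set.toFinite _)) ((Set.ncard_union_le _ _).trans (by
        have := Set.ncard_image_le (f := fun v => v + q) (Set.toFinite (K.dSet h))
        omega))
    by_cases hpn : p ∈ K.dSet h
    · exact Or.inl hpn
    · exact Or.inr ⟨p + q, K.d_pair hh h2 hJ hp hq hpn hqn, by
        show p + q + q = p
        rw [add_assoc, W8.add_self, add_zero]⟩
  · push Not at hall
    have := Set.ncard_le_ncard (show fixV (K.act h) ⊆ K.dSet h from hall) (Set.toFinite _)
    omega

theorem d_pair_bb {h : G} (hh : h ∈ cY z c) (h2 : h * h = 1) (h64 : (fixV (K.act h)).ncard = 64) :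
    ∃ x ∈ O2c z, ∃ y ∈ O2c z, Commute h x ∧ Commute h y ∧ bb (K.vec x) (K.vec y) = true := by
  classical
  have hz := (K.base.mem_cY.1 hh).1
  have hJ : h ∉ O2c z := fun hJ => by
    rw [K.act_J hJ, show fixV (1 : Equiv.Perm W8) = Set.univ from Set.eq_univ_of_forall fun _ => rfl,
      Set.ncard_univ, card_W8] at h64
    omega
  obtain ⟨p, hp, q, hq, fp, fq, hpq⟩ := transvection_pair K.inat (K.act_I hh) (K.isInv hz h2).sq
    (K.act_ne hz hJ) h64 (f := fun p => decide (p ∉ K.dSet h)) (by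
      intro v hv w hw
      by_cases a : v ∈ K.dSet h <;> by_cases b : w ∈ K.dSet h
      · simp [a, b, K.d_add a b]
      · have : v + w ∉ K.dSet h := fun e => b (by
          have := K.d_add a e
          rwa [← add_assoc, W8.add_self, zero_add] at this)
        simp [a, b, this]
      · have : v + w ∉ K.dSet h := fun e => a (by
          have := K.d_add e b
          rwa [add_assoc, W8.add_self, add_zero] at this)
        simp [a, b, this]
      · simp [a, b, K.d_pair hz h2 hJ hv hw a b])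
  simp only [decide_eq_false_iff_not, not_not] at fp fq
  obtain ⟨x, hx, rfl, hxc⟩ := fp
  obtain ⟨y, hy, rfl, hyc⟩ := fq
  exact ⟨x, hx, y, hy, hxc, hyc, hpq⟩

/-- Lifting an element of order three centralising the image of an involution to one centralising it. -/
theorem lift_three {w : G} (hw : w ∈ cY z c) (hw2 : w * w = 1) {g : Equiv.Perm W8} (hg : g ∈ K.I)
    (hg3 : g * (g * g) = 1) (hgw : g * K.act w = K.act w * g)
    (hcl : ∀ k ∈ cY z c, K.act k = g → k * (k * k) = 1 → K.vec (k * w * k⁻¹ * w) ∈ imV (K.act w)) :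
    ∃ k ∈ cY z c, K.act k = g ∧ k * (k * k) = 1 ∧ Commute k w := by
  classical
  have D := K.base
  have hwz := (D.mem_cY.1 hw).1
  have hwi : w⁻¹ = w := inv_eq_of_mul_eq_one_right hw2
  obtain ⟨k0, hk0, rfl⟩ := (K.range g).1 hg
  have hk0z := (D.mem_cY.1 hk0).1
  -- a lift of order three
  set k := (k0 * k0) * (k0 * k0) with hk
  have hj : k0 * (k0 * k0) ∈ O2c z := (K.ker (hk0z.mul_left (hk0z.mul_left hk0z))).1 (by
    rw [K.act_mul hk0z (hk0z.mul_left hk0z), K.act_mul hk0z hk0z, hg3])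
  have hkY : k ∈ cY z c := mul_mem (mul_mem hk0 hk0) (mul_mem hk0 hk0)
  have hkz := (D.mem_cY.1 hkY).1
  have hk3 : k * (k * k) = 1 := by
    have h4 : (k0 * (k0 * k0)) * (k0 * (k0 * k0)) * ((k0 * (k0 * k0)) * (k0 * (k0 * k0))) = 1 := by
      rcases D.sq _ hj with e | e <;> rw [e]
      exacts [one_mul 1, D.zz]
    rw [← h4, hk]; group
  have hka : K.act k = K.act k0 := by
    rw [hk, K.act_mul (hk0z.mul_left hk0z) (hk0z.mul_left hk0z), K.act_mul hk0z hk0z]
    calc K.act k0 * K.act k0 * (K.act k0 * K.act k0) = K.act k0 * (K.act k0 * (K.act k0 * K.act k0)) := by group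
      _ = _ := by rw [hg3, mul_one]
  set m := k * w * k⁻¹ * w with hm
  have hmv : K.vec m ∈ imV (K.act w) := hcl k hkY hka hk3
  have hmJ : m ∈ O2c z := (K.ker (((hkz.mul_left hwz).mul_left hkz.inv_left).mul_left hwz)).1 (by
    rw [K.act_mul ((hkz.mul_left hwz).mul_left hkz.inv_left) hwz, K.act_conj hkz hwz, hka, hgw,
      mul_inv_cancel_right, (K.isInv hwz hw2).sq])
  have hL : ∀ {p}, p ∈ imV (K.act w) → ∀ {q}, q ∈ imV (K.act w) → p + q ∈ imV (K.act w) := by
    rintro _ ⟨a, rfl⟩ _ ⟨b, rfl⟩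
    exact ⟨a + b, by show K.act w (a + b) + (a + b) = _; rw [(K.iso hwz).add, add_add_add_comm]⟩
  have hgL : ∀ {p}, p ∈ imV (K.act w) → K.act k0 p ∈ imV (K.act w) := by
    rintro _ ⟨a, rfl⟩
    refine ⟨K.act k0 a, ?_⟩
    show K.act w (K.act k0 a) + K.act k0 a = K.act k0 (K.act w a + a)
    rw [(K.iso hk0z).add]
    congr 1
    exact congrArg (fun f : Equiv.Perm W8 => f a) hgw.symm
  -- the translates of `w` by the commutator space
  let Ω : Set G := {x | ∃ j ∈ O2c z, K.vec j ∈ imV (K.act w) ∧ x = j * w}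
  have hmap : ∀ x ∈ Ω, k * x * k⁻¹ ∈ Ω := by
    rintro _ ⟨j, hj, hjL, rfl⟩
    refine ⟨k * j * k⁻¹ * m, mul_mem (conj_O2c hkz hj) hmJ, ?_, ?_⟩
    · rw [K.vec_mul (conj_O2c hkz hj) hmJ, K.act_vec hkz hj, hka]
      exact hL (hgL hjL) hmv
    · rw [hm, show k * j * k⁻¹ * (k * w * k⁻¹ * w) * w = k * j * w * k⁻¹ * (w * w) by group, hw2]; group
  have hcard : Ω.ncard = (imV (K.act w)).ncard * 8 := by
    rw [← Nat.card_coe_set_eq, ← Nat.card_coe_set_eq, ← D.card_A, ← Nat.card_prod]
    refine (Nat.card_eq_of_bijective (fun p : ↥(imV (K.act w)) × ↥(zA z) =>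
      (⟨K.lift p.1 * (p.2 : G) * w, ⟨_, mul_mem (K.lift_mem _) (D.A_le p.2.2), by
        rw [K.vec_mul (K.lift_mem _) (D.A_le p.2.2), K.vec_A p.2.2, add_zero, K.vec_lift]
        exact p.1.2, rfl⟩⟩ : ↥Ω)) ⟨?_, ?_⟩).symm
    · rintro ⟨p, a⟩ ⟨q, b⟩ e
      have e' : K.lift p * (a : G) = K.lift q * (b : G) := mul_right_cancel (congrArg Subtype.val e)
      have hpq : (p : W8) = q := by
        have := congrArg K.vec e'
        rwa [K.vec_mul (K.lift_mem _) (D.A_le a.2), K.vec_mul (K.lift_mem _) (D.A_le b.2), K.vec_A a.2,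
          K.vec_A b.2, add_zero, add_zero, K.vec_lift, K.vec_lift] at this
      rw [hpq] at e'
      exact Prod.ext (Subtype.ext hpq) (Subtype.ext (mul_left_cancel e'))
    · rintro ⟨_, j, hj, hjL, rfl⟩
      exact ⟨⟨⟨_, hjL⟩, ⟨_, K.eq_mul_A (K.lift_mem _) hj (K.vec_lift _)⟩⟩,
        Subtype.ext (by show K.lift (K.vec j) * ((K.lift (K.vec j))⁻¹ * j) * w = j * w; group)⟩
  -- a fixed translate
  have hdvd : ¬ 3 ∣ Ω.ncard := by
    have h1 := K.fix_mul_im hwz
    rw [hcard]
    intro h3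
    have h4 : 3 ∣ (imV (K.act w)).ncard := by omega
    have : 3 ∣ (256 : ℕ) := h1 ▸ dvd_mul_of_dvd_right h4 _
    norm_num at this
  obtain ⟨x0, ⟨j, hj, hjL, rfl⟩, hfix⟩ : ∃ x ∈ Ω, k * x * k⁻¹ = x := by
    let σ : Equiv.Perm ↥Ω :=
      { toFun := fun x => ⟨k * x * k⁻¹, hmap _ x.2⟩
        invFun := fun x => ⟨k * (k * x * k⁻¹) * k⁻¹, hmap _ (hmap _ x.2)⟩
        left_inv := fun x => Subtype.ext (by
          show k * (k * (k * (x : G) * k⁻¹) * k⁻¹) * k⁻¹ = x
          rw [show k * (k * (k * (x : G) * k⁻¹) * k⁻¹) * k⁻¹ = (k * (k * k)) * x * (k * (k * k))⁻¹ by group,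
            hk3, one_mul, inv_one, mul_one])
        right_inv := fun x => Subtype.ext (by
          show k * (k * (k * (x : G) * k⁻¹) * k⁻¹) * k⁻¹ = x
          rw [show k * (k * (k * (x : G) * k⁻¹) * k⁻¹) * k⁻¹ = (k * (k * k)) * x * (k * (k * k))⁻¹ by group,
            hk3, one_mul, inv_one, mul_one]) }
    haveI : Fact (Nat.Prime 3) := ⟨Nat.prime_three⟩
    letI := Fintype.ofFinite ↥Ω
    have h3 : σ ^ 3 ^ 1 = 1 := Equiv.ext fun x => by
      rw [pow_one, pow_succ, pow_two, Equiv.Perm.mul_apply, Equiv.Perm.mul_apply]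
      exact σ.right_inv x
    obtain ⟨x, hx⟩ := Equiv.Perm.exists_fixed_point_of_prime (p := 3) (n := 1)
      (by rwa [← Nat.card_eq_fintype_card, Nat.card_coe_set_eq]) h3
    exact ⟨x, x.2, congrArg Subtype.val hx⟩
  obtain ⟨p, hp⟩ := hjL
  set x := K.lift p with hx
  have hxJ : x ∈ O2c z := K.lift_mem p
  set d := x * w * x⁻¹ * w with hd
  have hdJ : d ∈ O2c z := by
    rw [hd, show x * w * x⁻¹ * w = x * (w * x⁻¹ * w) by group]
    have := conj_O2c hwz (inv_mem hxJ)
    rw [hwi] at this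
    exact mul_mem hxJ this
  have hdv : K.vec d = K.vec j := by
    have hq : w * x⁻¹ * w⁻¹ ∈ O2c z := conj_O2c hwz (inv_mem hxJ)
    rw [hd, show x * w * x⁻¹ * w = x * (w * x⁻¹ * w⁻¹) by rw [hwi]; group, K.vec_mul hxJ hq,
      K.act_vec hwz (inv_mem hxJ), K.vec_inv hxJ, hx, K.vec_lift, ← hp, add_comm]
  set α := d⁻¹ * j with hα
  have hαA : α ∈ zA z := K.eq_mul_A hdJ hj hdv
  have hjw : j * w = α * (x * w * x⁻¹) := by
    calc j * w = d * α * w := by rw [hα]; group
      _ = α * d * w := by rw [(D.A_comm_J hαA hdJ).eq]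
      _ = α * (x * w * x⁻¹) * (w * w) := by rw [hd]; group
      _ = _ := by rw [hw2, mul_one]
  have hkα : Commute k α := D.commute_A hkY hαA
  have hkc : Commute k (x * w * x⁻¹) := by
    have h1 : Commute k (j * w) := mul_inv_eq_iff_eq_mul.1 hfix
    have := hkα.inv_right.mul_right h1
    rwa [hjw, inv_mul_cancel_left] at this
  have hxY : x ∈ cY z c := D.J_le_cY hxJ
  refine ⟨x⁻¹ * k * x, mul_mem (mul_mem (inv_mem hxY) hkY) hxY, ?_, ?_, ?_⟩
  · rw [K.act_mul ((commute_of_O2c hxJ).inv_left.mul_left hkz) (commute_of_O2c hxJ),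
      K.act_mul (commute_of_O2c hxJ).inv_left hkz, K.act_J (inv_mem hxJ), K.act_J hxJ, one_mul, mul_one, hka]
  · calc x⁻¹ * k * x * (x⁻¹ * k * x * (x⁻¹ * k * x)) = x⁻¹ * (k * (k * k)) * x := by group
      _ = 1 := by rw [hk3]; group
  · have := conj_commute x⁻¹ hkc
    rwa [inv_inv, show x⁻¹ * (x * w * x⁻¹) * x = w by group] at this

end Model

end Cfsg.Agent.FiTwentyThreeByTwo
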