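import Cfsg.Agent.Lib.FiTwentyThreeByTwo.Quot
import Cfsg.Agent.Lib.FiTwentyTwoByTwo.Tables
import Cfsg.Agent.Lib.ThreeTransp.U62Cent.Count
import Cfsg.Agent.Lib.ThreeTransp.U62Cent.AutBasic

/-!
# The action of `C(z)` on the core modulo its centre

The split shape is impossible: `c` commutes with the simple group and has no fixed vector.
-/

set_option autoImplicit false
set_option linter.unusedSectionVars false
set_option maxRecDepth 100000

namespace Cfsg.Agent.FiTwentyThreeByTwo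

open Subgroup Cfsg.Agent.ThreeTransp.U62Cent Cfsg.Agent.ThreeTransp.U62Cent.W8 Cfsg.Agent.FiTwentyTwoByTwo

universe u' v w

/-- coordinates on the core modulo its centre with the action of the whole centraliser -/
structure Model {G : Type u'} [Group G] (z c : G) where
  base : Setup z c
  vec : G → W8
  act : G → Equiv.Perm W8
  I : Subgroup (Equiv.Perm W8)
  inat : INat I
  vec_mul : ∀ {x y : G}, x ∈ O2c z → y ∈ O2c z → vec (x * y) = vec x + vec y
  vec_eq_zero : ∀ {x : G}, x ∈ O2c z → (vec x = 0 ↔ x ∈ zA z)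
  surj : ∀ v : W8, ∃ x ∈ O2c z, vec x = v
  sq : ∀ {x : G}, x ∈ O2c z → x * x = zb z (qe true (vec x))
  comm : ∀ {x y : G}, x ∈ O2c z → y ∈ O2c z → x * y = zb z (bb (vec x) (vec y)) * (y * x)
  act_vec : ∀ {h x : G}, Commute h z → x ∈ O2c z → vec (h * x * h⁻¹) = act h (vec x)
  act_mul : ∀ {g h : G}, Commute g z → Commute h z → act (g * h) = act g * act h
  ker : ∀ {h : G}, Commute h z → (act h = 1 ↔ h ∈ O2c z)
  range : ∀ t, t ∈ I ↔ ∃ h ∈ cY z c, act h = t
  kfix : ∀ v, act c v = v → v = 0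

/-- the pairs of reflections fixing a nonsingular vector -/
def stabWords : List (List ℕ) :=
  ((List.range 64).filter fun p => nons.contains (W8.mk p) && !bb (W8.mk p) (W8.mk 1)).map fun p => [1, p]

theorem split_facts :
    (∀ w ∈ stabWords, okF w = true) ∧
    (∀ w ∈ six, w = 0 ∨ w = W8.mk 1 ∨ ∃ l ∈ stabWords, wF l w ≠ w) ∧
    (∃ l ∈ [[3, 1], [5, 1], [1, 2], [16, 1], [1, 4], [1, 8]], okF l = true ∧ wF l (W8.mk 1) ≠ W8.mk 1) ∧
    (∀ l ∈ stabWords, wF l (W8.mk 1) = W8.mk 1) ∧ W8.mk 1 ∈ six ∧ W8.mk 1 ≠ 0 ∧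
    ∀ w : W8, (∀ p ∈ vecs [0, 64, 128, 192], bb w p = false) → w ∈ six := by
  decide +kernel

/-- A permutation commuting with a group of the split shape and fixing only zero does not exist. -/
theorem split_absurd {I : Subgroup (Equiv.Perm W8)} (hS : ISplit I) {κ : Equiv.Perm W8}
    (hadd : ∀ v w, κ (v + w) = κ v + κ w) (hbb : ∀ v w, bb (κ v) (κ w) = bb v w)
    (hcomm : ∀ g ∈ I, κ * g = g * κ) (hfix : ∀ v, κ v = v → v = 0) : False := by
  obtain ⟨hok, hstab, ⟨l1, -, hl1, hl1'⟩, hfix1, h16, h10, hperp⟩ := split_facts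
  have hc : ∀ g ∈ I, ∀ v, κ (g v) = g (κ v) := fun g hg v =>
    congrArg (fun f : Equiv.Perm W8 => f v) (hcomm g hg)
  -- a vector of the six-part fixed by the group is zero
  have hsix : ∀ d ∈ six, (∀ g ∈ I, g d = d) → d = 0 := by
    intro d hd hf
    rcases hstab d hd with e | e | ⟨l, hl, hl'⟩
    · exact e
    · obtain ⟨g, hg, hgw⟩ := hS.word hl1
      exact absurd (by rw [← hgw, ← e]; exact hf g hg) hl1'
    · obtain ⟨g, hg, hgw⟩ := hS.word (hok l hl)
      exact absurd (by rw [← hgw]; exact hf g hg) hl'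
  have hplane : ∀ w : W8, (∀ g ∈ I, g w = w) → w ∈ vecs [0, 64, 128, 192] := by
    intro w hw
    obtain ⟨h1, h3, h4⟩ := S.proj_spec w
    have h0 : S.sixp w = 0 := hsix _ h1 fun g hg => by
      have e1 := hw g hg
      rw [← h4, (hS.le hg).1.add, hS.fix_plane hg h3] at e1
      exact add_right_cancel e1
    rw [← h4, h0, zero_add]
    exact h3
  -- `κ` preserves the six-part
  have hmap : ∀ d ∈ six, κ d ∈ six := by
    intro d hd
    refine hperp _ fun p hp => ?_
    have hq : κ.symm p ∈ vecs [0, 64, 128, 192] := hplane _ fun g hg => κ.injective (by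
      rw [hc g hg, Equiv.apply_symm_apply, hS.fix_plane hg hp])
    rw [← Equiv.apply_symm_apply κ p, hbb]
    exact S.plane_bb d hd _ hq
  rcases hstab _ (hmap _ h16) with e | e | ⟨l, hl, hl'⟩
  · have h0 : κ 0 = 0 := additive_zero hadd
    exact h10 (κ.injective (e.trans h0.symm))
  · exact h10 (hfix _ e)
  · obtain ⟨g, hg, hgw⟩ := hS.word (hok l hl)
    refine hl' ?_
    rw [← hgw, ← hc g hg, hgw, hfix1 l hl]

theorem zpow_cases {H : Type*} [Group H] {c : H} (h3 : c * (c * c) = 1) (i : ℤ) :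
    c ^ i = 1 ∨ c ^ i = c ∨ c ^ i = c * c := by
  have e : c ^ (3 : ℤ) = 1 := by
    rw [show (3 : ℤ) = 1 + (1 + 1) by norm_num, zpow_add, zpow_add, zpow_one]; exact h3
  rw [← Int.mul_ediv_add_emod i 3, zpow_add, zpow_mul, e, one_zpow, one_mul]
  rcases (show i % 3 = 0 ∨ i % 3 = 1 ∨ i % 3 = 2 by omega) with h | h | h <;> rw [h]
  · exact Or.inl (zpow_zero c)
  · exact Or.inr (Or.inl (zpow_one c))
  · exact Or.inr (Or.inr (zpow_two c))

variable {G : Type u'} [Group G] [Finite G] {z c : G}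

set_option maxHeartbeats 1000000 in
theorem exists_model {F₃ : Type v} [Field F₃] [Fintype F₃] {F₄ : Type w} [Field F₄] [Fintype F₄]
    (D : Setup z c) (h3 : Fintype.card F₃ = 3) (h4 : Fintype.card F₄ = 4)
    (T : Top z c (Cfsg.PSp 2 F₃)) : Nonempty (Model z c) := by
  classical
  obtain ⟨hex, hcard⟩ := D.extra_zY T
  obtain ⟨iso⟩ := D.quot_zY T
  haveI : (Cfsg.pCore 2 ↥(centralizer ({D.zY} : Set (QY z c)))).Normal := inferInstance
  obtain ⟨M⟩ := exists_coord D.zY_orderOf h3 h4 hex hcard (D.cent_zY T) iso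
  have hJC : ∀ {x : G}, x ∈ O2c z → x ∈ centralizer (yGrp z c : Set G) := fun hx =>
    (mem_inf.1 (D.J_le_cY hx)).2
  have hin : ∀ {x : G} (hx : x ∈ O2c z), prY z c ⟨x, hJC hx⟩ ∈ O2c D.zY := fun hx =>
    (D.mem_O2c_zY T).2 ⟨_, hx, rfl⟩
  -- coordinates
  let vec : G → W8 := fun x => if h : x ∈ centralizer (yGrp z c : Set G) then M.vec (prY z c ⟨x, h⟩) else 0
  have hvec : ∀ {x : G} (h : x ∈ centralizer (yGrp z c : Set G)), vec x = M.vec (prY z c ⟨x, h⟩) :=
    fun h => dif_pos h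
  have hmul : ∀ {x y : G}, x ∈ O2c z → y ∈ O2c z → vec (x * y) = vec x + vec y := by
    intro x y hx hy
    rw [hvec (hJC hx), hvec (hJC hy), hvec (hJC (mul_mem hx hy)), ← M.vec_mul (hin hx) (hin hy), ← map_mul]
    rfl
  have hM1 : M.vec (1 : QY z c) = 0 := by
    have h := M.vec_mul (one_mem (O2c D.zY)) (one_mem (O2c D.zY))
    rw [mul_one] at h
    exact left_eq_add.1 h
  have hzero : ∀ {x : G}, x ∈ O2c z → (vec x = 0 ↔ x ∈ zA z) := by
    intro x hx
    rw [hvec (hJC hx)]
    constructor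
    · intro h
      rcases M.vec_cases (hin hx) h with e | e
      · rw [QuotientGroup.mk'_apply, QuotientGroup.eq_one_iff, mem_subgroupOf] at e
        exact D.Y_le e
      · obtain ⟨y, hy, rfl⟩ := D.zY_eq (hJC hx) e
        exact mul_mem D.z_A (D.Y_le hy)
    · intro hA
      rcases D.A_cases hA with e | e
      · rw [show prY z c ⟨x, hJC hx⟩ = 1 by
          rw [QuotientGroup.mk'_apply, QuotientGroup.eq_one_iff, mem_subgroupOf]; exact e, hM1]
      · rw [show prY z c ⟨x, hJC hx⟩ = D.zY from (D.prY_eq.2 (by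
          show z⁻¹ * x ∈ yGrp z c
          rw [D.z_inv]; exact e)).symm, M.vec_z]
  have hsurj : ∀ v : W8, ∃ x ∈ O2c z, vec x = v := fun v => by
    obtain ⟨q, hq, hv⟩ := M.surj v
    obtain ⟨x, hx, rfl⟩ := (D.mem_O2c_zY T).1 hq
    exact ⟨x, hx, (hvec x.2).trans hv⟩
  have hsq : ∀ {x : G}, x ∈ O2c z → x * x = zb z (qe M.e (vec x)) := by
    intro x hx
    rw [hvec (hJC hx)]
    have h := M.sq (hin hx)
    rw [← map_mul] at h
    rcases D.sq x hx with e | e
    · rw [show (⟨x, hJC hx⟩ * ⟨x, hJC hx⟩ : ↥(centralizer (yGrp z c : Set G))) = 1 from Subtype.ext e,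
        map_one] at h
      cases hq : qe M.e (M.vec (prY z c ⟨x, hJC hx⟩)) <;> rw [hq] at h
      · rw [e]; rfl
      · exact absurd h.symm D.zY_ne
    · rw [show (⟨x, hJC hx⟩ * ⟨x, hJC hx⟩ : ↥(centralizer (yGrp z c : Set G))) = ⟨z, hJC D.z_mem⟩ from
        Subtype.ext e] at h
      cases hq : qe M.e (M.vec (prY z c ⟨x, hJC hx⟩)) <;> rw [hq] at h
      · exact absurd h D.zY_ne
      · rw [e]; rfl
  have hcomm : ∀ {x y : G}, x ∈ O2c z → y ∈ O2c z → x * y = zb z (bb (vec x) (vec y)) * (y * x) := by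
    intro x y hx hy
    rw [hvec (hJC hx), hvec (hJC hy)]
    have h := M.comm (hin hx) (hin hy)
    rw [← map_mul, ← map_mul] at h
    rcases D.comm x hx y hy with e | e
    · rw [show (⟨x, hJC hx⟩ * ⟨y, hJC hy⟩ : ↥(centralizer (yGrp z c : Set G))) = ⟨y, hJC hy⟩ * ⟨x, hJC hx⟩
        from Subtype.ext e] at h
      cases hb : bb (M.vec (prY z c ⟨x, hJC hx⟩)) (M.vec (prY z c ⟨y, hJC hy⟩)) <;> rw [hb] at h
      · rw [e, zb_false, one_mul]
      · exact absurd (mul_eq_right.1 h.symm) D.zY_ne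
    · rw [show (⟨x, hJC hx⟩ * ⟨y, hJC hy⟩ : ↥(centralizer (yGrp z c : Set G))) =
        ⟨z, hJC D.z_mem⟩ * (⟨y, hJC hy⟩ * ⟨x, hJC hx⟩) from Subtype.ext e, map_mul] at h
      cases hb : bb (M.vec (prY z c ⟨x, hJC hx⟩)) (M.vec (prY z c ⟨y, hJC hy⟩)) <;> rw [hb] at h
      · rw [zb_false, one_mul] at h
        exact absurd (mul_eq_right.1 h) D.zY_ne
      · rw [e, zb_true]
  -- lifts and the action
  choose lift hliftJ hliftv using hsurj
  have hvinv : ∀ {x : G}, x ∈ O2c z → vec x⁻¹ = vec x := fun {x} hx => by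
    have h := hmul hx (inv_mem hx)
    rw [mul_inv_cancel, (hzero (one_mem _)).2 (one_mem _)] at h
    exact (W8.eq_of_add h.symm).symm
  have hwd : ∀ {h x : G}, Commute h z → x ∈ O2c z → vec (h * x * h⁻¹) = vec (h * lift (vec x) * h⁻¹) := by
    intro h x hh hx
    have hxA : (lift (vec x))⁻¹ * x ∈ zA z := (hzero (mul_mem (inv_mem (hliftJ _)) hx)).1 (by
      rw [hmul (inv_mem (hliftJ _)) hx, hvinv (hliftJ _), hliftv, W8.add_self])
    have e : h * x * h⁻¹ = (h * lift (vec x) * h⁻¹) * (h * ((lift (vec x))⁻¹ * x) * h⁻¹) := by group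
    rw [e, hmul (conj_O2c hh (hliftJ _)) (conj_O2c hh (mul_mem (inv_mem (hliftJ _)) hx)),
      (hzero (conj_O2c hh (mul_mem (inv_mem (hliftJ _)) hx))).2 (D.A_conj hh hxA), add_zero]
  let act : G → Equiv.Perm W8 := fun h => if hh : Commute h z then
    { toFun := fun v => vec (h * lift v * h⁻¹)
      invFun := fun v => vec (h⁻¹ * lift v * h⁻¹⁻¹)
      left_inv := fun v => by
        show vec (h⁻¹ * lift (vec (h * lift v * h⁻¹)) * h⁻¹⁻¹) = v
        rw [← hwd hh.inv_left (conj_O2c hh (hliftJ v)),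
          show h⁻¹ * (h * lift v * h⁻¹) * h⁻¹⁻¹ = lift v by group, hliftv]
      right_inv := fun v => by
        show vec (h * lift (vec (h⁻¹ * lift v * h⁻¹⁻¹)) * h⁻¹) = v
        rw [← hwd hh (conj_O2c hh.inv_left (hliftJ v)),
          show h * (h⁻¹ * lift v * h⁻¹⁻¹) * h⁻¹ = lift v by group, hliftv] } else 1
  have hact : ∀ {h : G}, Commute h z → ∀ v, act h v = vec (h * lift v * h⁻¹) := fun {h} hh v => by
    simp only [act, dif_pos hh]
    rfl
  have hav : ∀ {h x : G}, Commute h z → x ∈ O2c z → vec (h * x * h⁻¹) = act h (vec x) := fun hh hx => by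
    rw [hact hh, hwd hh hx]
  have hamul : ∀ {g h : G}, Commute g z → Commute h z → act (g * h) = act g * act h := fun {g h} hg hh =>
    Equiv.ext fun v => by
      rw [Equiv.Perm.mul_apply, hact (hg.mul_left hh), hact hh, ← hav hg (conj_O2c hh (hliftJ v))]
      congr 1
      group
  have hapi : ∀ x : ↥(cY z c), act x = M.π (D.rhoY x) := fun x => Equiv.ext fun v => by
    obtain ⟨hxz, -⟩ := D.mem_cY.1 x.2
    rw [hact hxz, hvec (hJC (conj_O2c hxz (hliftJ v)))]
    conv_rhs => rw [← hliftv v, hvec (hJC (hliftJ v)), ← M.vec_conj (D.rhoY x) (hin (hliftJ v))]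
    congr 1
  have hrange : ∀ t, t ∈ M.π.range ↔ ∃ h ∈ cY z c, act h = t := by
    intro t
    constructor
    · rintro ⟨q, rfl⟩
      obtain ⟨x, rfl⟩ := D.rhoY_surj T q
      exact ⟨x, x.2, hapi x⟩
    · rintro ⟨h, hh, rfl⟩
      exact ⟨_, (hapi ⟨h, hh⟩).symm⟩
  have hJact : ∀ {x : G}, x ∈ O2c z → act x = 1 := fun {x} hx => by
    rw [hapi ⟨x, D.J_le_cY hx⟩, M.ker]
    exact (D.mem_O2c_zY T).2 ⟨_, hx, rfl⟩
  have hAc : ∀ {x : G}, x ∈ O2c z → act c (vec x) = vec x → vec x = 0 := by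
    intro x hx h
    rw [← hav D.c_z hx] at h
    have ha : x⁻¹ * (c * x * c⁻¹) ∈ zA z := (hzero (mul_mem (inv_mem hx) (conj_O2c D.c_z hx))).1 (by
      rw [hmul (inv_mem hx) (conj_O2c D.c_z hx), hvinv hx, h, W8.add_self])
    set a := x⁻¹ * (c * x * c⁻¹) with hadef
    -- remove the component in the four-group
    have key : ∀ w ∈ O2c z, ∀ b, b ∈ zA z → (b = 1 ∨ b = z) → c * w * c⁻¹ = w * b → w = 1 ∨ w = z := by
      intro w hw b _ hb e
      rcases hb with hb | hb <;> rw [hb] at e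
      · rw [mul_one] at e
        exact D.c_J w hw (mul_inv_eq_iff_eq_mul.1 e)
      · exfalso
        have e2 : c * (w * z) * c⁻¹ = c * w * c⁻¹ * z := by
          rw [← mul_assoc, mul_assoc (c * w) z, ← D.c_z.inv_left.eq, ← mul_assoc]
        have e3 : w = w * z * z * z := by
          calc w = c * (c * (c * w * c⁻¹) * c⁻¹) * c⁻¹ := D.c_cc.symm
            _ = c * (c * w * c⁻¹ * z) * c⁻¹ := by conv_lhs => rw [e, e2]
            _ = c * (c * w * c⁻¹) * c⁻¹ * (c * z * c⁻¹) := by group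
            _ = c * (w * z) * c⁻¹ * z := by rw [e, D.c_z.eq, mul_inv_cancel_right]
            _ = _ := by rw [e2, e]
        rw [mul_assoc w z z, D.zz, mul_one] at e3
        exact D.z_ne (mul_eq_left.1 e3.symm)
    have hb : ∃ b ∈ zA z, a * (c * b * c⁻¹ * b⁻¹) = 1 ∨ a * (c * b * c⁻¹ * b⁻¹) = z := by
      rcases D.A_cases ha with e | e
      · obtain ⟨b, hb, eb⟩ := D.mem_Y.1 e
        exact ⟨b, hb, Or.inl (by rw [← eb, D.A_sq a ha])⟩
      · obtain ⟨b, hb, eb⟩ := D.mem_Y.1 e
        refine ⟨b, hb, Or.inr ?_⟩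
        rw [← eb, ← mul_assoc, ← (D.A_comm D.z_A ha).eq, mul_assoc, D.A_sq a ha, mul_one]
    obtain ⟨b, hb, hab⟩ := hb
    have e : c * (x * b) * c⁻¹ = (x * b) * (a * (c * b * c⁻¹ * b⁻¹)) := by
      have hcomm' : Commute b (a * (c * b * c⁻¹ * b⁻¹)) :=
        D.A_comm hb (mul_mem ha (mul_mem (D.A_conj D.c_z hb) (inv_mem hb)))
      rw [mul_assoc x b, hcomm'.eq, hadef]
      group
    have := key (x * b) (mul_mem hx (D.A_le hb)) _
      (mul_mem ha (mul_mem (D.A_conj D.c_z hb) (inv_mem hb))) hab e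
    have hxb : x * b ∈ zA z := by
      rcases this with e1 | e1 <;> rw [e1]
      exacts [one_mem _, D.z_A]
    have hxA := mul_mem hxb (inv_mem hb)
    rw [mul_inv_cancel_right] at hxA
    exact (hzero hx).2 hxA
  have hfix : ∀ v, act c v = v → v = 0 := fun v h => by
    have := hAc (hliftJ v) (by rw [hliftv]; exact h)
    rwa [hliftv] at this
  have hactc : ∀ {h j : G}, Commute h z → j ∈ O2c z → h * c * h⁻¹ = j * c → act h * act c = act c * act h := by
    intro h j hh hj e
    rw [← hamul hh D.c_z, show h * c = j * c * h by rw [← e]; group, hamul ((commute_of_O2c hj).mul_left D.c_z) hh,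
      hamul (commute_of_O2c hj) D.c_z, hJact hj, one_mul]
  have hIcomm : ∀ g ∈ M.π.range, act c * g = g * act c := by
    intro g hg
    obtain ⟨h, hh, rfl⟩ := (hrange g).1 hg
    obtain ⟨j, hj, e⟩ := D.cY_mod hh
    exact (hactc (D.mem_cY.1 hh).1 hj e).symm
  have haddc : ∀ v w, act c (v + w) = act c v + act c w := fun v w => by
    rw [← hliftv v, ← hliftv w, ← hmul (hliftJ v) (hliftJ w), ← hav D.c_z (mul_mem (hliftJ v) (hliftJ w)),
      ← hav D.c_z (hliftJ v), ← hav D.c_z (hliftJ w), ← hmul (conj_O2c D.c_z (hliftJ v)) (conj_O2c D.c_z (hliftJ w))]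
    congr 1
    group
  have hqc : ∀ v, qe M.e (act c v) = qe M.e v := fun v => by
    have hx := hliftJ v
    refine zb_ne D.z_ne ?_
    rw [← hliftv v, ← hav D.c_z hx, ← hsq (conj_O2c D.c_z hx), ← hsq hx,
      show c * lift v * c⁻¹ * (c * lift v * c⁻¹) = c * (lift v * lift v) * c⁻¹ by group]
    rcases D.sq _ hx with e | e <;> rw [e]
    · group
    · rw [D.c_z.eq, mul_inv_cancel_right]
  obtain ⟨he, hN⟩ := M.shape_cases.resolve_right fun hS => split_absurd hS haddc (fun v w => by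
    have := hqc (v + w)
    rw [haddc, qe_add, qe_add, hqc, hqc] at this
    exact Bool.xor_right_inj.1 this) hIcomm hfix
  rw [he] at hsq
  have hker : ∀ {h : G}, Commute h z → (act h = 1 ↔ h ∈ O2c z) := by
    intro h hh
    refine ⟨fun h1 => ?_, hJact⟩
    have hcY1 : ∀ k ∈ cY z c, act k = 1 → k ∈ O2c z := by
      intro k hk hk1
      rw [hapi ⟨k, hk⟩, M.ker] at hk1
      exact (D.rhoY_mem_pCore T (x := ⟨k, hk⟩)).1 (by
        obtain ⟨q, hq, e⟩ := hk1
        rwa [show q = D.rhoY ⟨k, hk⟩ from Subtype.ext e] at hq)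
    have hκ : act c ≠ 1 := fun e => by
      obtain ⟨w, hw, -⟩ : ∃ w : W8, w ≠ 0 ∧ True := ⟨W8.mk 1, split_facts.2.2.2.2.2.1, trivial⟩
      exact hw (hfix w (by rw [e]; rfl))
    have hκ2 : act c * act c ≠ 1 := fun e => hκ (by
      have h3 : act (c * (c * c)) = 1 := by rw [D.c3]; exact hJact (one_mem _)
      rw [hamul D.c_z (D.c_z.mul_left D.c_z), hamul D.c_z D.c_z, e, mul_one] at h3
      exact h3)
    obtain ⟨j, hj, e | e⟩ := D.c_mod h hh
    · -- centralising `c` modulo the core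
      obtain ⟨y, hy, hy1⟩ := D.exists_y
      obtain ⟨k, ⟨i, hki⟩, hkz, hke⟩ := D.class_Y (D.Y_conj hh hy) (fun e' => hy1 (by simpa using e')) hy hy1
      have hkc : (k * h) * c * (k * h)⁻¹ = (k * j * k⁻¹) * c := by
        calc (k * h) * c * (k * h)⁻¹ = k * (h * c * h⁻¹) * k⁻¹ := by group
          _ = k * j * (c * k⁻¹) := by rw [e]; group
          _ = k * j * (k⁻¹ * c) := by rw [hki, ((Commute.refl c).zpow_right i).inv_right.eq]
          _ = _ := by group
      have hkh : k * h ∈ cY z c :=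
        D.mem_cY_of_fix (hkz.mul_left hh) (conj_O2c hkz hj) hkc hy hy1 (Eq.trans (by group) hke)
      have hact1 : act (k * h) = act k := by rw [hamul hkz hh, h1, mul_one]
      have hkI : act k ∈ M.π.range := (hrange _).2 ⟨k * h, hkh, hact1⟩
      have hkone : act k = 1 := by
        haveI := M.simple
        have hcen : (⟨act k, hkI⟩ : ↥M.π.range) ∈ Subgroup.center ↥M.π.range := by
          refine mem_center_iff.2 fun g => Subtype.ext ?_
          show (g : Equiv.Perm W8) * act k = act k * g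
          obtain ⟨g', hg', eg⟩ := (hrange _).1 g.2
          obtain ⟨j', hj', ej'⟩ := D.cY_mod hg'
          have hg'z := (D.mem_cY.1 hg').1
          rcases zpow_cases D.c3 i with e3 | e3 | e3 <;> rw [hki, e3]
          · rw [hJact (one_mem _), mul_one, one_mul]
          · exact (hIcomm _ g.2).symm
          · rw [hamul D.c_z D.c_z, ← mul_assoc, ← hIcomm _ g.2, mul_assoc, ← hIcomm _ g.2, mul_assoc]
        rcases (inferInstance : (Subgroup.center ↥M.π.range).Normal).eq_bot_or_eq_top with e' | e'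
        · rw [e', mem_bot] at hcen
          exact congrArg Subtype.val hcen
        · exfalso
          letI : CommGroup ↥M.π.range :=
            { (inferInstance : Group ↥M.π.range) with
              mul_comm := fun a b => mem_center_iff.1 (e' ▸ mem_top b : b ∈ Subgroup.center _) a }
          have hp := IsSimpleGroup.prime_card (α := ↥M.π.range)
          rw [M.card_img] at hp
          norm_num at hp
      have hk1 : k = 1 := by
        rw [hki] at hkone ⊢
        rcases zpow_cases D.c3 i with e3 | e3 | e3 <;> rw [e3] at hkone ⊢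
        · exact absurd hkone hκ
        · exact absurd (by rwa [hamul D.c_z D.c_z] at hkone) hκ2
      rw [hk1, one_mul] at hkh
      exact hcY1 h hkh h1
    · exfalso
      refine hκ2 ?_
      have h2 : act (h * c * h⁻¹) = act c := by
        rw [hamul (hh.mul_left D.c_z) hh.inv_left, hamul hh D.c_z, h1, one_mul]
        have h3 : act h * act h⁻¹ = 1 := by rw [← hamul hh hh.inv_left, mul_inv_cancel]; exact hJact (one_mem _)
        rw [h1, one_mul] at h3
        rw [h3, mul_one]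
      rw [e, hamul (commute_of_O2c hj) D.c_z.inv_left, hJact hj, one_mul] at h2
      nth_rewrite 1 [← h2]
      rw [← hamul D.c_z.inv_left D.c_z, inv_mul_cancel]
      exact hJact (one_mem _)
  exact ⟨⟨D, vec, act, M.π.range, hN, hmul, hzero, fun v => ⟨lift v, hliftJ v, hliftv v⟩, hsq, hcomm, hav,
    hamul, hker, hrange, hfix⟩⟩
end Cfsg.Agent.FiTwentyThreeByTwo
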