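import Cfsg.Agent.Lib.FiTwentyThreeByTwo.TypesFrame
import Cfsg.Agent.Lib.FiTwentyTwoByTwo.MainTheorem
import Cfsg.Agent.Lib.FiTwentyTwoByTwo.CaseBU
import Cfsg.Agent.Lib.Classical.UnitaryFrames
import Cfsg.Agent.InvChar.Coset.Fi22Order
import Cfsg.Agent.S0283
import Cfsg.Agent.S1714

/-!
# The types of the elements of the centre of the core
-/

set_option autoImplicit false
set_option linter.unusedSectionVars false
set_option linter.style.haveILetI false

namespace Cfsg.Agent.FiTwentyThreeByTwo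

open Subgroup Cfsg.Agent.ThreeTransp.U62Cent Cfsg.Agent.FiTwentyTwoByTwo
open scoped commutatorElement

universe u' v w

/-- In a group a subgroup `L` whose complement has all products in `L`, the group being simple of
order above two, is everything. -/
theorem eq_top_of_half {U : Type*} [Group U] [IsSimpleGroup U] (h2 : 2 < Nat.card U) (L : Subgroup U)
    (h : ∀ a ∉ L, ∀ b ∉ L, a * b ∈ L) : L = ⊤ := by
  classical
  have hn : L.Normal := ⟨fun l hl g => by
    by_cases hg : g ∈ L
    · exact mul_mem (mul_mem hg hl) (inv_mem hg)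
    · exact h _ (fun e => hg (by have := mul_mem e (inv_mem hl); rwa [mul_inv_cancel_right] at this)) _
        (fun e => hg (by simpa using inv_mem e))⟩
  refine hn.eq_bot_or_eq_top.resolve_left fun hb => ?_
  haveI : Finite U := Nat.finite_of_card_ne_zero (by omega)
  letI := Fintype.ofFinite U
  rw [Nat.card_eq_fintype_card] at h2
  obtain ⟨a, ha, b, hb', hab⟩ : ∃ a, a ≠ (1 : U) ∧ ∃ b, b ≠ (1 : U) ∧ a * b ≠ 1 := by
    obtain ⟨a, b, c, hab, hac, hbc⟩ := Fintype.two_lt_card_iff.1 h2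
    by_contra hne
    push Not at hne
    have key : ∀ p q : U, p ≠ 1 → q ≠ 1 → p = q := fun p q hp hq =>
      mul_right_cancel ((hne p hp q hq).trans (hne q hq q hq).symm)
    by_cases ha : a = 1
    · exact hbc (key b c (fun e => hab (ha.trans e.symm)) (fun e => hac (ha.trans e.symm)))
    by_cases hb : b = 1
    · exact hac (key a c ha (fun e => hbc (hb.trans e.symm)))
    · exact hab (key a b ha hb)
  have := h a (by rw [hb, mem_bot]; exact ha) b (by rw [hb, mem_bot]; exact hb')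
  rw [hb, mem_bot] at this
  exact hab this

/-- A commutative simple group has prime order. -/
theorem prime_card_of_comm {U : Type*} [Group U] [Finite U] [IsSimpleGroup U]
    (h : ∀ p q : U, p * q = q * p) : (Nat.card U).Prime := by
  letI : CommGroup U := { (inferInstance : Group U) with mul_comm := h }
  exact IsSimpleGroup.prime_card

/-- The powers of an involution. -/
theorem mem_zpowers_two {U : Type*} [Group U] {a b : U} (ha : orderOf a = 2) (hb : b ∈ zpowers a) :
    b = 1 ∨ b = a := by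
  have h2 : a * a = 1 := by rw [← pow_two, ← ha, pow_orderOf_eq_one]
  obtain ⟨k, rfl⟩ := mem_zpowers_iff.1 hb
  rcases Int.even_or_odd k with ⟨m, rfl⟩ | ⟨m, rfl⟩
  · exact Or.inl (by rw [zpow_add, ← (Commute.refl a).mul_zpow, h2, one_zpow])
  · exact Or.inr (by rw [zpow_add, zpow_mul, zpow_one, zpow_two, h2, one_zpow, one_mul])

/-- The order of the core of a frame. -/
theorem core_card_of_frame {X : Type*} [Group X] {a b : X} (F : Frame a b) :
    Nat.card ↥(Cfsg.pCore 2 ↥(centralizer ({a} : Set X))) = 1024 := by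
  rw [← F.card, card_map_of_injective (centralizer ({a} : Set X)).subtype_injective]

theorem card_U {K : Type w} [Field K] [Fintype K] (hK : Fintype.card K = 4) :
    Nat.card (Cfsg.PSU 6 K 2) = 9196830720 := by
  have hK' : Fintype.card K = 2 ^ 2 := by rw [hK]; norm_num
  have h := Cfsg.Agent.Classical.Unitary.natCard_PSU_mul (n := 6) (q := 2) (F := K) hK' (by norm_num)
  rw [Cfsg.Agent.Classical.Unitary.natCard_GU hK', show Nat.gcd 6 (2 + 1) = 3 from rfl] at h
  simp [Finset.prod_range_succ, Nat.even_iff] at h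
  omega

section Quot

variable {X : Type u'} [Group X] [Finite X] {a b : X} {F₃ : Type v} [Field F₃] [Fintype F₃]
  {F₄ : Type w} [Field F₄] [Fintype F₄]

/-- case B on a quotient -/
theorem case_B (F : Frame a b) (h3 : Fintype.card F₃ = 3)
    [(Cfsg.pCore 2 ↥(centralizer ({a} : Set X))).Normal]
    (e : (↥(centralizer ({a} : Set X)) ⧸ Cfsg.pCore 2 ↥(centralizer ({a} : Set X))) ≃*
      MulAut (Cfsg.PSp 2 F₃))
    (hB : ∃ c, Commute c a ∧ ¬ Commute c b) :
    centralizer ({a} : Set X) ⊔ Cfsg.oddCore X = ⊤ ∨ Cfsg.Spor.IsoFi22 X := by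
  obtain ⟨K0, iK, iF, hK0⟩ := card_gf4
  have hB' : ∃ c, Commute c a ∧ ¬ Commute c (b * a) := by
    obtain ⟨c, h1, h2⟩ := hB
    refine ⟨c, h1, fun h => h2 ?_⟩
    have := h.mul_right h1
    rwa [F.uzz] at this
  have step : ∀ {w : X}, Frame a w → (∃ c, Commute c a ∧ ¬ Commute c w) → TI a w ∨ Cfsg.Spor.IsoFi22 X := by
    intro w Fw hw
    obtain ⟨-, hc, h | h⟩ := Fw.type_B h3 hK0 e hw
    · exact Or.inl h
    · obtain ⟨⟨hxC, hcm⟩, hne, hcj, hcard, hp⟩ := Fw.fi22_hyps hw hc
      obtain ⟨eU⟩ := h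
      exact Or.inr (iso_fi22 w (w * a) Fw.orderOf_u K0 hK0 eU hxC hne hcj hcm hcard hp)
  rcases step F hB with h1 | h
  · rcases step F.swap hB' with h2 | h
    · obtain ⟨⟨Kc⟩, -⟩ := F.type_B h3 hK0 e hB
      exact Or.inl (Kc.isolated h1 h2 (F.co_faith Kc))
    · exact Or.inr h
  · exact Or.inr h

/-- case A on a quotient -/
theorem case_A (F : Frame a b) (h3 : Fintype.card F₃ = 3) (h4 : Fintype.card F₄ = 4)
    [(Cfsg.pCore 2 ↥(centralizer ({a} : Set X))).Normal]
    (e : (↥(centralizer ({a} : Set X)) ⧸ Cfsg.pCore 2 ↥(centralizer ({a} : Set X))) ≃*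
      MulAut (Cfsg.PSp 2 F₃))
    (hA : ∀ c, Commute c a → Commute c b) :
    centralizer ({a} : Set X) ⊔ Cfsg.oddCore X = ⊤ ∨ Middle a F₄ := by
  obtain ⟨K0, iK, iF, hK0⟩ := card_gf4
  have hA' : ∀ c, Commute c a → Commute c (b * a) := fun c hc => (hA c hc).mul_right hc
  have step : ∀ {w : X}, Frame a w → (∀ c, Commute c a → Commute c w) → TI a w ∨ Middle a F₄ := by
    intro w Fw hw
    obtain ⟨-, h | h⟩ := Fw.type_A h3 h4 e hw
    · exact Or.inl h
    · obtain ⟨X₀, h1, ⟨h2⟩, h3'⟩ := h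
      obtain ⟨eK⟩ := Cfsg.Agent.MonomialMult.psu_field_equiv (n := 6) (q := 2)
        (FiniteField.ringEquivOfCardEq (K := F₄) (K' := K0) (h4.trans hK0.symm))
      obtain ⟨MX, iso⟩ := Fw.coord_A h3 hK0 e hw
      obtain ⟨MY, -⟩ := Fw.swap.coord_A h3 hK0 e fun c hc => (hw c hc).mul_right hc
      haveI : (Cfsg.pCore 2 ↥(centralizer ({Fw.zX} : Set (QU w)))).Normal := inferInstance
      obtain ⟨C0, hu, hle, hidx, hn, hiso, -⟩ := Fw.caseA_hyps ⟨X₀, h1, ⟨h2⟩, h3'⟩
      refine Or.inr (Fw.middle ?_ hu hidx hn hiso)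
      exact Fw.caseA_u hw MX MY X₀ h1
        (fun Y hY hinf p hp => nat_shape MX Y hY hinf h3 hK0 iso.some hp) h3' hK0 (h2.trans eK)
  rcases step F hA with h1 | h
  · rcases step F.swap hA' with h2 | h
    · obtain ⟨⟨Kc⟩, -⟩ := F.type_A h3 h4 e hA
      exact Or.inl (Kc.isolated h1 h2 (F.co_faith Kc))
    · exact Or.inr h
  · exact Or.inr h

end Quot

variable {G : Type u'} [Group G] [Finite G] {z c : G} {F : Type v} [Field F] [Fintype F]
  {K : Type w} [Field K] [Fintype K]

/-- the four-group is normal in the centralisers of its elements, with unitary quotient -/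
def UType (z c : G) (K : Type w) [Field K] [Fintype K] : Prop :=
  (∀ y ∈ yGrp z c, y ≠ 1 → ∀ g, Commute g y → ∀ w ∈ yGrp z c, g * w * g⁻¹ ∈ yGrp z c) ∧
    ∃ _hn : ((yGrp z c).subgroupOf (centralizer (yGrp z c : Set G))).Normal,
      Nonempty ((↥(centralizer (yGrp z c : Set G)) ⧸ (yGrp z c).subgroupOf (centralizer (yGrp z c : Set G))) ≃*
        Cfsg.PSU 6 K 2)

theorem step_d (D : Setup z c) (h3 : Fintype.card F = 3) (_h4 : Fintype.card K = 4)
    (T : Top z c (Cfsg.PSp 2 F)) {y : G} (hy : y ∈ yGrp z c) (h1 : y ≠ 1) :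
    TI z (z * y) ∨ Cfsg.Spor.IsoFi23 G := by
  classical
  have hyA := D.Y_le hy
  have hx : z * y ∈ zA z := mul_mem D.z_A hyA
  have hx1 : z * y ≠ 1 := fun e => D.z_not_Y (by
    have := inv_mem hy
    rwa [← eq_inv_of_mul_eq_one_left e] at this)
  have hxz : z * y ≠ z := fun e => h1 (mul_eq_left.1 e)
  have hu := D.Y_le (D.c_Y hy)
  have hu1 : c * y * c⁻¹ ≠ 1 := fun e => h1 (by simpa using e)
  have hzzy : z * (z * y) = y := by rw [← mul_assoc, D.zz, one_mul]
  have hu' : c * y * c⁻¹ ∉ ({1, z, z * y, z * (z * y)} : Set G) := by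
    simp only [Set.mem_insert_iff, Set.mem_singleton_iff, not_or]
    refine ⟨hu1, fun e => D.z_not_Y (e ▸ D.c_Y hy), fun e => D.z_not_Y ?_,
      fun e => D.cy_ne hy h1 (e.trans hzzy)⟩
    have := mul_mem (D.c_Y hy) (inv_mem hy)
    rwa [e, mul_inv_cancel_right] at this
  have Fr := D.frame_quot T hx hx1 hxz hu hu'
  set Q := D.qhyp T hx hx1 hxz with hQ
  obtain ⟨e⟩ := D.quot_aut T hx hx1 hxz
  obtain ⟨s, hsz, hsy, hsu⟩ := D.exists_swap hy h1
  have hsx : Commute s (z * y) := hsz.mul_right hsy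
  have hB : ∃ w, Commute w Q.zX ∧ ¬ Commute w (pr (z * y) ⟨c * y * c⁻¹, mem_cent.2 (D.A_comm hu hx)⟩) := by
    refine ⟨pr (z * y) ⟨s, mem_cent.2 hsx⟩, ?_, fun h => ?_⟩
    · show _ * _ = _ * _
      rw [QHyp.zX, ← map_mul, ← map_mul]
      exact congrArg _ (Subtype.ext hsz.eq)
    · have e' := mul_inv_eq_iff_eq_mul.2 h.eq
      rw [← map_inv, ← map_mul, ← map_mul] at e'
      rcases Q.pr_eq.1 e'.symm with h' | h' <;> simp only [coe_mul, InvMemClass.coe_inv] at h'
      · exact h1 (mul_eq_right.1 (hsu.symm.trans h'))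
      · rw [hsu, ← (D.A_comm hx hu).eq] at h'
        exact D.z_ne (mul_eq_right.1 (mul_right_cancel h').symm)
  rcases case_B Fr h3 e hB with htop | hFi
  · exact Or.inl (Q.TI_of_quot htop)
  refine Or.inr ?_
  set C := centralizer ({z * y} : Set G) with hC
  obtain ⟨eFi⟩ := id hFi
  obtain ⟨hsimp, hcard⟩ := Cfsg.Agent.InvChar.Coset.Fi22B.simple_and_card
  haveI := hsimp
  have hXs : IsSimpleGroup (QU (z * y)) := MulEquiv.isSimpleGroup eFi
  haveI := hXs
  have hXcard : Nat.card (QU (z * y)) = 64561751654400 := by rw [Nat.card_congr eFi.toEquiv, hcard]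
  have hnab : ¬ ∀ p q : QU (z * y), p * q = q * p := by
    intro hcomm
    haveI : IsSimpleGroup (QU (z * y)) := hXs
    have hp := Cfsg.Agent.FiTwentyThreeByTwo.prime_card_of_comm (U := QU (z * y)) hcomm
    rw [hXcard] at hp
    exact absurd hp (by norm_num)
  have hperf : commutator ↥C = ⊤ := by
    have hxc : (⟨z * y, mem_cent.2 (Commute.refl _)⟩ : ↥C) ∈ commutator ↥C := by
      obtain ⟨p, hp, q, hq, hpq⟩ := D.exists_comm
      have hpC : p ∈ C := mem_cent.2 (Q.u_cent p hp)
      have hqC : q ∈ C := mem_cent.2 (Q.u_cent q hq)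
      have h : ⁅(⟨p, hpC⟩ : ↥C), ⟨q, hqC⟩⁆ * ⁅(⟨s, mem_cent.2 hsx⟩ : ↥C), ⟨c * y * c⁻¹, mem_cent.2 (D.A_comm hu hx)⟩⁆
          ∈ commutator ↥C :=
        mul_mem (commutator_mem_commutator (mem_top _) (mem_top _)) (commutator_mem_commutator (mem_top _) (mem_top _))
      convert h using 1
      refine Subtype.ext ?_
      show z * y = ⁅p, q⁆ * ⁅s, c * y * c⁻¹⁆
      rw [commutatorElement_def, commutatorElement_def, hsu, hpq]
      group
    have hmap : (commutator ↥C).map (pr (z * y)) = ⊤ := by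
      rw [map_commutator_eq, MonoidHom.range_eq_top.2 (QuotientGroup.mk'_surjective _)]
      rcases (inferInstance : (commutator (QU (z * y))).Normal).eq_bot_or_eq_top with h | h
      · refine absurd (fun p q => ?_) hnab
        have := commutator_mem_commutator (mem_top p) (mem_top q)
        rw [← _root_.commutator_def, h, mem_bot] at this
        exact commutatorElement_eq_one_iff_mul_comm.1 this
      · exact h
    refine eq_top_iff.2 fun g _ => ?_
    obtain ⟨d, hd, e'⟩ : pr (z * y) g ∈ (commutator ↥C).map (pr (z * y)) := by rw [hmap]; exact mem_top _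
    rcases Q.pr_eq.1 e' with h | h
    · rwa [show g = d from Subtype.ext h]
    · rw [show g = d * ⟨z * y, mem_cent.2 (Commute.refl _)⟩ from Subtype.ext h]
      exact mul_mem hd hxc
  have hcentre : Subgroup.center ↥C = (zpowers (z * y)).subgroupOf C := by
    refine le_antisymm (fun g hg => ?_) fun g hg => ?_
    · have hmem : pr (z * y) g ∈ Subgroup.center (QU (z * y)) := mem_center_iff.2 fun w => by
        obtain ⟨w, rfl⟩ := QuotientGroup.mk'_surjective _ w
        rw [← map_mul, ← map_mul, mem_center_iff.1 hg w]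
      rcases (inferInstance : (Subgroup.center (QU (z * y))).Normal).eq_bot_or_eq_top with h | h
      · rw [h, mem_bot] at hmem
        exact (QuotientGroup.eq_one_iff _).1 hmem
      · exact absurd (fun p q => (mem_center_iff.1 (h ▸ mem_top q : q ∈ Subgroup.center _) p)) hnab
    · obtain ⟨k, hk⟩ := mem_zpowers_iff.1 (mem_subgroupOf.1 hg)
      refine mem_center_iff.2 fun w => Subtype.ext ?_
      show (w : G) * (g : G) = (g : G) * w
      rw [← hk]
      exact ((mem_cent.1 w.2).zpow_right k).eq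
  have hq : Cfsg.IsQuasisimple ↥C := by
    refine ⟨⟨hperf⟩, ?_⟩
    exact MulEquiv.isSimpleGroup (QuotientGroup.quotientMulEquivOfEq hcentre)
  refine S1714.result (z * y) (orderOf_eq_prime (by rw [pow_two, D.A_sq _ hx]) hx1) hq hFi ⟨c, ?_, fun e' => ?_⟩
  · exact mem_cent.2 (D.A_comm (D.A_conj D.c_z hx) hx)
  · rw [show c * (z * y) * c⁻¹ = z * (c * y * c⁻¹) by rw [← mul_assoc, D.c_z.eq]; group] at e'
    exact D.cy_ne hy h1 (mul_left_cancel e')

theorem step_y (D : Setup z c) (h3 : Fintype.card F = 3) (h4 : Fintype.card K = 4)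
    (T : Top z c (Cfsg.PSp 2 F)) (hd : ∀ y ∈ yGrp z c, y ≠ 1 → TI z (z * y))
    {y : G} (hy : y ∈ yGrp z c) (h1 : y ≠ 1) : TI z y ∨ UType z c K := by
  classical
  have hyA := D.Y_le hy
  have hyz : y ≠ z := fun e => D.z_not_Y (e ▸ hy)
  set u := c * y * c⁻¹ with hu_def
  have huY : u ∈ yGrp z c := D.c_Y hy
  have hu := D.Y_le huY
  have hu1 : u ≠ 1 := fun e => h1 (by simpa [hu_def] using e)
  have hu' : u ∉ ({1, z, y, z * y} : Set G) := by
    simp only [Set.mem_insert_iff, Set.mem_singleton_iff, not_or]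
    refine ⟨hu1, fun e => D.z_not_Y (e ▸ huY), D.cy_ne hy h1, fun e => D.z_not_Y ?_⟩
    have := mul_mem huY (inv_mem hy)
    rwa [e, mul_inv_cancel_right] at this
  have Fr := D.frame_quot T hyA h1 hyz hu hu'
  set Q := D.qhyp T hyA h1 hyz with hQ
  set ub := pr y ⟨u, mem_cent.2 (D.A_comm hu hyA)⟩ with hub
  obtain ⟨e⟩ := D.quot_aut T hyA h1 hyz
  have hA : ∀ w, Commute w Q.zX → Commute w ub := by
    intro w hw
    obtain ⟨g, rfl⟩ := QuotientGroup.mk'_surjective _ w
    obtain ⟨hgz, hgy⟩ := mem_cH.1 (Q.mem_cent_zX (mem_cent.2 hw))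
    refine mul_inv_eq_iff_eq_mul.1 ?_
    rw [hub, ← map_inv, ← map_mul, ← map_mul]
    refine Q.pr_eq.2 ?_
    simp only [coe_mul, InvMemClass.coe_inv]
    have hm : (g : G) * u * (g : G)⁻¹ ∈ yGrp z c := D.Y_conj hgz huY
    rcases D.Y_cases hy h1 hm with h | h | h | h
    · exact absurd (conj_eq_one_iff.1 h) hu1
    · exfalso
      refine D.cy_ne hy h1 ?_
      calc u = (g : G)⁻¹ * ((g : G) * u * (g : G)⁻¹) * g := by group
        _ = y := by rw [h, mul_assoc, ← hgy.eq, inv_mul_cancel_left]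
    · exact Or.inl h.symm
    · refine Or.inr ?_
      rw [h, D.ccy_eq hy h1, mul_assoc, (D.A_comm hu hyA).eq, ← mul_assoc y, D.A_sq y hyA, one_mul]
  rcases case_A (F₄ := K) Fr h3 h4 e hA with htop | hmid
  · exact Or.inl (Q.TI_of_quot htop)
  refine Or.inr ?_
  obtain ⟨z1, ho, hnz, ⟨hz1C, hz1J, hz1c⟩, hz1n, G0, hz1G, hidx, hn0, ⟨eU⟩⟩ := hmid
  have hG0n : G0.Normal := normal_of_index_eq_two hidx
  -- z1 is central
  have hz1z : ∀ w : QU y, Commute w z1 := by
    intro w
    have hm := hz1n.conj_mem z1 (mem_zpowers z1) w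
    rcases mem_zpowers_two ho hm with h | h
    · rw [conj_eq_one_iff.1 h, orderOf_one] at ho
      norm_num at ho
    · exact mul_inv_eq_iff_eq_mul.1 h
  have hcases : z1 = ub ∨ z1 = ub * Q.zX := by
    rcases Fr.center z1 ⟨⟨z1, hz1C⟩, hz1J, rfl⟩ (fun w hw => (hz1z w).symm) with h | h | h | h
    · rw [h, orderOf_one] at ho; norm_num at ho
    · exact absurd (h ▸ mem_zpowers _) hnz
    · exact Or.inl h
    · exact Or.inr h
  haveI : IsSimpleGroup (Cfsg.PSU 6 K 2) :=
    S0283.result (q := 2) (by rw [h4]; norm_num) 6 (by norm_num) (by norm_num)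
  have hU := card_U h4
  let π : ↥G0 →* Cfsg.PSU 6 K 2 :=
    eU.toMonoidHom.comp (QuotientGroup.mk' ((zpowers z1).subgroupOf G0))
  have hπ : Function.Surjective π := eU.surjective.comp (QuotientGroup.mk'_surjective _)
  have hπk : ∀ k : ↥G0, π k = 1 ↔ (k : QU y) = 1 ∨ (k : QU y) = z1 := by
    intro k
    show eU _ = 1 ↔ _
    rw [map_eq_one_iff _ eU.injective, QuotientGroup.mk'_apply, QuotientGroup.eq_one_iff, mem_subgroupOf]
    constructor
    · exact mem_zpowers_two ho
    · rintro (h | h) <;> rw [h]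
      exacts [one_mem _, mem_zpowers z1]
  -- lifts commuting with a lift of z1
  have lifts : ∀ (d : G) (hd : d ∈ centralizer ({y} : Set G)), pr y ⟨d, hd⟩ = z1 →
      ∀ k ∈ G0, ∃ g : ↥(centralizer ({y} : Set G)), pr y g = k ∧ Commute (g : G) d := by
    intro d hdC hd1
    let P : Subgroup ↥(centralizer ({y} : Set G)) := (centralizer ({d} : Set G)).subgroupOf _
    let L : Subgroup (Cfsg.PSU 6 K 2) := ((P.map (pr y)).subgroupOf G0).map π
    have hP : ∀ a b : ↥(centralizer ({y} : Set G)), a ∉ P → b ∉ P → a * b ∈ P := by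
      have key : ∀ g : ↥(centralizer ({y} : Set G)), g ∉ P → (g : G) * d * (g : G)⁻¹ = d * y := by
        intro g hg
        have e1 : pr y (g * ⟨d, hdC⟩ * g⁻¹) = pr y ⟨d, hdC⟩ := by
          rw [map_mul, map_mul, map_inv, hd1, (hz1z _).eq, mul_inv_cancel_right]
        rcases Q.pr_eq.1 e1.symm with h | h
        · exact absurd (mem_cent.2 (mul_inv_eq_iff_eq_mul.1 h)) hg
        · exact h
      intro a b ha hb
      refine mem_cent.2 (mul_inv_eq_iff_eq_mul.1 ?_)
      show ((a : G) * b) * d * ((a : G) * b)⁻¹ = d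
      rw [show ((a : G) * b) * d * ((a : G) * b)⁻¹ =
        (a : G) * ((b : G) * d * (b : G)⁻¹) * (a : G)⁻¹ by group, key b hb,
        show (a : G) * (d * y) * (a : G)⁻¹ = (a : G) * d * (a : G)⁻¹ * ((a : G) * y * (a : G)⁻¹) by group,
        key a ha, (mem_cent.1 a.2).eq, mul_inv_cancel_right, mul_assoc, D.A_sq y hyA, mul_one]
    have hz1P : z1 ∈ P.map (pr y) := ⟨⟨d, hdC⟩, mem_cent.2 (Commute.refl d), hd1⟩
    have hL : L = ⊤ := by
      refine eq_top_of_half (by rw [hU]; norm_num) L fun a ha b hb => ?_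
      obtain ⟨k, rfl⟩ := hπ a
      obtain ⟨l, rfl⟩ := hπ b
      obtain ⟨g, hg⟩ := QuotientGroup.mk'_surjective _ (k : QU y)
      obtain ⟨g', hg'⟩ := QuotientGroup.mk'_surjective _ (l : QU y)
      refine ⟨k * l, mem_subgroupOf.2 ⟨g * g', hP g g'
        (fun h => ha ⟨k, mem_subgroupOf.2 ⟨g, h, hg⟩, rfl⟩)
        (fun h => hb ⟨l, mem_subgroupOf.2 ⟨g', h, hg'⟩, rfl⟩), ?_⟩, map_mul π k l⟩
      rw [map_mul, hg, hg']
      rfl
    intro k hk
    obtain ⟨l, hl, hlk⟩ : π ⟨k, hk⟩ ∈ L := by rw [hL]; exact mem_top _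
    have hk' : (⟨k, hk⟩ : ↥G0) = l * (l⁻¹ * ⟨k, hk⟩) := by group
    have : k ∈ P.map (pr y) := by
      have hmem := (hπk (l⁻¹ * ⟨k, hk⟩)).1 (by rw [map_mul, map_inv, hlk, inv_mul_cancel])
      have he : k = (l : QU y) * ((l⁻¹ * ⟨k, hk⟩ : ↥G0) : QU y) := congrArg Subtype.val hk'
      rw [he]
      refine mul_mem (mem_subgroupOf.1 hl) ?_
      rcases hmem with h | h <;> rw [h]
      exacts [one_mem _, hz1P]
    obtain ⟨g, hg, e'⟩ := this
    exact ⟨g, e', mem_cent.1 hg⟩
  rcases hcases with hz1 | hz1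
  · -- z1 is the image of u: unitary type
    have hY : ∀ g, Commute g y → ∀ w ∈ yGrp z c, g * w * g⁻¹ ∈ yGrp z c := by
      intro g hg w hw
      have hgy : g * y * g⁻¹ = y := by rw [hg.eq, mul_inv_cancel_right]
      have hgu : g * u * g⁻¹ ∈ yGrp z c := by
        have e1 := hz1z (pr y ⟨g, mem_cent.2 hg⟩)
        rw [hz1] at e1
        have e2 := mul_inv_eq_iff_eq_mul.2 e1.eq
        rw [hub, ← map_inv, ← map_mul, ← map_mul] at e2
        rcases Q.pr_eq.1 e2.symm with h | h <;> simp only [coe_mul, InvMemClass.coe_inv] at h <;> rw [h]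
        exacts [huY, mul_mem huY hy]
      rcases D.Y_cases hy h1 hw with rfl | rfl | rfl | rfl
      · simpa using one_mem _
      · rw [hgy]; exact hy
      · exact hgu
      · rw [D.ccy_eq hy h1, show g * (y * u) * g⁻¹ = (g * y * g⁻¹) * (g * u * g⁻¹) by group, hgy]
        exact mul_mem hy hgu
    refine ⟨fun w hw hw1 g hg x hx => ?_, ?_⟩
    · obtain ⟨k, -, hkz, hk⟩ := D.class_Y hy h1 hw hw1
      have h := hY (k⁻¹ * g * k) (by
        rw [← hk] at hg
        have := conj_commute k⁻¹ hg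
        rwa [show k⁻¹ * (k * y * k⁻¹) * k⁻¹⁻¹ = y by group, inv_inv] at this) _
        (by have := D.Y_conj hkz.inv_left hx; rwa [inv_inv] at this)
      have h' := D.Y_conj hkz h
      rwa [show k * (k⁻¹ * g * k * (k⁻¹ * x * k) * (k⁻¹ * g * k)⁻¹) * k⁻¹ = g * x * g⁻¹ by group] at h'
    set CY := centralizer (yGrp z c : Set G) with hCY
    have hCYy : CY ≤ centralizer ({y} : Set G) := fun g hg => mem_cent.2 (mem_centralizer_iff.1 hg y hy).symm
    have inCY : ∀ g : ↥(centralizer ({y} : Set G)), Commute (g : G) u → (g : G) ∈ CY := by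
      intro g hg
      refine mem_centralizer_iff.2 fun w hw => ?_
      have hgy : Commute (g : G) y := mem_cent.1 g.2
      rcases D.Y_cases hy h1 hw with rfl | rfl | rfl | rfl
      · simp
      · exact hgy.eq.symm
      · exact hg.eq.symm
      · rw [D.ccy_eq hy h1]; exact (hgy.mul_right hg).eq.symm
    obtain ⟨s, hsz, hsy, hsu⟩ := D.exists_swap hy h1
    -- the centraliser of the four-group maps into the subgroup of index two
    have hfull : ∀ g : ↥(centralizer ({y} : Set G)), (g : G) ∈ CY → pr y g ∈ G0 := by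
      intro g hg
      by_contra hgn
      have hs_not : ∀ w : ↥(centralizer ({y} : Set G)), (w : G) = s → pr y w ∈ G0 → False := by
        intro w hw hwG
        obtain ⟨g', e', hc'⟩ := lifts u _ hz1.symm _ hwG
        refine h1 ?_
        have hwu : Commute s u := by
          rw [← hw]
          rcases Q.pr_eq.1 e' with h | h <;> rw [h]
          exacts [hc', hc'.mul_left (D.A_comm hyA hu)]
        rw [hwu.eq, mul_inv_cancel_right] at hsu
        exact mul_eq_right.1 hsu.symm
      have hsC : s ∈ centralizer ({y} : Set G) := mem_cent.2 hsy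
      have hprod : pr y (g * ⟨s, hsC⟩) ∈ G0 := by
        rw [map_mul, mul_mem_iff_of_index_two hidx]
        exact iff_of_false hgn (hs_not _ rfl)
      obtain ⟨g', e', hc'⟩ := lifts u _ hz1.symm _ hprod
      have hgs : Commute ((g : G) * s) u := by
        rcases Q.pr_eq.1 e' with h | h <;> simp only [coe_mul] at h <;> rw [h]
        exacts [hc', hc'.mul_left (D.A_comm hyA hu)]
      have hgu : Commute (g : G) u := (mem_centralizer_iff.1 hg u huY).symm
      have hsu' : Commute s u := by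
        have := hgu.inv_left.mul_left hgs
        rwa [inv_mul_cancel_left] at this
      rw [hsu'.eq, mul_inv_cancel_right] at hsu
      exact h1 (mul_eq_right.1 hsu.symm)
    let ι : ↥CY →* ↥G0 :=
      { toFun := fun g => ⟨pr y ⟨g, hCYy g.2⟩, hfull _ g.2⟩
        map_one' := Subtype.ext (map_one (pr y))
        map_mul' := fun a b => Subtype.ext (map_mul (pr y) ⟨a, hCYy a.2⟩ ⟨b, hCYy b.2⟩) }
    have hι : Function.Surjective (π.comp ι) := by
      intro w
      obtain ⟨k, rfl⟩ := hπ w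
      obtain ⟨g, e', hc'⟩ := lifts u _ hz1.symm k k.2
      exact ⟨⟨g, inCY g hc'⟩, congrArg π (Subtype.ext e')⟩
    have hker : (yGrp z c).subgroupOf CY = (π.comp ι).ker := by
      ext g
      rw [MonoidHom.mem_ker, MonoidHom.comp_apply, hπk, mem_subgroupOf]
      show (g : G) ∈ yGrp z c ↔ pr y ⟨g, hCYy g.2⟩ = 1 ∨ pr y ⟨g, hCYy g.2⟩ = z1
      rw [Q.pr_eq_one, hz1, eq_comm (b := ub), hub, Q.pr_eq]
      constructor
      · intro hg
        rcases D.Y_cases hy h1 hg with h | h | h | h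
        · exact Or.inl (Or.inl h)
        · exact Or.inl (Or.inr h)
        · exact Or.inr (Or.inl h)
        · exact Or.inr (Or.inr (by show (g : G) = u * y; rw [h, D.ccy_eq hy h1, (D.A_comm hu hyA).eq]))
      · rintro ((h | h) | (h | h)) <;> simp only at h <;> rw [h]
        exacts [one_mem _, hy, huY, mul_mem huY hy]
    haveI hn : ((yGrp z c).subgroupOf CY).Normal := by rw [hker]; exact MonoidHom.normal_ker _
    exact ⟨hn, ⟨(QuotientGroup.quotientMulEquivOfEq hker).trans
      (QuotientGroup.quotientKerEquivOfSurjective _ hι)⟩⟩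
  · -- z1 is the image of u z: impossible
    exfalso
    have hzu : z * u ∈ centralizer ({y} : Set G) :=
      mul_mem (mem_cent.2 (D.A_comm D.z_A hyA)) (mem_cent.2 (D.A_comm hu hyA))
    have hd1 : pr y ⟨z * u, hzu⟩ = z1 := by
      rw [hz1, hub, QHyp.zX, ← map_mul]
      exact congrArg _ (Subtype.ext (D.A_comm D.z_A hu).eq)
    have hTI := hd u huY hu1
    let W : Subgroup (Cfsg.PSU 6 K 2) :=
      (((oCore (z * u)).subgroupOf (centralizer ({y} : Set G))).map (pr y) |>.subgroupOf G0).map π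
    have hWn : W.Normal := by
      refine ⟨?_⟩
      rintro _ ⟨k, hk, rfl⟩ a
      obtain ⟨l, rfl⟩ := hπ a
      obtain ⟨o, hoO, hok⟩ := mem_subgroupOf.1 hk
      obtain ⟨g, hg, hgc⟩ := lifts _ _ hd1 l l.2
      refine ⟨l * k * l⁻¹, mem_subgroupOf.2 ⟨g * o * g⁻¹, mem_subgroupOf.2 ?_, ?_⟩,
        by rw [map_mul, map_mul, map_inv]⟩
      · simp only [coe_mul, InvMemClass.coe_inv]
        exact oCore_conj hgc (mem_subgroupOf.1 hoO)
      · simp only [map_mul, map_inv, hg, hok, coe_mul, InvMemClass.coe_inv]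
    have hWodd : Odd (Nat.card ↥W) := by
      refine Odd.of_dvd_nat (oCore_odd (z * u)) ?_
      refine (card_map_dvd _ _).trans ?_
      refine (Subgroup.card_comap_dvd_of_injective _ _ (subtype_injective _)).trans ?_
      refine (card_map_dvd _ _).trans ?_
      exact Subgroup.card_comap_dvd_of_injective _ _ (subtype_injective _)
    have hWbot : W = ⊥ := hWn.eq_bot_or_eq_top.resolve_right fun h => by
      rw [h, card_top, hU] at hWodd
      exact Nat.not_odd_iff_even.2 (by decide) hWodd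
    have hG0C : G0 ≤ centralizer ({Q.zX} : Set (QU y)) := by
      intro k hk
      obtain ⟨g, hg, hgc⟩ := lifts _ _ hd1 k hk
      have hm := hTI.move ((Commute.refl z).mul_right (D.A_comm D.z_A hu)) D.zz hgc
      have hzy : z ∈ centralizer ({y} : Set G) := mem_cent.2 (D.A_comm D.z_A hyA)
      set m : ↥(centralizer ({y} : Set G)) := g * ⟨z, hzy⟩ * g⁻¹ * ⟨z, hzy⟩ with hm_def
      have hinv : Q.zX⁻¹ = Q.zX := by
        refine inv_eq_of_mul_eq_one_right ?_
        rw [← pow_two, ← Q.zX_orderOf, pow_orderOf_eq_one]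
      have hmk : pr y m = k * Q.zX * k⁻¹ * Q.zX := by
        rw [hm_def, map_mul, map_mul, map_mul, map_inv, hg]
        rfl
      have hmG : pr y m ∈ G0 := by
        rw [hmk, show k * Q.zX * k⁻¹ * Q.zX = k * (Q.zX * k⁻¹ * Q.zX) by group]
        refine mul_mem hk ?_
        have := hG0n.conj_mem k⁻¹ (inv_mem hk) Q.zX
        rwa [hinv] at this
      have hmW : π ⟨pr y m, hmG⟩ ∈ W :=
        ⟨⟨pr y m, hmG⟩, mem_subgroupOf.2 ⟨m, mem_subgroupOf.2 hm, rfl⟩, rfl⟩
      rw [hWbot, mem_bot] at hmW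
      have hkz : k * Q.zX * k⁻¹ = Q.zX ∨ k * Q.zX * k⁻¹ = z1 * Q.zX := by
        rcases (hπk _).1 hmW with h | h
        · left
          have h' : k * Q.zX * k⁻¹ * Q.zX = 1 := hmk ▸ h
          rw [eq_inv_of_mul_eq_one_left h', hinv]
        · right
          have h' : k * Q.zX * k⁻¹ * Q.zX = z1 := hmk ▸ h
          rw [← h', mul_assoc _ Q.zX Q.zX, ← pow_two, ← Q.zX_orderOf, pow_orderOf_eq_one, mul_one]
      rcases hkz with h | h
      · exact mem_cent.2 (mul_inv_eq_iff_eq_mul.1 h)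
      · refine absurd ?_ (Fr.not_conj k).1
        rw [h, hz1, mul_assoc, ← pow_two, ← Q.zX_orderOf, pow_orderOf_eq_one, mul_one]
    -- orders
    haveI : Finite (Cfsg.PSU 6 K 2) := Nat.finite_of_card_ne_zero (by rw [hU]; norm_num)
    have hcard0 : Nat.card ↥G0 = 2 * 9196830720 := by
      rw [((zpowers z1).subgroupOf G0).card_eq_card_quotient_mul_card_subgroup,
        Nat.card_congr eU.toEquiv, hU, Nat.card_congr (subgroupOfEquivOfLe (zpowers_le.2 hz1G)).toEquiv,
        Nat.card_zpowers, ho]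
    have hcardC : Nat.card ↥(centralizer ({Q.zX} : Set (QU y))) = 1024 * 51840 := by
      rw [(Cfsg.pCore 2 ↥(centralizer ({Q.zX} : Set (QU y)))).card_eq_card_quotient_mul_card_subgroup,
        Nat.card_congr e.toEquiv, T.card_aut, mul_comm, core_card_of_frame Fr]
    have := Nat.le_of_dvd (by rw [hcardC]; norm_num) (card_dvd_of_le hG0C)
    rw [hcard0, hcardC] at this
    omega

end Cfsg.Agent.FiTwentyThreeByTwo
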