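import Cfsg.Agent.Lib.FiTwentyThreeByTwo.Config
import Cfsg.Agent.Lib.FiTwentyThreeByTwo.Types
import Cfsg.Agent.Lib.ZStar.InvariantSylow
import Cfsg.Agent.Lib.Coprime.Generation
import Cfsg.Agent.Lib.AutPSU.Count

/-!
# The two endings: `z` isolated, or the four-group normal
-/

set_option autoImplicit false
set_option linter.unusedSectionVars false
set_option linter.style.haveILetI false

namespace Cfsg.Agent.FiTwentyThreeByTwo

open Subgroup Cfsg.Agent.ThreeTransp.U62Cent Cfsg.Agent.FiTwentyTwoByTwo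

universe u' v w

variable {G : Type u'} [Group G] [Finite G] {z c : G}

namespace Setup

variable (D : Setup z c)

include D

theorem yc_eq_of {g : G} (h : ∀ y ∈ yGrp z c, g * y * g⁻¹ ∈ yGrp z c) : yc z c g = yGrp z c :=
  eq_of_le_of_card_ge (by rintro _ ⟨y, hy, rfl⟩; exact h y hy) (by rw [D.yc_card, D.card_Y])

theorem mem_normalizer_iff_yc {g : G} : g ∈ normalizer (yGrp z c : Set G) ↔ yc z c g = yGrp z c := by
  constructor
  · exact fun h => D.yc_eq_of fun y hy => (mem_normalizer_iff.1 h y).1 hy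
  · intro h
    refine mem_normalizer_iff.2 fun y => ⟨fun hy => h ▸ ⟨y, hy, rfl⟩, fun hy => ?_⟩
    have hy' : g * y * g⁻¹ ∈ yc z c g := by rw [h]; exact hy
    obtain ⟨x, hx, e⟩ := hy'
    rwa [show y = x from (mul_left_cancel (mul_right_cancel e)).symm]

theorem cent_z_le : ∀ g, Commute g z → g ∈ normalizer (yGrp z c : Set G) := fun _ hg =>
  D.mem_normalizer_iff_yc.2 (D.yc_eq_of fun _ hy => D.Y_conj hg hy)

/-- If `C(y) = C(z, y) O(C(y))` for all `y`, the centralisers normalise. -/
theorem nor_of_TI (hy : ∀ y ∈ yGrp z c, y ≠ 1 → TI z y) : Nor z c := by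
  intro g hga y hyY hy1 hyz h hh hc w hw
  have hha := D.cent_conj (hy y hyY hy1) (D.Y_z hyY).symm (D.Y_sq hyY) hyz hga hh hc
  rw [mem_yc] at hw ⊢
  have hgz : Commute (g⁻¹ * h * g) z := by
    have := conj_commute g⁻¹ hha
    rwa [show g⁻¹ * (g * z * g⁻¹) * g⁻¹⁻¹ = z by group, inv_inv] at this
  have := D.Y_conj hgz hw
  rwa [show g⁻¹ * h * g * (g⁻¹ * w * g) * (g⁻¹ * h * g)⁻¹ = g⁻¹ * (h * w * h⁻¹) * g by group] at this

/-- If the centralisers of the elements of the four-group normalise it, so do conjugates. -/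
theorem nor_of_normal
    (hU : ∀ y ∈ yGrp z c, y ≠ 1 → ∀ g, Commute g y → ∀ w ∈ yGrp z c, g * w * g⁻¹ ∈ yGrp z c) :
    Nor z c := by
  intro g _ y hyY hy1 _ h _ hc w hw
  rw [mem_yc] at hw ⊢
  have hgy : Commute (g⁻¹ * h * g) y := by
    have := conj_commute g⁻¹ hc
    rwa [show g⁻¹ * (g * y * g⁻¹) * g⁻¹⁻¹ = y by group, inv_inv] at this
  have := hU y hyY hy1 _ hgy _ hw
  rwa [show g⁻¹ * h * g * (g⁻¹ * w * g) * (g⁻¹ * h * g)⁻¹ = g⁻¹ * (h * w * h⁻¹) * g by group] at this

end Setup

namespace Model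

variable (K : Model z c) {S : Type v} [Group S] (T : Top z c S)
  (hd : ∀ y ∈ yGrp z c, y ≠ 1 → TI z (z * y))

include K T hd

theorem top_of_TI (hy : ∀ y ∈ yGrp z c, y ≠ 1 → TI z y) :
    centralizer ({z} : Set G) ⊔ Cfsg.oddCore G = ⊤ := by
  have D := K.base
  rw [sup_comm]
  refine Cfsg.Agent.ZStar.InvariantSylow.oddCore_sup_centralizer
    ⟨orderOf_eq_prime (by rw [pow_two]; exact D.zz) D.z_ne, fun g hg => ?_⟩
  rcases K.same_four T hd (D.nor_of_TI hy) hg.symm with h | h
  · exact h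
  obtain ⟨y, hyY, hy1⟩ := D.exists_y
  have hw : g * y * g⁻¹ ∈ yGrp z c := h ▸ ⟨y, hyY, rfl⟩
  obtain ⟨k, -, hkz, hke⟩ := D.class_Y hw (fun e => hy1 (conj_eq_one_iff.1 e)) hyY hy1
  have hcy : Commute (k * g) y := mul_inv_eq_iff_eq_mul.1 (Eq.trans (by group) hke)
  have hcz : Commute (k * g * z * (k * g)⁻¹) z := by
    have := (hkz.mul_left hg.symm).mul_left hkz.inv_left
    rwa [show k * (g * z * g⁻¹) * k⁻¹ = k * g * z * (k * g)⁻¹ by group] at this
  have e := (hy y hyY hy1).eq_of_commute (D.Y_z hyY).symm D.zz hcy hcz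
  calc g * z * g⁻¹ = k⁻¹ * (k * g * z * (k * g)⁻¹) * k := by group
    _ = k⁻¹ * (z * k) := by rw [e]; group
    _ = z := by rw [← hkz.eq, inv_mul_cancel_left]

omit hd in
/-- An involution normalising the four-group is moved by the normaliser into `C(z)`. -/
theorem into_cent {t : G} (ht : t ∈ normalizer (yGrp z c : Set G)) (ht2 : t * t = 1) :
    ∃ n ∈ normalizer (yGrp z c : Set G), Commute (n * t * n⁻¹) z := by
  classical
  have D := K.base
  haveI : Fact (Nat.Prime 2) := ⟨Nat.prime_two⟩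
  set N := normalizer (yGrp z c : Set G) with hN
  obtain ⟨R⟩ := (Sylow.nonempty : Nonempty (Sylow 2 ↥(centralizer ({z} : Set G))))
  set R' := (R : Subgroup ↥(centralizer ({z} : Set G))).map (centralizer ({z} : Set G)).subtype with hR'
  obtain ⟨P, hP⟩ := (R.2.map (centralizer ({z} : Set G)).subtype).exists_le_sylow
  have hJR : O2c z ≤ R' := map_mono (Cfsg.Agent.Cores.pCore_le_sylow R)
  have hPC : ∀ p ∈ (P : Subgroup G), Commute p z → p ∈ R' := by
    intro p hp hpz
    have hle : (R : Subgroup ↥(centralizer ({z} : Set G))) ≤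
        (P : Subgroup G).comap (centralizer ({z} : Set G)).subtype := fun x hx => hP ⟨x, hx, rfl⟩
    have := R.3 (P.2.comap_of_injective _ (centralizer ({z} : Set G)).subtype_injective) hle
    exact ⟨⟨p, mem_cent.2 hpz⟩, this ▸ (show (⟨p, mem_cent.2 hpz⟩ : ↥(centralizer ({z} : Set G))) ∈
      (P : Subgroup G).comap (centralizer ({z} : Set G)).subtype from hp), rfl⟩
  have hPR : (P : Subgroup G) = R' := by
    refine le_antisymm ?_ hP
    by_contra hnle
    haveI : Group.IsNilpotent ↥(P : Subgroup G) := P.2.isNilpotent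
    have hlt : R'.subgroupOf (P : Subgroup G) < ⊤ :=
      lt_top_iff_ne_top.2 fun e => hnle (subgroupOf_eq_top.1 e)
    obtain ⟨⟨s, hsP⟩, hsn, hsR⟩ :=
      SetLike.exists_of_lt (Group.normalizerCondition_of_isNilpotent _ hlt)
    have hback : ∀ x ∈ R', s * x * s⁻¹ ∈ R' ∧ s⁻¹ * x * s ∈ R' := by
      intro x hx
      constructor
      · exact mem_subgroupOf.1 ((mem_normalizer_iff.1 hsn ⟨x, hP hx⟩).1 (mem_subgroupOf.2 hx))
      · exact mem_subgroupOf.1 ((mem_normalizer_iff''.1 hsn ⟨x, hP hx⟩).1 (mem_subgroupOf.2 hx))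
    have hRz : ∀ x ∈ R', Commute x z := fun x hx => mem_cent.1 (map_subtype_le _ hx)
    have hA : s * z * s⁻¹ ∈ zA z := D.mem_A.2 fun j hj => by
      have := conj_commute s (hRz _ (hback j (hJR hj)).2)
      rw [show s * (s⁻¹ * j * s) * s⁻¹ = j by group] at this
      exact this.symm
    have hsz : Commute s z := by
      by_contra hns
      exact D.not_conj T hA (fun e => hns (mul_inv_eq_iff_eq_mul.1 e)) s⁻¹ (by group)
    exact hsR (mem_subgroupOf.2 (hPC s hsP hsz))
  have hPN : (P : Subgroup G) ≤ N := by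
    rw [hPR]
    exact fun x hx => D.cent_z_le x (mem_cent.1 (map_subtype_le _ hx))
  have ht' : IsPGroup 2 ↥(zpowers (⟨t, ht⟩ : ↥N)) := by
    refine fun x => ⟨1, ?_⟩
    obtain ⟨i, hi⟩ := mem_zpowers_iff.1 x.2
    refine Subtype.ext ?_
    rw [SubgroupClass.coe_pow, ← hi, pow_one, pow_two, ← (Commute.refl _).mul_zpow,
      show (⟨t, ht⟩ : ↥N) * ⟨t, ht⟩ = 1 from Subtype.ext ht2, one_zpow]
    rfl
  obtain ⟨Q, hQ⟩ := ht'.exists_le_sylow
  obtain ⟨n, hn⟩ := MulAction.exists_smul_eq ↥N Q (P.subtype hPN)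
  refine ⟨n, n.2, ?_⟩
  have hm : n * ⟨t, ht⟩ * n⁻¹ ∈ ((P.subtype hPN : Sylow 2 ↥N) : Subgroup ↥N) := by
    rw [← hn, Sylow.coe_subgroup_smul]
    exact ⟨⟨t, ht⟩, hQ (mem_zpowers _), rfl⟩
  rw [Sylow.coe_subtype, mem_subgroupOf, hPR] at hm
  have := mem_cent.1 (map_subtype_le _ hm)
  simpa using this

variable (hU : ∀ y ∈ yGrp z c, y ≠ 1 → ∀ g, Commute g y → ∀ w ∈ yGrp z c, g * w * g⁻¹ ∈ yGrp z c)

include hU

theorem conj_z_mem {g : G} (h : Commute (g * z * g⁻¹) z) : g ∈ normalizer (yGrp z c : Set G) := by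
  have D := K.base
  rcases K.same_four T hd (D.nor_of_normal hU) h with e | e
  · exact D.cent_z_le g (mul_inv_eq_iff_eq_mul.1 e)
  · exact D.mem_normalizer_iff_yc.2 e

theorem fusion {g y : G} (hy : y ∈ yGrp z c) (hy1 : y ≠ 1)
    (h : g * y * g⁻¹ ∈ normalizer (yGrp z c : Set G)) : g * y * g⁻¹ ∈ yGrp z c := by
  have D := K.base
  have hzz := D.zz
  obtain ⟨n, hn, hz1⟩ := K.into_cent T h (by
    rw [show g * y * g⁻¹ * (g * y * g⁻¹) = g * (y * y) * g⁻¹ by group, D.Y_sq hy]; group)
  have hcy : Commute ((n * g)⁻¹ * z * (n * g)) y := by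
    have := conj_commute (n * g)⁻¹ hz1
    rw [show (n * g)⁻¹ * (n * (g * y * g⁻¹) * n⁻¹) * (n * g)⁻¹⁻¹ = y by group, inv_inv] at this
    exact this.symm
  have hmem : (n * g)⁻¹ * z * (n * g) ∈ normalizer (yGrp z c : Set G) :=
    D.mem_normalizer_iff_yc.2 (D.yc_eq_of (hU y hy hy1 _ hcy))
  obtain ⟨m, hm, hz2⟩ := K.into_cent T hmem (by
    rw [show (n * g)⁻¹ * z * (n * g) * ((n * g)⁻¹ * z * (n * g)) = (n * g)⁻¹ * (z * z) * (n * g) by group,
      hzz]; group)
  have h1 := K.conj_z_mem T hd hU (g := m * (n * g)⁻¹) (by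
    rwa [show m * (n * g)⁻¹ * z * (m * (n * g)⁻¹)⁻¹ = m * ((n * g)⁻¹ * z * (n * g)) * m⁻¹ by group])
  have hg : g ∈ normalizer (yGrp z c : Set G) := by
    have h2 := mul_mem (mul_mem (inv_mem hn) (inv_mem h1)) hm
    rwa [show n⁻¹ * (m * (n * g)⁻¹)⁻¹ * m = g * (m⁻¹ * m) by group, inv_mul_cancel, mul_one] at h2
  exact (mem_normalizer_iff.1 hg y).1 hy

theorem cent_d {y : G} (hy : y ∈ yGrp z c) (hy1 : y ≠ 1) :
    centralizer ({z * y} : Set G) ≤ normalizer (yGrp z c : Set G) := by
  classical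
  have D := K.base
  set N := normalizer (yGrp z c : Set G) with hN
  have hO : oCore (z * y) ≤ N := by
    have hYc : ∀ w ∈ yGrp z c, Commute w (z * y) := fun w hw =>
      D.A_comm (D.Y_le hw) (mul_mem D.z_A (D.Y_le hy))
    haveI : IsMulCommutative ↥(yGrp z c) :=
      ⟨⟨fun a b => Subtype.ext (D.A_comm (D.Y_le a.2) (D.Y_le b.2)).eq⟩⟩
    have hnc : ¬ IsCyclic ↥(yGrp z c) := by
      intro hcyc
      obtain ⟨g, hg⟩ := hcyc.exists_generator
      have h4 : orderOf g = 4 := by rw [orderOf_eq_card_of_forall_mem_zpowers hg, D.card_Y]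
      have h2 : orderOf g ∣ 2 := orderOf_dvd_of_pow_eq_one (by rw [pow_two]; exact Subtype.ext (D.Y_sq g.2))
      rw [h4] at h2
      norm_num at h2
    have hnorm : yGrp z c ≤ normalizer (oCore (z * y) : Set G) := fun w hw =>
      mem_normalizer_iff.2 fun o => ⟨fun ho => oCore_conj (hYc w hw) ho, fun ho => by
        have := oCore_conj (hYc w hw).inv_left ho
        rwa [show w⁻¹ * (w * o * w⁻¹) * w⁻¹⁻¹ = o by group] at this⟩
    have hcop : (Nat.card ↥(yGrp z c)).Coprime (Nat.card ↥(oCore (z * y))) := by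
      rw [D.card_Y, show (4 : ℕ) = 2 ^ 2 by norm_num]
      exact Nat.Coprime.pow_left 2 (Nat.coprime_two_left.2 (oCore_odd _))
    rw [← Cfsg.Agent.Coprime.fixedGen_eq hnc hnorm hcop]
    refine iSup₂_le fun a ha => ?_
    rintro o ⟨-, ho⟩
    exact D.mem_normalizer_iff_yc.2 (D.yc_eq_of (hU a ha.1 ha.2 o (mem_cent.1 ho)))
  intro g hg
  obtain ⟨h, o, hhz, -, ho, rfl⟩ := hd y hy hy1 g (mem_cent.1 hg)
  exact mul_mem (D.cent_z_le h hhz) (hO ho)

/-- the four-group is normal -/
theorem yGrp_normal : (yGrp z c).Normal := by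
  classical
  have D := K.base
  refine ⟨fun y hy g => ?_⟩
  by_cases hy1 : y = 1
  · rw [hy1]; simp
  refine K.fusion T hd hU hy hy1 ?_
  set w := g * y * g⁻¹ with hw
  have hw2 : w * w = 1 := by
    rw [hw, show g * y * g⁻¹ * (g * y * g⁻¹) = g * (y * y) * g⁻¹ by group, D.Y_sq hy]; group
  set r := w * z with hr
  have hzr : z * r * z = r⁻¹ := by
    rw [eq_inv_iff_mul_eq_one, hr]
    calc z * (w * z) * z * (w * z) = z * w * (z * z) * w * z := by group
      _ = z * (w * w) * z := by rw [D.zz]; group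
      _ = 1 := by rw [hw2, mul_one, D.zz]
  have hzk : ∀ k : ℕ, z * r ^ k * z = (r ^ k)⁻¹ := by
    intro k
    induction k with
    | zero => simp [D.zz]
    | succ k ih =>
      calc z * r ^ (k + 1) * z = z * r ^ k * (z * z) * r * z := by rw [D.zz, pow_succ]; group
        _ = (z * r ^ k * z) * (z * r * z) := by group
        _ = (r ^ (k + 1))⁻¹ := by rw [ih, hzr, ← _root_.mul_inv_rev, ← pow_succ']
  have hwr : w = r * z := by rw [hr, mul_assoc, D.zz, mul_one]
  have hzinv : ∀ k : ℕ, r ^ k * z * (r ^ k)⁻¹ = r ^ (k + k) * z := by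
    intro k
    rw [← hzk k, pow_add]
    calc r ^ k * z * (z * r ^ k * z) = r ^ k * (z * z) * r ^ k * z := by group
      _ = _ := by rw [D.zz, mul_one]
  have hwk : ∀ k : ℕ, r ^ k * w * (r ^ k)⁻¹ = r ^ (k + k + 1) * z := by
    intro k
    calc r ^ k * w * (r ^ k)⁻¹ = r * (r ^ k * z * (r ^ k)⁻¹) := by rw [hwr]; group
      _ = _ := by rw [hzinv, ← mul_assoc, ← pow_succ']
  rcases Nat.even_or_odd (orderOf r) with ⟨m, hm⟩ | ⟨m, hm⟩
  swap
  · exfalso
    have hh := hzinv (m + 1)
    have h1 : r ^ (m + 1 + (m + 1)) = r := by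
      rw [show m + 1 + (m + 1) = (2 * m + 1) + 1 by ring, ← hm, pow_succ, pow_orderOf_eq_one, one_mul]
    rw [h1, ← hwr] at hh
    refine D.not_conj T (D.Y_le hy) (fun e => D.z_not_Y (e ▸ hy)) ((r ^ (m + 1))⁻¹ * g) ?_
    calc (r ^ (m + 1))⁻¹ * g * y * ((r ^ (m + 1))⁻¹ * g)⁻¹ = (r ^ (m + 1))⁻¹ * w * r ^ (m + 1) := by
          rw [hw]; group
      _ = z := by rw [← hh]; group
  -- the central involution of the dihedral group
  set k := r ^ m with hk
  have hk2 : k * k = 1 := by rw [hk, ← pow_add, ← hm]; exact pow_orderOf_eq_one r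
  have hki : k⁻¹ = k := inv_eq_of_mul_eq_one_right hk2
  have hm0 : m ≠ 0 := fun e => by
    have := orderOf_pos r
    omega
  have hk1 : k ≠ 1 := fun e => by
    have := Nat.le_of_dvd (Nat.pos_of_ne_zero hm0) (orderOf_dvd_of_pow_eq_one e)
    omega
  have hkz : Commute k z := by
    have h := hzk m
    rw [← hk, hki] at h
    show k * z = z * k
    nth_rewrite 1 [← h]
    rw [mul_assoc, D.zz, mul_one]
  have hkw : Commute k w := by
    rw [hwr]
    exact ((Commute.refl r).pow_left m).mul_right hkz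
  have hkN : k ∈ normalizer (yGrp z c : Set G) := D.cent_z_le k hkz
  -- it lies in the centre of the core
  have hkA : ∃ y' ∈ yGrp z c, y' ≠ 1 ∧ (k = y' ∨ k = z * y') := by
    rcases Nat.even_or_odd m with ⟨i, hi⟩ | ⟨i, hi⟩
    · have e1 : r ^ i * w * (r ^ i)⁻¹ = k * w := by
        rw [hwk, ← hi, pow_succ, hwr, ← hk, mul_assoc]
      set x := g⁻¹ * (r ^ i * g) * y * (g⁻¹ * (r ^ i * g))⁻¹ with hx
      have hxe : x = g⁻¹ * k * g * y := by
        calc x = g⁻¹ * (r ^ i * w * (r ^ i)⁻¹) * g := by rw [hx, hw]; group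
          _ = g⁻¹ * k * (g * y * g⁻¹) * g := by rw [e1, hw]; group
          _ = _ := by group
      have hxy : Commute x y := by
        have h := conj_commute g⁻¹ (hkw.mul_left (Commute.refl w))
        rw [show g⁻¹ * w * g⁻¹⁻¹ = y by rw [hw]; group, show g⁻¹ * (k * w) * g⁻¹⁻¹ = x by
          rw [hxe, hw]; group] at h
        exact h
      have hxN : x ∈ normalizer (yGrp z c : Set G) :=
        D.mem_normalizer_iff_yc.2 (D.yc_eq_of (hU y hy hy1 _ hxy))
      have hk' : g⁻¹ * k * g ∈ yGrp z c := by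
        have := mul_mem (K.fusion T hd hU hy hy1 (g := g⁻¹ * (r ^ i * g)) hxN) (inv_mem hy)
        rwa [← hx, hxe, mul_inv_cancel_right] at this
      have hk'1 : g⁻¹ * k * g ≠ 1 := fun e => hk1 (by
        calc k = g * (g⁻¹ * k * g) * g⁻¹ := by group
          _ = 1 := by rw [e]; group)
      have hke : g * (g⁻¹ * k * g) * g⁻¹ = k := by group
      have := K.fusion T hd hU hk' hk'1 (g := g) (by rw [hke]; exact hkN)
      rw [hke] at this
      exact ⟨k, this, hk1, Or.inl rfl⟩
    · have e1 : k * z = r ^ i * w * (r ^ i)⁻¹ := by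
        rw [hwk, hk, hi, two_mul]
      have hm' : k * z ∈ yGrp z c := by
        have hN' : r ^ i * g * y * (r ^ i * g)⁻¹ ∈ normalizer (yGrp z c : Set G) := by
          rw [show r ^ i * g * y * (r ^ i * g)⁻¹ = k * z by rw [e1, hw]; group]
          exact D.cent_z_le _ (hkz.mul_left (Commute.refl z))
        have := K.fusion T hd hU hy hy1 hN'
        rwa [show r ^ i * g * y * (r ^ i * g)⁻¹ = k * z by rw [e1, hw]; group] at this
      refine ⟨k * z, hm', fun e => hy1 ?_, Or.inr ?_⟩
      · rw [e1, hw] at e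
        exact conj_eq_one_iff.1 (conj_eq_one_iff.1 e)
      · rw [hkz.eq, ← mul_assoc, D.zz, one_mul]
  obtain ⟨y', hy', hy'1, e | e⟩ := hkA
  · rw [e] at hkw
    exact D.mem_normalizer_iff_yc.2 (D.yc_eq_of (hU y' hy' hy'1 _ hkw.symm))
  · rw [e] at hkw
    exact K.cent_d T hd hU hy' hy'1 (mem_cent.2 hkw.symm)

omit hd hU in
/-- the quotient by the normal four-group is the automorphism group -/
theorem quot_iso {F : Type w} [Field F] [Fintype F] (hF : Fintype.card F = 4) [hn : (yGrp z c).Normal]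
    [hnC : ((yGrp z c).subgroupOf (centralizer (yGrp z c : Set G))).Normal]
    (eU : (↥(centralizer (yGrp z c : Set G)) ⧸ (yGrp z c).subgroupOf (centralizer (yGrp z c : Set G))) ≃*
      Cfsg.PSU 6 F 2) : Nonempty ((G ⧸ yGrp z c) ≃* MulAut (Cfsg.PSU 6 F 2)) := by
  classical
  have D := K.base
  haveI : (centralizer (yGrp z c : Set G)).Normal := ⟨fun x hx g => by
    refine mem_centralizer_iff.2 fun y hy => ?_
    have hy' : g⁻¹ * y * g ∈ yGrp z c := by simpa using hn.conj_mem y hy g⁻¹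
    have h := conj_commute g (show Commute x (g⁻¹ * y * g) from (mem_centralizer_iff.1 hx _ hy').symm)
    rw [show g * (g⁻¹ * y * g) * g⁻¹ = y by group] at h
    exact h.eq.symm⟩
  have hF' : Fintype.card F = 2 ^ 2 := by rw [hF]; norm_num
  haveI : IsSimpleGroup (Cfsg.PSU 6 F 2) := S0283.result (q := 2) hF' 6 (by norm_num) (by norm_num)
  have hUc := card_U hF
  haveI : Finite (Cfsg.PSU 6 F 2) := Nat.finite_of_card_ne_zero (by rw [hUc]; norm_num)
  have hmap : ∀ g : G, ((yGrp z c).subgroupOf (centralizer (yGrp z c : Set G))).map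
      (MulAut.conjNormal (H := centralizer (yGrp z c : Set G)) g).toMonoidHom =
      (yGrp z c).subgroupOf (centralizer (yGrp z c : Set G)) := by
    intro g
    ext x
    constructor
    · rintro ⟨y, hy, rfl⟩
      refine mem_subgroupOf.2 ?_
      show ((MulAut.conjNormal g y : ↥(centralizer (yGrp z c : Set G))) : G) ∈ yGrp z c
      rw [MulAut.conjNormal_apply]
      exact hn.conj_mem _ (mem_subgroupOf.1 hy) g
    · intro hx
      refine ⟨(MulAut.conjNormal (H := centralizer (yGrp z c : Set G)) g).symm x, mem_subgroupOf.2 ?_,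
        MulEquiv.apply_symm_apply _ x⟩
      rw [MulAut.conjNormal_symm_apply]
      simpa using hn.conj_mem _ (mem_subgroupOf.1 hx) g⁻¹
  let α : G →* MulAut (↥(centralizer (yGrp z c : Set G)) ⧸
      (yGrp z c).subgroupOf (centralizer (yGrp z c : Set G))) :=
    { toFun := fun g => QuotientGroup.congr _ _ (MulAut.conjNormal g) (hmap g)
      map_one' := by
        ext q
        obtain ⟨x, rfl⟩ := QuotientGroup.mk'_surjective _ q
        simp
      map_mul' := fun a b => by
        ext q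
        obtain ⟨x, rfl⟩ := QuotientGroup.mk'_surjective _ q
        show QuotientGroup.mk' _ (MulAut.conjNormal (a * b) x) =
          QuotientGroup.mk' _ (MulAut.conjNormal a (MulAut.conjNormal b x))
        rw [map_mul]; rfl }
  have hα : ∀ g, α g = 1 → ∀ x : ↥(centralizer (yGrp z c : Set G)), (x : G)⁻¹ * (g * x * g⁻¹) ∈ yGrp z c := by
    intro g hg x
    have h : QuotientGroup.mk' ((yGrp z c).subgroupOf (centralizer (yGrp z c : Set G)))
        (MulAut.conjNormal g x) = QuotientGroup.mk' _ x :=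
      congrArg (fun f : MulAut _ => f (QuotientGroup.mk' _ x)) hg
    have h' := QuotientGroup.eq.1 h.symm
    rw [mem_subgroupOf] at h'
    simpa using h'
  have hJC : ∀ {j}, j ∈ O2c z → j ∈ centralizer (yGrp z c : Set G) := fun hj =>
    (mem_inf.1 (D.J_le_cY hj)).2
  have hker : α.ker = yGrp z c := by
    refine le_antisymm (fun g hg => ?_) (fun g hg => ?_)
    · have hg' := hα g hg
      -- it fixes `z`
      have hgz : Commute g z := by
        have h := hg' ⟨z, hJC D.z_mem⟩
        refine mul_inv_eq_iff_eq_mul.1 ?_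
        by_cases h1 : z⁻¹ * (g * z * g⁻¹) = 1
        · rwa [inv_mul_eq_one, eq_comm] at h1
        · exact D.conj_eq T (D.Y_le h) h1 (Or.inr (mul_inv_cancel_left z _).symm)
      have hgJ : g ∈ O2c z := by
        refine (K.ker hgz).1 (Equiv.ext fun v => ?_)
        have hx := K.lift_mem v
        have h := hg' ⟨K.lift v, hJC hx⟩
        show K.act g v = v
        have e := congrArg K.vec (mul_inv_cancel_left (K.lift v) (g * K.lift v * g⁻¹))
        rw [K.vec_mul hx (D.A_le (D.Y_le h)), K.vec_A (D.Y_le h), add_zero, K.vec_lift,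
          K.act_vec hgz hx, K.vec_lift] at e
        exact e.symm
      have hgA : g ∈ zA z := D.mem_A.2 fun j hj => by
        have h := hg' ⟨j, hJC hj⟩
        rcases D.comm _ hgJ _ hj with e | e
        · exact e
        · exfalso
          refine D.z_not_Y ?_
          rwa [show j⁻¹ * (g * j * g⁻¹) = z by
            rw [e]
            calc j⁻¹ * (z * (j * g) * g⁻¹) = j⁻¹ * (z * j) := by group
              _ = z := by rw [← (commute_of_O2c hj).eq, inv_mul_cancel_left]] at h
      rcases D.A_cases hgA with e | e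
      · exact e
      exfalso
      -- `z` would act trivially
      have hY : ∀ x : ↥(centralizer (yGrp z c : Set G)), (x : G)⁻¹ * (z * x * z⁻¹) ∈ yGrp z c := by
        intro x
        have h := hg' x
        have hzg : Commute (z * g) (x : G) := mem_centralizer_iff.1 x.2 _ e
        have e2 : z * (x : G) * z⁻¹ = g * x * g⁻¹ := by
          have hzg' : z * g * (x : G) = (x : G) * (z * g) := hzg.eq
          have hgi : g⁻¹ = g := D.A_inv hgA
          calc z * (x : G) * z⁻¹ = z * x * (z * (g * g)) := by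
                rw [D.z_inv, D.A_sq g hgA, mul_one]
            _ = z * (z * g * x) * g := by rw [hzg']; group
            _ = (z * z) * (g * x * g⁻¹) := by rw [hgi]; group
            _ = _ := by rw [D.zz, one_mul]
        rw [e2]; exact h
      have hcen : QuotientGroup.mk' ((yGrp z c).subgroupOf (centralizer (yGrp z c : Set G)))
          ⟨z, hJC D.z_mem⟩ ∈ Subgroup.center _ := by
        refine mem_center_iff.2 fun q => ?_
        obtain ⟨x, rfl⟩ := QuotientGroup.mk'_surjective _ q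
        rw [← map_mul, ← map_mul]
        refine QuotientGroup.eq.2 (mem_subgroupOf.2 ?_)
        have h := hY x
        have hx := hY x⁻¹
        show ((x : G) * z)⁻¹ * (z * (x : G)) ∈ yGrp z c
        have hzx : ((x : G) * z)⁻¹ * (z * (x : G)) = z * ((x : G)⁻¹ * (z * (x : G) * z⁻¹)) * z⁻¹ := by
          rw [D.z_inv, _root_.mul_inv_rev, D.z_inv]
          calc z * (x : G)⁻¹ * (z * (x : G)) = z * (x : G)⁻¹ * (z * (x : G) * (z * z)) := by
                rw [D.zz, mul_one]
            _ = _ := by group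
        rw [hzx]
        exact D.Y_conj (Commute.refl z) h
      have hb : Subgroup.center (↥(centralizer (yGrp z c : Set G)) ⧸
          (yGrp z c).subgroupOf (centralizer (yGrp z c : Set G))) = ⊥ := by
        haveI : IsSimpleGroup (↥(centralizer (yGrp z c : Set G)) ⧸
            (yGrp z c).subgroupOf (centralizer (yGrp z c : Set G))) := MulEquiv.isSimpleGroup eU
        refine (inferInstance : (Subgroup.center _).Normal).eq_bot_or_eq_top.resolve_right fun h => ?_
        have hp := prime_card_of_comm (U := Cfsg.PSU 6 F 2) fun p q => eU.symm.injective (by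
          rw [map_mul, map_mul]
          exact mem_center_iff.1 (h ▸ mem_top (eU.symm q)) (eU.symm p))
        rw [hUc] at hp
        norm_num at hp
      rw [hb, mem_bot, QuotientGroup.mk'_apply, QuotientGroup.eq_one_iff, mem_subgroupOf] at hcen
      exact D.z_not_Y hcen
    · refine MulEquiv.ext fun q => ?_
      obtain ⟨x, rfl⟩ := QuotientGroup.mk'_surjective _ q
      show QuotientGroup.mk' _ (MulAut.conjNormal g x) = QuotientGroup.mk' _ x
      congr 1
      refine Subtype.ext ?_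
      rw [MulAut.conjNormal_apply, mem_centralizer_iff.1 x.2 g hg, mul_inv_cancel_right]
  let β : G →* MulAut (Cfsg.PSU 6 F 2) := (MulAut.congr eU).toMonoidHom.comp α
  have hβ : β.ker = yGrp z c := by
    rw [← hker]
    ext g
    rw [MonoidHom.mem_ker, MonoidHom.mem_ker]
    exact map_eq_one_iff (MulAut.congr eU) (MulAut.congr eU).injective
  let γ : G ⧸ yGrp z c →* MulAut (Cfsg.PSU 6 F 2) := QuotientGroup.lift (yGrp z c) β hβ.ge
  have hγ : Function.Injective γ := (injective_iff_map_eq_one γ).2 fun q hq => by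
    obtain ⟨g, rfl⟩ := QuotientGroup.mk'_surjective _ q
    exact (QuotientGroup.eq_one_iff g).2 (hβ ▸ hq)
  -- orders
  have hA : Nat.card (MulAut (Cfsg.PSU 6 F 2)) = 6 * 9196830720 := by
    haveI : Fact (Nat.Prime 2) := ⟨Nat.prime_two⟩
    rw [Cfsg.Agent.AutPSU.Count.card_mulAut (q := 2) hF' 2 (f := 1) (by norm_num) (by norm_num) (by norm_num),
      hUc]
    norm_num
  haveI : Finite (MulAut (Cfsg.PSU 6 F 2)) := Nat.finite_of_card_ne_zero (by rw [hA]; norm_num)
  refine ⟨MulEquiv.ofBijective γ (hγ.bijective_of_nat_card_le ?_)⟩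
  rw [hA]
  set CY := centralizer (yGrp z c : Set G) with hCY
  have hle : yGrp z c ≤ CY := fun y hy => hJC (D.A_le (D.Y_le hy))
  have h1 : (yGrp z c).relIndex CY = 9196830720 := by
    show ((yGrp z c).subgroupOf CY).index = _
    rw [index_eq_card, Nat.card_congr eU.toEquiv, hUc]
  have h2 : 6 ∣ CY.index := by
    refine dvd_trans (dvd_of_eq ?_) (relIndex_dvd_index_of_normal CY (centralizer ({z} : Set G)))
    obtain ⟨ψ, hψ, hk⟩ := D.hom_Y T
    haveI : Finite S := Nat.finite_of_card_ne_zero (by rw [T.card]; norm_num)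
    have hc : Nat.card ↥(cY z c) = 25920 * 2048 := by
      rw [ψ.ker.card_eq_card_quotient_mul_card_subgroup,
        Nat.card_congr (QuotientGroup.quotientKerEquivOfSurjective ψ hψ).toEquiv, T.card]
      congr 1
      rw [← D.card]
      exact Nat.card_congr
        { toFun := fun h => ⟨((h : ↥(cY z c)) : G), (hk _).1 h.2⟩
          invFun := fun j => ⟨⟨j, D.J_le_cY j.2⟩, (hk _).2 j.2⟩
          left_inv := fun _ => rfl
          right_inv := fun _ => rfl }
    have h := (CY.subgroupOf (centralizer ({z} : Set G))).card_mul_index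
    rw [D.card_H T, ← inf_subgroupOf_left, Nat.card_congr (subgroupOfEquivOfLe inf_le_left).toEquiv,
      show Nat.card ↥(centralizer ({z} : Set G) ⊓ CY) = 25920 * 2048 from hc] at h
    have : (CY.subgroupOf (centralizer ({z} : Set G))).index = 6 := by
      rw [inf_subgroupOf_left] at h
      omega
    exact this.symm
  have h3 := relIndex_mul_index hle
  rw [h1, index_eq_card (yGrp z c)] at h3
  have h4 : 6 ≤ CY.index := Nat.le_of_dvd (Nat.pos_of_ne_zero Subgroup.index_ne_zero_of_finite) h2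
  rw [← h3]
  calc 6 * 9196830720 = 9196830720 * 6 := mul_comm _ _
    _ ≤ 9196830720 * CY.index := Nat.mul_le_mul_left _ h4

end Model

end Cfsg.Agent.FiTwentyThreeByTwo
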