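import Cfsg.Agent.Lib.FiTwentyThreeByTwo.Core
import Cfsg.Agent.Lib.ThreeTransp.U62Cent.Coord

/-!
# The quotient of the centraliser of the four-group by it: coordinates on the core
-/

set_option autoImplicit false
set_option linter.unusedSectionVars false
set_option linter.style.haveILetI false

namespace Cfsg.Agent.FiTwentyThreeByTwo

open Subgroup Cfsg.Agent.ThreeTransp.U62Cent Cfsg.Agent.FiTwentyTwoByTwo

universe u' v w

variable {G : Type u'} [Group G] [Finite G] {z c : G} {S : Type v} [Group S]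

instance yGrp_cent_normal (z c : G) :
    ((yGrp z c).subgroupOf (centralizer (yGrp z c : Set G))).Normal :=
  ⟨fun n hn g => mem_subgroupOf.2 (by
    simp only [coe_mul, InvMemClass.coe_inv]
    rw [← mem_centralizer_iff.1 g.2 _ (mem_subgroupOf.1 hn), mul_inv_cancel_right]
    exact mem_subgroupOf.1 hn)⟩

/-- the quotient of the centraliser of the four-group by it -/
abbrev QY (z c : G) : Type u' :=
  ↥(centralizer (yGrp z c : Set G)) ⧸ (yGrp z c).subgroupOf (centralizer (yGrp z c : Set G))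

/-- the projection -/
abbrev prY (z c : G) : ↥(centralizer (yGrp z c : Set G)) →* QY z c :=
  QuotientGroup.mk' ((yGrp z c).subgroupOf (centralizer (yGrp z c : Set G)))

namespace Setup

variable (D : Setup z c)

include D

theorem prY_eq {a b : ↥(centralizer (yGrp z c : Set G))} :
    prY z c a = prY z c b ↔ (a : G)⁻¹ * b ∈ yGrp z c := by
  rw [prY, QuotientGroup.mk'_apply, QuotientGroup.mk'_apply, QuotientGroup.eq, mem_subgroupOf]
  simp

/-- the image of `z` -/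
noncomputable def zY : QY z c := prY z c ⟨z, (mem_inf.1 (D.A_le_cY D.z_A)).2⟩

theorem zY_eq {g : G} (hg : g ∈ centralizer (yGrp z c : Set G))
    (h : prY z c ⟨g, hg⟩ = D.zY) : ∃ y ∈ yGrp z c, g = z * y := by
  refine ⟨z⁻¹ * g, ?_, (mul_inv_cancel_left z g).symm⟩
  exact D.prY_eq.1 h.symm

theorem zY_ne : D.zY ≠ 1 := fun h => D.z_not_Y (by
  rw [zY, ← map_one (prY z c)] at h
  simpa using D.prY_eq.1 h.symm)

theorem zY_orderOf : orderOf D.zY = 2 := by
  refine orderOf_eq_prime ?_ D.zY_ne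
  rw [pow_two, zY, ← map_mul, show (⟨z, (mem_inf.1 (D.A_le_cY D.z_A)).2⟩ :
    ↥(centralizer (yGrp z c : Set G))) * ⟨z, (mem_inf.1 (D.A_le_cY D.z_A)).2⟩ = 1 from Subtype.ext D.zz,
    map_one]

theorem rhoY_mem (x : ↥(cY z c)) :
    prY z c ⟨x, (mem_inf.1 x.2).2⟩ ∈ centralizer ({D.zY} : Set (QY z c)) := by
  refine mem_cent.2 ?_
  show prY z c _ * D.zY = D.zY * prY z c _
  rw [zY, ← map_mul, ← map_mul]
  exact congrArg _ (Subtype.ext (D.mem_cY.1 x.2).1.eq)

/-- the map onto the centraliser of the image of `z` -/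
noncomputable def rhoY : ↥(cY z c) →* ↥(centralizer ({D.zY} : Set (QY z c))) where
  toFun x := ⟨prY z c ⟨x, (mem_inf.1 x.2).2⟩, D.rhoY_mem x⟩
  map_one' := Subtype.ext (map_one (prY z c))
  map_mul' a b := Subtype.ext (map_mul (prY z c) ⟨a, (mem_inf.1 a.2).2⟩ ⟨b, (mem_inf.1 b.2).2⟩)

theorem rhoY_eq_one {x : ↥(cY z c)} : D.rhoY x = 1 ↔ (x : G) ∈ yGrp z c := by
  rw [← Subtype.coe_inj]
  show prY z c _ = 1 ↔ _
  rw [QuotientGroup.mk'_apply, QuotientGroup.eq_one_iff, mem_subgroupOf]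

theorem rhoY_surj (T : Top z c S) : Function.Surjective D.rhoY := by
  rintro ⟨q, hq⟩
  obtain ⟨⟨g, hg⟩, rfl⟩ := QuotientGroup.mk'_surjective _ q
  have hzC := (mem_inf.1 (D.A_le_cY D.z_A)).2
  have hgz : g * z * g⁻¹ ∈ centralizer (yGrp z c : Set G) := mul_mem (mul_mem hg hzC) (inv_mem hg)
  have h1 : prY z c ⟨g * z * g⁻¹, hgz⟩ = D.zY := by
    show prY z c (⟨g, hg⟩ * ⟨z, hzC⟩ * (⟨g, hg⟩ : ↥(centralizer (yGrp z c : Set G)))⁻¹) = _
    rw [map_mul, map_mul, map_inv, show prY z c ⟨z, hzC⟩ = D.zY from rfl, (mem_cent.1 hq).eq,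
      mul_inv_cancel_right]
  obtain ⟨y, hy, e⟩ := D.zY_eq hgz h1
  have hgc : Commute g z := by
    refine mul_inv_eq_iff_eq_mul.1 ?_
    by_cases hy1 : y = 1
    · rw [e, hy1, mul_one]
    · exact D.conj_eq T (D.Y_le hy) hy1 (Or.inr e)
  exact ⟨⟨g, mem_inf.2 ⟨mem_cent.2 hgc, hg⟩⟩, rfl⟩

/-- the centraliser of the four-group induces the simple group -/
theorem hom_Y (T : Top z c S) : ∃ ψ : ↥(cY z c) →* S, Function.Surjective ψ ∧
    ∀ x, ψ x = 1 ↔ (x : G) ∈ O2c z := by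
  haveI := T.simple
  haveI : Finite (MulAut S) := Nat.finite_of_card_ne_zero (by rw [T.card_aut]; norm_num)
  obtain ⟨y, hy, h1⟩ := D.exists_y
  obtain ⟨φ, hφ, hk⟩ := D.hom_y T hy h1
  have hle : cY z c ≤ cH z y := fun x hx =>
    FiTwentyTwoByTwo.mem_cH.2 ⟨(D.mem_cY.1 hx).1, (D.mem_cY.1 hx).2 y hy⟩
  obtain ⟨s, hsz, hsy, hsc⟩ := D.exists_swap hy h1
  have hcy1 : c * y * c⁻¹ ≠ 1 := fun e => h1 (by simpa using e)
  have hidx : ((cY z c).subgroupOf (cH z y)).index = 2 := by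
    refine index_eq_two_iff.2 ⟨⟨s, FiTwentyTwoByTwo.mem_cH.2 ⟨hsz, hsy⟩⟩, fun d => ?_⟩
    simp only [mem_subgroupOf, coe_mul]
    obtain ⟨hdz, hdy⟩ := FiTwentyTwoByTwo.mem_cH.1 d.2
    have hds : (d : G) * s * (c * y * c⁻¹) * ((d : G) * s)⁻¹ =
        y * ((d : G) * (c * y * c⁻¹) * (d : G)⁻¹) := by
      calc (d : G) * s * (c * y * c⁻¹) * ((d : G) * s)⁻¹
          = (d : G) * (s * (c * y * c⁻¹) * s⁻¹) * (d : G)⁻¹ := by group
        _ = ((d : G) * y * (d : G)⁻¹) * ((d : G) * (c * y * c⁻¹) * (d : G)⁻¹) := by rw [hsc]; group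
        _ = _ := by rw [hdy.eq, mul_inv_cancel_right]
    have key : ∀ h : G, Commute h z → Commute h y → h * (c * y * c⁻¹) * h⁻¹ = c * y * c⁻¹ → h ∈ cY z c := by
      intro h hz' hy' he
      refine D.mem_cY.2 ⟨hz', fun x hx => mul_inv_eq_iff_eq_mul.1 ?_⟩
      rcases D.Y_cases hy h1 hx with rfl | rfl | rfl | rfl
      · group
      · rw [hy'.eq, mul_inv_cancel_right]
      · exact he
      · rw [D.ccy_eq hy h1,
          show h * (y * (c * y * c⁻¹)) * h⁻¹ = (h * y * h⁻¹) * (h * (c * y * c⁻¹) * h⁻¹) by group,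
          hy'.eq, mul_inv_cancel_right, he]
    have hnot : ∀ h : G, h * (c * y * c⁻¹) * h⁻¹ = y * (c * y * c⁻¹) → h ∉ cY z c := by
      intro h he hh
      rw [((D.mem_cY.1 hh).2 _ (D.c_Y hy)).eq, mul_inv_cancel_right] at he
      exact h1 (mul_eq_right.1 he.symm)
    have hm := D.Y_conj hdz (D.c_Y hy)
    rcases D.Y_cases hy h1 hm with e | e | e | e
    · exact absurd (conj_eq_one_iff.1 e) hcy1
    · refine absurd ?_ (D.cy_ne hy h1)
      calc c * y * c⁻¹ = (d : G)⁻¹ * ((d : G) * (c * y * c⁻¹) * (d : G)⁻¹) * d := by group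
        _ = (d : G)⁻¹ * (y * d) := by rw [e]; group
        _ = y := by rw [← hdy.eq, inv_mul_cancel_left]
    · refine Or.inr ⟨key _ hdz hdy e, hnot _ ?_⟩
      rw [hds, e]
    · refine Or.inl ⟨key _ (hdz.mul_left hsz) (hdy.mul_left hsy) ?_, hnot _ ?_⟩
      · rw [hds, e, D.ccy_eq hy h1, ← mul_assoc, D.Y_sq hy, one_mul]
      · rw [e, D.ccy_eq hy h1]
  set cj : S →* MulAut S := MulAut.conj with hcj
  set A0 := ((cY z c).subgroupOf (cH z y)).map φ with hA0
  have hker : φ.ker ≤ (cY z c).subgroupOf (cH z y) := fun d hd =>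
    mem_subgroupOf.2 (D.J_le_cY ((hk d).1 hd))
  have hA2 : A0.index = 2 := by rw [hA0, index_map_eq _ hφ hker, hidx]
  have hcardN : Nat.card ↥cj.range = 25920 := by
    rw [← Nat.card_congr (MonoidHom.ofInjective T.inj).toEquiv, T.card]
  have hle' : cj.range ≤ A0 := by
    haveI : Nontrivial ↥cj.range := (MonoidHom.ofInjective T.inj).symm.toEquiv.nontrivial
    haveI : IsSimpleGroup ↥cj.range :=
      IsSimpleGroup.isSimpleGroup_of_surjective cj.rangeRestrict cj.rangeRestrict_surjective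
    haveI : A0.Normal := normal_of_index_eq_two hA2
    rcases (Normal.subgroupOf (inferInstance : A0.Normal) cj.range).eq_bot_or_eq_top with h | h
    · exfalso
      have h1 : (A0.subgroupOf cj.range).index ∣ A0.index := relIndex_dvd_index_of_normal A0 cj.range
      rw [h, index_bot, hcardN, hA2] at h1
      norm_num at h1
    · exact subgroupOf_eq_top.1 h
  have heq : A0 = cj.range := by
    refine (eq_of_le_of_card_ge hle' ?_).symm
    have e1 := A0.card_mul_index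
    rw [hA2, T.card_aut] at e1
    rw [hcardN]
    omega
  have hmem : ∀ x, φ (inclusion hle x) ∈ cj.range := fun x =>
    heq ▸ mem_map_of_mem φ (mem_subgroupOf.2 x.2)
  refine ⟨(MonoidHom.ofInjective T.inj).symm.toMonoidHom.comp
    ((φ.comp (inclusion hle)).codRestrict cj.range hmem), fun t => ?_, fun x => ?_⟩
  · have ht : cj t ∈ A0 := heq.symm ▸ ⟨t, rfl⟩
    obtain ⟨d, hd, e⟩ := ht
    exact ⟨⟨d, mem_subgroupOf.1 hd⟩, (MonoidHom.ofInjective T.inj).symm_apply_eq.2 (Subtype.ext e)⟩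
  · show (MonoidHom.ofInjective T.inj).symm _ = 1 ↔ _
    rw [map_eq_one_iff _ (MonoidHom.ofInjective T.inj).symm.injective, ← Subtype.coe_inj]
    exact hk (inclusion hle x)

theorem rhoY_mem_pCore (T : Top z c S) {x : ↥(cY z c)} :
    D.rhoY x ∈ Cfsg.pCore 2 ↥(centralizer ({D.zY} : Set (QY z c))) ↔ (x : G) ∈ O2c z := by
  haveI : Fact (Nat.Prime 2) := ⟨Nat.prime_two⟩
  constructor
  · intro h
    obtain ⟨ψ, hψ, hk⟩ := D.hom_Y T
    haveI := T.simple
    haveI : Finite S := Nat.finite_of_card_ne_zero (by rw [T.card]; norm_num)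
    set N := (Cfsg.pCore 2 ↥(centralizer ({D.zY} : Set (QY z c)))).comap D.rhoY with hN
    haveI hNn : N.Normal := Normal.comap inferInstance D.rhoY
    have hk1 : IsPGroup 2 ↥D.rhoY.ker := fun a => ⟨1, by
      refine Subtype.ext (Subtype.ext ?_)
      show ((a : ↥(cY z c)) : G) ^ 2 ^ 1 = 1
      rw [pow_one, pow_two]
      exact D.Y_sq (D.rhoY_eq_one.1 a.2)⟩
    have hp : IsPGroup 2 ↥N := (Cfsg.Agent.Cores.pCore_isPGroup 2).comap_of_ker_isPGroup _ hk1
    haveI : (N.map ψ).Normal := Normal.map hNn ψ hψ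
    rcases (inferInstance : (N.map ψ).Normal).eq_bot_or_eq_top with e | e
    · have hx : ψ x ∈ N.map ψ := mem_map_of_mem ψ (show x ∈ N from h)
      rw [e, mem_bot] at hx
      exact (hk x).1 hx
    · exfalso
      obtain ⟨k, hk'⟩ := IsPGroup.iff_card.1 (hp.map ψ)
      rw [e, card_top, T.card] at hk'
      have h2 : 3 ∣ 2 ^ k := hk' ▸ (by norm_num)
      exact absurd (Nat.prime_three.dvd_of_dvd_pow h2) (by norm_num)
  · intro h
    haveI hJn : ((O2c z).subgroupOf (cY z c)).Normal := ⟨fun n hn g => mem_subgroupOf.2 (by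
      simp only [coe_mul, InvMemClass.coe_inv]
      exact conj_O2c (D.mem_cY.1 g.2).1 (mem_subgroupOf.1 hn))⟩
    have hle : (O2c z).subgroupOf (cY z c) ≤ Cfsg.pCore 2 ↥(cY z c) :=
      Cfsg.Agent.Cores.le_pCore (D.J_pgroup.of_equiv (subgroupOfEquivOfLe D.J_le_cY).symm)
    exact Cfsg.Agent.Cores.map_pCore_le (D.rhoY_surj T) 2 (mem_map_of_mem _ (hle (mem_subgroupOf.2 h)))

theorem mem_O2c_zY (T : Top z c S) {q : QY z c} :
    q ∈ O2c D.zY ↔ ∃ x : ↥(centralizer (yGrp z c : Set G)), (x : G) ∈ O2c z ∧ prY z c x = q := by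
  constructor
  · rintro ⟨y, hy, rfl⟩
    obtain ⟨x, rfl⟩ := D.rhoY_surj T y
    exact ⟨_, (D.rhoY_mem_pCore T).1 hy, rfl⟩
  · rintro ⟨x, hx, rfl⟩
    exact ⟨_, (D.rhoY_mem_pCore T (x := ⟨x, D.J_le_cY hx⟩)).2 hx, rfl⟩

theorem extra_zY (T : Top z c S) :
    Cfsg.IsExtraspecial 2 ↥(Cfsg.pCore 2 ↥(centralizer ({D.zY} : Set (QY z c)))) ∧
    Nat.card ↥(Cfsg.pCore 2 ↥(centralizer ({D.zY} : Set (QY z c)))) = 2 ^ 9 := by
  obtain ⟨E, hE, hEx, hEc, hzE, hdec⟩ := D.compl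
  let f : ↥E →* ↥(Cfsg.pCore 2 ↥(centralizer ({D.zY} : Set (QY z c)))) :=
    { toFun := fun x => ⟨D.rhoY ⟨x, D.J_le_cY (hE x.2)⟩, (D.rhoY_mem_pCore T).2 (hE x.2)⟩
      map_one' := Subtype.ext (map_one D.rhoY)
      map_mul' := fun a b =>
        Subtype.ext (map_mul D.rhoY ⟨a, D.J_le_cY (hE a.2)⟩ ⟨b, D.J_le_cY (hE b.2)⟩) }
  have hb : Function.Bijective f := by
    refine ⟨(injective_iff_map_eq_one f).2 fun x hx => ?_, ?_⟩
    · have hY : (x : G) ∈ yGrp z c := D.rhoY_eq_one.1 (congrArg Subtype.val hx)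
      have hc : x ∈ center ↥E := mem_center_iff.2 fun e =>
        Subtype.ext (D.A_comm_J (D.Y_le hY) (hE e.2)).eq.symm
      have hzc : (⟨z, hzE⟩ : ↥E) ∈ center ↥E := mem_center_iff.2 fun e =>
        Subtype.ext (commute_of_O2c (hE e.2)).eq
      by_contra hne
      have hle : ({1, ⟨z, hzE⟩, x} : Set ↥E) ⊆ (center ↥E : Set ↥E) := by
        rintro w (rfl | rfl | rfl)
        exacts [one_mem _, hzc, hc]
      have hxz : (x : G) ≠ z := fun e => D.z_not_Y (e ▸ hY)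
      have h4 := Set.ncard_le_ncard hle (Set.toFinite _)
      rw [Set.ncard_insert_of_notMem (by
          rintro (h | h)
          exacts [D.z_ne (congrArg Subtype.val h).symm, hne (Eq.symm h)]) (Set.toFinite _),
        Set.ncard_pair (fun h => hxz (congrArg Subtype.val h).symm), ← Nat.card_coe_set_eq] at h4
      have h5 := hEx.2
      exact absurd (h4.trans h5.le) (by norm_num)
    · rintro ⟨q, hq⟩
      obtain ⟨⟨x, hx⟩, rfl⟩ := D.rhoY_surj T q
      have hxJ : x ∈ O2c z := (D.rhoY_mem_pCore T).1 hq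
      obtain ⟨a, ha, hax⟩ := hdec x hxJ
      rcases D.A_cases ha with e | e
      · refine ⟨⟨a * x, hax⟩, Subtype.ext (Subtype.ext ?_)⟩
        refine D.prY_eq.2 ?_
        show (a * x)⁻¹ * x ∈ yGrp z c
        rw [_root_.mul_inv_rev, mul_assoc, ← (D.A_comm_J ha hxJ).inv_left.eq.symm, inv_mul_cancel_left]
        exact inv_mem e
      · refine ⟨⟨z * (a * x), mul_mem hzE hax⟩, Subtype.ext (Subtype.ext ?_)⟩
        refine D.prY_eq.2 ?_
        show (z * (a * x))⁻¹ * x ∈ yGrp z c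
        rw [← mul_assoc, _root_.mul_inv_rev, mul_assoc,
          ← (D.A_comm_J (mul_mem D.z_A ha) hxJ).inv_left.eq.symm, inv_mul_cancel_left]
        exact inv_mem e
  exact ⟨Cfsg.Agent.LargeExtra.isExtraspecial_of_equiv hEx (MulEquiv.ofBijective f hb), by
    rw [← Nat.card_congr (MulEquiv.ofBijective f hb).toEquiv, hEc]; norm_num⟩

theorem cent_zY (T : Top z c S) :
    centralizer ((Cfsg.pCore 2 ↥(centralizer ({D.zY} : Set (QY z c)))) :
      Set ↥(centralizer ({D.zY} : Set (QY z c)))) ≤ Cfsg.pCore 2 ↥(centralizer ({D.zY} : Set (QY z c))) := by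
  haveI : Fact (Nat.Prime 2) := ⟨Nat.prime_two⟩
  haveI : Fact (Nat.Prime 3) := ⟨Nat.prime_three⟩
  haveI := T.simple
  haveI : Finite S := Nat.finite_of_card_ne_zero (by rw [T.card]; norm_num)
  intro y hy
  obtain ⟨x, rfl⟩ := D.rhoY_surj T y
  refine (D.rhoY_mem_pCore T).2 ?_
  obtain ⟨ψ, hψ, hk⟩ := D.hom_Y T
  set N := (centralizer ((Cfsg.pCore 2 ↥(centralizer ({D.zY} : Set (QY z c)))) :
      Set ↥(centralizer ({D.zY} : Set (QY z c))))).comap D.rhoY with hN
  haveI : N.Normal := Normal.comap inferInstance D.rhoY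
  have hsq : ∀ n ∈ N, ψ n * ψ n = 1 := by
    intro n hn
    rw [← map_mul]
    refine (hk _).2 (D.cent _ fun j hj => mul_inv_eq_iff_eq_mul.1 ?_)
    have e := mem_centralizer_iff.1 (show D.rhoY n ∈ _ from hn) _
      ((D.rhoY_mem_pCore T (x := ⟨j, D.J_le_cY hj⟩)).2 hj)
    rw [← map_mul, ← map_mul] at e
    have e' : ((j * (n : G))⁻¹ * ((n : G) * j)) ∈ yGrp z c := D.prY_eq.1 (congrArg Subtype.val e)
    set a := (j * (n : G))⁻¹ * ((n : G) * j) with ha
    have e1 : (n : G) * j * (n : G)⁻¹ = j * a := by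
      have hna : (n : G) * a = a * n := ((D.mem_cY.1 n.2).2 a e').eq
      calc (n : G) * j * (n : G)⁻¹ = j * ((n : G) * a) * (n : G)⁻¹ := by rw [ha]; group
        _ = _ := by rw [hna]; group
    show (n : G) * n * j * ((n : G) * n)⁻¹ = j
    calc (n : G) * n * j * ((n : G) * n)⁻¹ = (n : G) * ((n : G) * j * (n : G)⁻¹) * (n : G)⁻¹ := by group
      _ = ((n : G) * j * (n : G)⁻¹) * ((n : G) * a * (n : G)⁻¹) := by
        conv_lhs => rw [e1]
        group
      _ = j := by rw [e1, ((D.mem_cY.1 n.2).2 a e').eq, mul_inv_cancel_right, mul_assoc, D.Y_sq e', mul_one]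
  haveI : (N.map ψ).Normal := Normal.map inferInstance ψ hψ
  rcases (inferInstance : (N.map ψ).Normal).eq_bot_or_eq_top with e | e
  · have hx : ψ x ∈ N.map ψ := mem_map_of_mem ψ (show x ∈ N from hy)
    rw [e, mem_bot] at hx
    exact (hk x).1 hx
  · exfalso
    obtain ⟨t, ht⟩ := exists_prime_orderOf_dvd_card' (G := S) 3 (by rw [T.card]; norm_num)
    obtain ⟨n, hn, rfl⟩ := (e ▸ mem_top t : t ∈ N.map ψ)
    have h2 : orderOf (ψ n) ∣ 2 := orderOf_dvd_of_pow_eq_one (by rw [pow_two]; exact hsq n hn)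
    rw [ht] at h2
    norm_num at h2

theorem quot_zY (T : Top z c S) :
    Nonempty ((↥(centralizer ({D.zY} : Set (QY z c))) ⧸
      Cfsg.pCore 2 ↥(centralizer ({D.zY} : Set (QY z c)))) ≃* S) := by
  obtain ⟨ψ, hψ, hk⟩ := D.hom_Y T
  let χ := (QuotientGroup.mk' (Cfsg.pCore 2 ↥(centralizer ({D.zY} : Set (QY z c))))).comp D.rhoY
  have hχ : Function.Surjective χ := (QuotientGroup.mk'_surjective _).comp (D.rhoY_surj T)
  have hker : χ.ker = ψ.ker := by
    ext x
    rw [MonoidHom.mem_ker, MonoidHom.mem_ker, hk, ← D.rhoY_mem_pCore T, MonoidHom.comp_apply,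
      QuotientGroup.mk'_apply, QuotientGroup.eq_one_iff]
  exact ⟨(QuotientGroup.quotientKerEquivOfSurjective χ hχ).symm.trans
    ((QuotientGroup.quotientMulEquivOfEq hker).trans (QuotientGroup.quotientKerEquivOfSurjective ψ hψ))⟩

end Setup

end Cfsg.Agent.FiTwentyThreeByTwo
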