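import Cfsg.Agent.Lib.FiTwentyTwoByTwo.Quot

/-!
# The quotient of `C(u)` by a central involution `u` of the core, with little assumed on the core
-/

set_option autoImplicit false
set_option linter.unusedSectionVars false
set_option linter.style.haveILetI false

namespace Cfsg.Agent.FiTwentyThreeByTwo

open Subgroup Cfsg.Agent.ThreeTransp.U62Cent
open Cfsg.Agent.FiTwentyTwoByTwo (QU pr conj_O2c TI oCore cH mem_cH)

universe u'

variable {G : Type u'} [Group G]

/-- What the passage to `C(u)/⟨u⟩` needs. -/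
structure QHyp (z u : G) : Prop where
  zz : z * z = 1
  z_ne : z ≠ 1
  uu : u * u = 1
  u_ne_one : u ≠ 1
  u_ne : u ≠ z
  comm_zu : Commute z u
  z_mem : z ∈ O2c z
  u_mem : u ∈ O2c z
  u_cent : ∀ j ∈ O2c z, Commute j u
  J_pgroup : IsPGroup 2 ↥(O2c z)
  le_J : ∀ {P : Subgroup G}, P ≤ cH z u → (∀ h ∈ cH z u, ∀ p ∈ P, h * p * h⁻¹ ∈ P) → IsPGroup 2 ↥P →
    P ≤ O2c z
  cent : ∀ c, (∀ j ∈ O2c z, Commute c j) → c ∈ O2c z
  not_conj : ∀ g, Commute g u → g * z * g⁻¹ ≠ z * u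

variable [Finite G] {z u : G}

namespace QHyp

variable (F : QHyp z u)

include F

theorem J_le_cH : O2c z ≤ cH z u := fun _ hx => mem_cH.2 ⟨commute_of_O2c hx, F.u_cent _ hx⟩

theorem z_mem_cH : z ∈ cH z u := F.J_le_cH F.z_mem

/-- the image of `z` -/
noncomputable def zX : QU u := pr u ⟨z, (mem_inf.1 F.z_mem_cH).2⟩

theorem pr_eq_one {c : ↥(centralizer ({u} : Set G))} : pr u c = 1 ↔ (c : G) = 1 ∨ (c : G) = u := by
  rw [QuotientGroup.mk'_apply, QuotientGroup.eq_one_iff, mem_subgroupOf]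
  constructor
  · intro h
    obtain ⟨k, hk⟩ := mem_zpowers_iff.1 h
    rcases Int.even_or_odd k with ⟨m, rfl⟩ | ⟨m, rfl⟩
    · left
      rw [← hk, zpow_add, ← (Commute.refl u).mul_zpow, F.uu, one_zpow]
    · right
      rw [← hk, zpow_add, zpow_mul, zpow_one, zpow_two, F.uu, one_zpow, one_mul]
  · rintro (h | h) <;> rw [h]
    exacts [one_mem _, mem_zpowers u]

theorem pr_eq {c d : ↥(centralizer ({u} : Set G))} : pr u c = pr u d ↔ (d : G) = c ∨ (d : G) = c * u := by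
  rw [show pr u c = pr u d ↔ pr u (c⁻¹ * d) = 1 by rw [map_mul, map_inv, inv_mul_eq_one], F.pr_eq_one]
  simp only [coe_mul, InvMemClass.coe_inv, inv_mul_eq_iff_eq_mul, mul_one]

theorem zX_ne : F.zX ≠ 1 := fun e => by
  rcases F.pr_eq_one.1 e with h | h
  exacts [F.z_ne h, F.u_ne h.symm]

theorem zX_orderOf : orderOf F.zX = 2 := by
  refine orderOf_eq_prime ?_ F.zX_ne
  rw [pow_two, zX, ← map_mul, show (⟨z, (mem_inf.1 F.z_mem_cH).2⟩ : ↥(centralizer ({u} : Set G))) *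
    ⟨z, (mem_inf.1 F.z_mem_cH).2⟩ = 1 from Subtype.ext F.zz, map_one]

theorem rho_mem (c : ↥(cH z u)) : pr u ⟨c, (mem_inf.1 c.2).2⟩ ∈ centralizer ({F.zX} : Set (QU u)) := by
  refine mem_cent.2 ?_
  show pr u _ * F.zX = F.zX * pr u _
  rw [zX, ← map_mul, ← map_mul]
  exact congrArg _ (Subtype.ext (mem_cH.1 c.2).1.eq)

/-- `C(z) ∩ C(u)` onto the centraliser of the image of `z` -/
noncomputable def rho : ↥(cH z u) →* ↥(centralizer ({F.zX} : Set (QU u))) where
  toFun c := ⟨pr u ⟨c, (mem_inf.1 c.2).2⟩, F.rho_mem c⟩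
  map_one' := Subtype.ext (map_one (pr u))
  map_mul' a b := Subtype.ext (map_mul (pr u) ⟨a, (mem_inf.1 a.2).2⟩ ⟨b, (mem_inf.1 b.2).2⟩)

theorem rho_apply (c : ↥(cH z u)) : ((F.rho c : ↥(centralizer ({F.zX} : Set (QU u)))) : QU u) =
    pr u ⟨c, (mem_inf.1 c.2).2⟩ := rfl

theorem mem_cent_zX {c : ↥(centralizer ({u} : Set G))} (h : pr u c ∈ centralizer ({F.zX} : Set (QU u))) :
    (c : G) ∈ cH z u := by
  have hu : Commute (c : G) u := mem_cent.1 c.2
  refine mem_cH.2 ⟨?_, hu⟩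
  have h1 : pr u c * F.zX * (pr u c)⁻¹ = F.zX := by rw [(mem_cent.1 h).eq, mul_inv_cancel_right]
  rw [zX, ← map_inv, ← map_mul, ← map_mul] at h1
  rcases F.pr_eq.1 h1 with e | e <;> simp only [coe_mul, InvMemClass.coe_inv] at e
  · exact mul_inv_eq_iff_eq_mul.1 e.symm
  · exfalso
    refine F.not_conj (c : G) hu ?_
    calc (c : G) * z * (c : G)⁻¹ = (c : G) * z * (c : G)⁻¹ * u * u := by rw [mul_assoc _ u u, F.uu, mul_one]
      _ = z * u := by rw [← e]

theorem rho_surj : Function.Surjective F.rho := by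
  rintro ⟨y, hy⟩
  obtain ⟨c, rfl⟩ := QuotientGroup.mk'_surjective _ y
  exact ⟨⟨c, F.mem_cent_zX hy⟩, rfl⟩

theorem rho_eq_one {c : ↥(cH z u)} : F.rho c = 1 ↔ (c : G) = 1 ∨ (c : G) = u := by
  rw [← Subtype.coe_inj, rho_apply, coe_one, F.pr_eq_one]

/-- The 2-core of the centraliser in the quotient is the image of the core. -/
theorem rho_mem_pCore {c : ↥(cH z u)} :
    F.rho c ∈ Cfsg.pCore 2 ↥(centralizer ({F.zX} : Set (QU u))) ↔ (c : G) ∈ O2c z := by
  haveI : Fact (Nat.Prime 2) := ⟨Nat.prime_two⟩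
  constructor
  · intro h
    set N := (Cfsg.pCore 2 ↥(centralizer ({F.zX} : Set (QU u)))).comap F.rho with hN
    haveI : (Cfsg.pCore 2 ↥(centralizer ({F.zX} : Set (QU u)))).Normal := inferInstance
    haveI hNn : N.Normal := Normal.comap inferInstance F.rho
    have hk : IsPGroup 2 ↥F.rho.ker := fun x => ⟨1, by
      refine Subtype.ext (Subtype.ext ?_)
      show ((x : ↥(cH z u)) : G) ^ 2 ^ 1 = 1
      rw [pow_one, pow_two]
      rcases F.rho_eq_one.1 x.2 with e | e <;> rw [e]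
      exacts [one_mul 1, F.uu]⟩
    have hp : IsPGroup 2 ↥N := (Cfsg.Agent.Cores.pCore_isPGroup 2).comap_of_ker_isPGroup _ hk
    refine F.le_J (P := N.map (cH z u).subtype) (map_subtype_le _) ?_ (hp.map _) ⟨c, h, rfl⟩
    rintro h hh _ ⟨n, hn, rfl⟩
    exact ⟨_, hNn.conj_mem n hn ⟨h, hh⟩, rfl⟩
  · intro h
    haveI hJn : ((O2c z).subgroupOf (cH z u)).Normal := ⟨fun n hn g => mem_subgroupOf.2 (by
      simp only [coe_mul, InvMemClass.coe_inv]
      exact conj_O2c (mem_cH.1 g.2).1 (mem_subgroupOf.1 hn))⟩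
    have hle : (O2c z).subgroupOf (cH z u) ≤ Cfsg.pCore 2 ↥(cH z u) :=
      Cfsg.Agent.Cores.le_pCore (F.J_pgroup.of_equiv (subgroupOfEquivOfLe F.J_le_cH).symm)
    exact Cfsg.Agent.Cores.map_pCore_le F.rho_surj 2 (mem_map_of_mem _ (hle (mem_subgroupOf.2 h)))

theorem mem_O2c_zX {y : QU u} :
    y ∈ O2c F.zX ↔ ∃ c : ↥(centralizer ({u} : Set G)), (c : G) ∈ O2c z ∧ pr u c = y := by
  constructor
  · rintro ⟨y, hy, rfl⟩
    obtain ⟨c, rfl⟩ := F.rho_surj y
    exact ⟨_, F.rho_mem_pCore.1 hy, rfl⟩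
  · rintro ⟨c, hc, rfl⟩
    exact ⟨_, (F.rho_mem_pCore (c := ⟨c, F.J_le_cH hc⟩)).2 hc, rfl⟩

/-- The centraliser of the core of the quotient lies in it. -/
theorem cent_zX :
    centralizer ((Cfsg.pCore 2 ↥(centralizer ({F.zX} : Set (QU u)))) :
      Set ↥(centralizer ({F.zX} : Set (QU u)))) ≤ Cfsg.pCore 2 ↥(centralizer ({F.zX} : Set (QU u))) := by
  intro y hy
  obtain ⟨⟨c, hc⟩, rfl⟩ := F.rho_surj y
  refine F.rho_mem_pCore.2 ?_
  haveI : Fact (Nat.Prime 2) := ⟨Nat.prime_two⟩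
  -- the elements acting trivially on the core modulo `u` form a normal 2-subgroup
  set K : Subgroup G :=
    { carrier := {g | g ∈ cH z u ∧ ∀ j ∈ O2c z, g * j * g⁻¹ = j ∨ g * j * g⁻¹ = j * u}
      one_mem' := ⟨one_mem _, fun j _ => Or.inl (by group)⟩
      mul_mem' := by
        rintro a b ⟨ha, ha'⟩ ⟨hb, hb'⟩
        refine ⟨mul_mem ha hb, fun j hj => ?_⟩
        have hau : a * u * a⁻¹ = u := mul_inv_eq_iff_eq_mul.2 (mem_cH.1 ha).2.eq
        rw [show a * b * j * (a * b)⁻¹ = a * (b * j * b⁻¹) * a⁻¹ by group]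
        rcases hb' j hj with e | e <;> rw [e]
        · exact ha' j hj
        · rw [show a * (j * u) * a⁻¹ = a * j * a⁻¹ * (a * u * a⁻¹) by group, hau]
          rcases ha' j hj with e' | e' <;> rw [e']
          · exact Or.inr rfl
          · exact Or.inl (by rw [mul_assoc, F.uu, mul_one])
      inv_mem' := by
        rintro a ⟨ha, ha'⟩
        refine ⟨inv_mem ha, fun j hj => ?_⟩
        have hau : a⁻¹ * u * a = u := by rw [mul_assoc, ← (mem_cH.1 ha).2.eq, inv_mul_cancel_left]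
        rw [inv_inv]
        rcases ha' j hj with e | e
        · exact Or.inl (by conv_lhs => rw [← e]
                           group)
        · refine Or.inr ?_
          have h1 : a⁻¹ * (j * u) * a = a⁻¹ * j * a * (a⁻¹ * u * a) := by group
          rw [← e, hau] at h1
          rw [show a⁻¹ * (a * j * a⁻¹) * a = j by group] at h1
          calc a⁻¹ * j * a = a⁻¹ * j * a * (u * u) := by rw [F.uu, mul_one]
            _ = j * u := by rw [← mul_assoc, ← h1] } with hK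
  have hKJ : K ≤ O2c z := by
    refine F.le_J (fun g hg => hg.1) (fun h hh g hg => ⟨mul_mem (mul_mem hh hg.1) (inv_mem hh),
      fun j hj => ?_⟩) fun g => ?_
    · have hhu : h * u * h⁻¹ = u := mul_inv_eq_iff_eq_mul.2 (mem_cH.1 hh).2.eq
      have hj' : h⁻¹ * j * h ∈ O2c z := by
        have := conj_O2c (mem_cH.1 hh).1.inv_left hj
        rwa [inv_inv] at this
      rw [show h * g * h⁻¹ * j * (h * g * h⁻¹)⁻¹ = h * (g * (h⁻¹ * j * h) * g⁻¹) * h⁻¹ by group]
      rcases hg.2 _ hj' with e | e <;> rw [e]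
      · exact Or.inl (by group)
      · exact Or.inr (by rw [show h * (h⁻¹ * j * h * u) * h⁻¹ = j * (h * u * h⁻¹) by group, hhu])
    · have hsq : (g : G) * g ∈ O2c z := F.cent _ (fun j hj => by
        have hgu : (g : G) * u * (g : G)⁻¹ = u := mul_inv_eq_iff_eq_mul.2 (mem_cH.1 g.2.1).2.eq
        refine mul_inv_eq_iff_eq_mul.1 ?_
        rw [show (g : G) * g * j * ((g : G) * g)⁻¹ = g * (g * j * (g : G)⁻¹) * (g : G)⁻¹ by group]
        rcases g.2.2 j hj with e | e <;> rw [e]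
        · exact e
        · rw [show (g : G) * (j * u) * (g : G)⁻¹ = g * j * (g : G)⁻¹ * (g * u * (g : G)⁻¹) by group,
            hgu, e, mul_assoc, F.uu, mul_one])
      obtain ⟨k, hk⟩ := F.J_pgroup ⟨_, hsq⟩
      refine ⟨k + 1, Subtype.ext ?_⟩
      have hk' : ((g : G) * g) ^ 2 ^ k = 1 := congrArg Subtype.val hk
      simp only [SubmonoidClass.coe_pow, OneMemClass.coe_one]
      rw [pow_succ', pow_mul, pow_two, hk']
  refine hKJ ⟨hc, fun j hj => ?_⟩
  have e := mem_centralizer_iff.1 hy _ ((F.rho_mem_pCore (c := ⟨j, F.J_le_cH hj⟩)).2 hj)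
  rw [← map_mul, ← map_mul] at e
  rcases F.pr_eq.1 (congrArg Subtype.val e) with h | h <;>
    simp only [coe_mul] at h
  · exact Or.inl (by rw [h]; group)
  · refine Or.inr ?_
    rw [h, mul_assoc j c u, (mem_cH.1 hc).2.eq, ← mul_assoc]; group

theorem quot_iso {S : Type*} [Group S] (φ : ↥(cH z u) →* S) (hφ : Function.Surjective φ)
    (hk : ∀ c, φ c = 1 ↔ (c : G) ∈ O2c z) :
    Nonempty ((↥(centralizer ({F.zX} : Set (QU u))) ⧸ Cfsg.pCore 2 ↥(centralizer ({F.zX} : Set (QU u)))) ≃* S) := by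
  let χ := (QuotientGroup.mk' (Cfsg.pCore 2 ↥(centralizer ({F.zX} : Set (QU u))))).comp F.rho
  have hχ : Function.Surjective χ := (QuotientGroup.mk'_surjective _).comp F.rho_surj
  have hker : χ.ker = φ.ker := by
    ext c
    rw [MonoidHom.mem_ker, MonoidHom.mem_ker, hk, ← F.rho_mem_pCore, MonoidHom.comp_apply,
      QuotientGroup.mk'_apply, QuotientGroup.eq_one_iff]
  exact ⟨(QuotientGroup.quotientKerEquivOfSurjective χ hχ).symm.trans
    ((QuotientGroup.quotientMulEquivOfEq hker).trans (QuotientGroup.quotientKerEquivOfSurjective φ hφ))⟩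

/-- If `zX` is of the first type in the quotient, so is `u`. -/
theorem TI_of_quot (h : centralizer ({F.zX} : Set (QU u)) ⊔ Cfsg.oddCore (QU u) = ⊤) : TI z u := by
  haveI : Fact (Nat.Prime 2) := ⟨Nat.prime_two⟩
  intro c hc
  have hmem : pr u ⟨c, mem_cent.2 hc⟩ ∈ centralizer ({F.zX} : Set (QU u)) ⊔ Cfsg.oddCore (QU u) := by
    rw [h]; exact mem_top _
  obtain ⟨y, hy, o, ho, hyo⟩ := mem_sup_of_normal_right.1 hmem
  obtain ⟨k, rfl⟩ := QuotientGroup.mk'_surjective _ y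
  obtain ⟨o1, rfl⟩ := QuotientGroup.mk'_surjective _ o
  have hk : (k : G) ∈ cH z u := F.mem_cent_zX hy
  -- lifting the odd core
  set O := Cfsg.oddCore ↥(centralizer ({u} : Set G)) with hO
  set π := QuotientGroup.mk' O with hπ
  set D := ((zpowers u).subgroupOf (centralizer ({u} : Set G))).map π with hD
  haveI : D.Normal := Normal.map inferInstance π (QuotientGroup.mk'_surjective O)
  have hDc : D ≤ Subgroup.center (↥(centralizer ({u} : Set G)) ⧸ O) := by
    rintro _ ⟨n, hn, rfl⟩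
    refine mem_center_iff.2 fun w => ?_
    obtain ⟨w, rfl⟩ := QuotientGroup.mk'_surjective O w
    rw [← map_mul, ← map_mul]
    obtain ⟨i, hi⟩ := mem_zpowers_iff.1 (mem_subgroupOf.1 hn)
    refine congrArg π (Subtype.ext ?_)
    show (w : G) * (n : G) = (n : G) * (w : G)
    rw [← hi]
    exact ((mem_cent.1 w.2).zpow_right i).eq
  have hNp : IsPGroup 2 ↥((zpowers u).subgroupOf (centralizer ({u} : Set G))) := fun x => ⟨1, by
    refine Subtype.ext (Subtype.ext ?_)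
    show ((x : ↥(centralizer ({u} : Set G))) : G) ^ 2 ^ 1 = 1
    rw [pow_one, pow_two]
    rcases F.pr_eq_one.1 ((QuotientGroup.eq_one_iff _).2 x.2) with e | e <;> rw [e]
    exacts [one_mul 1, F.uu]⟩
  have hbot := Cfsg.Agent.ZStar.CentralWeaklyClosed.oddCore_quotient_central
    InvChar.Core.oddCore_quotient_oddCore_eq_bot D hDc (hNp.map π)
  let χ : QU u →* (↥(centralizer ({u} : Set G)) ⧸ O) ⧸ D := QuotientGroup.lift ((zpowers u).subgroupOf (centralizer ({u} : Set G))) ((QuotientGroup.mk' D).comp π) fun n hn =>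
    (QuotientGroup.eq_one_iff _).2 (mem_map_of_mem π hn)
  have hχ : Function.Surjective χ := fun y => by
    obtain ⟨y, rfl⟩ := QuotientGroup.mk'_surjective D y
    obtain ⟨w, rfl⟩ := QuotientGroup.mk'_surjective O y
    exact ⟨pr u w, rfl⟩
  have h1 : χ (pr u o1) = 1 := by
    have := Cfsg.Agent.Cores.map_pPrimeCore_le hχ 2 (mem_map_of_mem χ ho)
    rw [show Cfsg.pPrimeCore 2 ((↥(centralizer ({u} : Set G)) ⧸ O) ⧸ D) = ⊥ from hbot, mem_bot] at this
    exact this
  obtain ⟨n, hn, hno⟩ := (QuotientGroup.eq_one_iff _).1 (show QuotientGroup.mk' D (π o1) = 1 from h1)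
  have ho' : n⁻¹ * o1 ∈ O := (QuotientGroup.eq (s := O)).1 hno
  have hpn : pr u o1 = pr u (n⁻¹ * o1) := by
    rw [map_mul, map_inv, show pr u n = 1 from (QuotientGroup.eq_one_iff _).2 hn, inv_one, one_mul]
  rw [hpn, ← map_mul] at hyo
  have hin : (((n⁻¹ * o1 : ↥(centralizer ({u} : Set G)))) : G) ∈ oCore u := ⟨_, ho', rfl⟩
  obtain ⟨hkz, hku⟩ := mem_cH.1 hk
  rcases F.pr_eq.1 hyo with e | e
  · exact ⟨k, _, hkz, hku, hin, e⟩
  · refine ⟨(k : G) * u, _, hkz.mul_left F.comm_zu.symm, hku.mul_left (Commute.refl u), hin, e.trans ?_⟩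
    have hou : Commute (((n⁻¹ * o1 : ↥(centralizer ({u} : Set G)))) : G) u := mem_cent.1 (n⁻¹ * o1).2
    show (k : G) * ((n⁻¹ * o1 : ↥(centralizer ({u} : Set G))) : G) * u = (k : G) * u * ((n⁻¹ * o1 : ↥(centralizer ({u} : Set G))) : G)
    rw [mul_assoc, hou.eq, ← mul_assoc]

end QHyp

end Cfsg.Agent.FiTwentyThreeByTwo
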