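import Cfsg.Agent.Lib.FiTwentyThreeByTwo.Core
import Cfsg.Agent.Lib.FiTwentyThreeByTwo.TypesQuot

/-!
# For `x` in the centre of the core outside `⟨z⟩`, the frame on `C(x)/⟨x⟩`
-/

set_option autoImplicit false
set_option linter.unusedSectionVars false
set_option linter.style.haveILetI false

namespace Cfsg.Agent.FiTwentyThreeByTwo

open Subgroup Cfsg.Agent.ThreeTransp.U62Cent Cfsg.Agent.FiTwentyTwoByTwo

universe u' v

variable {G : Type u'} [Group G] [Finite G] {z c : G} {S : Type v} [Group S]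

namespace Setup

variable (D : Setup z c) (T : Top z c S)

include D T

theorem qhyp {x : G} (hx : x ∈ zA z) (h1 : x ≠ 1) (hz : x ≠ z) : QHyp z x where
  zz := D.zz
  z_ne := D.z_ne
  uu := D.A_sq x hx
  u_ne_one := h1
  u_ne := hz
  comm_zu := (D.A_comm_z hx).symm
  z_mem := D.z_mem
  u_mem := D.A_le hx
  u_cent _ hj := (D.A_comm_J hx hj).symm
  J_pgroup := D.J_pgroup
  le_J hP hn h2 := D.two_le T hx h1 hz hP hn h2
  cent := D.cent
  not_conj g hg e := by
    have h := D.conj_eq T hx h1 (g := g) (Or.inr e)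
    rw [h] at e
    exact h1 (left_eq_mul.1 e)

omit T in
/-- three independent elements give the whole centre of the core -/
theorem A_span {x u : G} (hx : x ∈ zA z) (h1 : x ≠ 1) (hz : x ≠ z) (hu : u ∈ zA z)
    (hu' : u ∉ ({1, z, x, z * x} : Set G)) {a : G} (ha : a ∈ zA z) :
    a ∈ ({1, z, x, z * x} : Set G) ∨ u * a ∈ ({1, z, x, z * x} : Set G) := by
  classical
  set B : Set G := {1, z, x, z * x} with hB
  by_contra hne
  push Not at hne
  have hxi := D.A_inv hx
  have hui := D.A_inv hu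
  have hBA : B ⊆ (zA z : Set G) := by
    rintro w (rfl | rfl | rfl | rfl)
    exacts [one_mem _, D.z_A, hx, mul_mem D.z_A hx]
  have hmul : ∀ v ∈ B, ∀ w ∈ B, v * w ∈ B := by
    have hc : x * z = z * x := (D.A_comm_z hx).eq
    have h1' : x * (z * x) = z := by rw [← mul_assoc, hc, mul_assoc, D.A_sq x hx, mul_one]
    have h2' : z * (z * x) = x := by rw [← mul_assoc, D.zz, one_mul]
    have h3' : z * x * z = x := by rw [mul_assoc, hc, h2']
    have h4' : z * x * (z * x) = 1 := by rw [mul_assoc, h1', D.zz]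
    intro v hv w hw
    simp only [hB, Set.mem_insert_iff, Set.mem_singleton_iff] at hv hw ⊢
    rcases hv with e | e | e | e <;> rcases hw with f | f | f | f <;> rw [e, f] <;>
      simp [D.zz, D.A_sq x hx, hc, h1', h2', h3', h4', mul_assoc z x x]
  have hd : Disjoint B ((u * ·) '' B) := by
    refine Set.disjoint_left.2 ?_
    rintro w hw ⟨b, hb, rfl⟩
    have := hmul _ hw b hb
    rw [mul_assoc, D.A_sq b (hBA hb), mul_one] at this
    exact hu' this
  have hcard : B.ncard = 4 := by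
    rw [hB, Set.ncard_insert_of_notMem, Set.ncard_insert_of_notMem, Set.ncard_insert_of_notMem,
      Set.ncard_singleton]
    · simp only [Set.mem_singleton_iff]
      exact fun e => D.z_ne (right_eq_mul.1 e)
    · simp only [Set.mem_insert_iff, Set.mem_singleton_iff, not_or]
      exact ⟨hz.symm, fun e => h1 (left_eq_mul.1 e)⟩
    · simp only [Set.mem_insert_iff, Set.mem_singleton_iff, not_or]
      exact ⟨D.z_ne.symm, h1.symm, fun e => hz (by rw [← inv_eq_of_mul_eq_one_right e.symm, D.z_inv])⟩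
  have hsub : insert a (B ∪ (u * ·) '' B) ⊆ (zA z : Set G) := by
    rintro w (rfl | hw | ⟨b, hb, rfl⟩)
    exacts [ha, hBA hw, mul_mem hu (hBA hb)]
  have hna : a ∉ B ∪ (u * ·) '' B := by
    rintro (h | ⟨b, hb, rfl⟩)
    · exact hne.1 h
    · exact hne.2 (by rwa [← mul_assoc, D.A_sq u hu, one_mul])
  have := Set.ncard_le_ncard hsub (Set.toFinite _)
  rw [Set.ncard_insert_of_notMem hna (Set.toFinite _), Set.ncard_union_eq hd (Set.toFinite _) (Set.toFinite _),
    Set.ncard_image_of_injective _ (mul_right_injective u), hcard, ← Nat.card_coe_set_eq (zA z : Set G),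
    show Nat.card ↥((zA z : Set G)) = 8 from D.card_A] at this
  omega

/-- the frame on the quotient -/
theorem frame_quot {x u : G} (hx : x ∈ zA z) (h1 : x ≠ 1) (hz : x ≠ z) (hu : u ∈ zA z)
    (hu' : u ∉ ({1, z, x, z * x} : Set G)) :
    Frame (D.qhyp T hx h1 hz).zX (pr x ⟨u, mem_cent.2 (D.A_comm hu hx)⟩) := by
  haveI : Fact (Nat.Prime 2) := ⟨Nat.prime_two⟩
  set Q := D.qhyp T hx h1 hz with hQ
  simp only [Set.mem_insert_iff, Set.mem_singleton_iff, not_or] at hu'
  obtain ⟨hu1, huz, hux, huzx⟩ := hu'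
  have hxz : x * z = z * x := (D.A_comm_z hx).eq
  -- lifting
  have lift : ∀ {y : QU x}, y ∈ O2c Q.zX → ∃ j : ↥(centralizer ({x} : Set G)),
      (j : G) ∈ O2c z ∧ pr x j = y := fun hy => Q.mem_O2c_zX.1 hy
  have hpr : ∀ {a : G} (ha : a ∈ centralizer ({x} : Set G)), (a = 1 ∨ a = x) → pr x ⟨a, ha⟩ = 1 :=
    fun _ h => Q.pr_eq_one.2 h
  have zmul : ∀ {a : G} (ha : a ∈ centralizer ({x} : Set G)) {b : G} (hb : b ∈ centralizer ({x} : Set G)),
      a = z * b ∨ a = z * b * x → pr x ⟨a, ha⟩ = Q.zX * pr x ⟨b, hb⟩ := by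
    intro a ha b hb h
    rw [QHyp.zX, ← map_mul]
    exact (Q.pr_eq.2 h).symm
  refine ⟨?_, Q.zX_ne, ?_, ?_, ?_, ?_, ?_, ?_, ?_, ?_, ?_, ?_, ?_, ?_⟩
  · rw [← pow_two, ← Q.zX_orderOf, pow_orderOf_eq_one]
  · rw [← map_mul]; exact hpr _ (Or.inl (D.A_sq u hu))
  · exact fun e => (Q.pr_eq_one.1 e).elim hu1 hux
  · intro e
    rcases Q.pr_eq.1 e with h | h
    · exact huz h.symm
    · exact huzx (by
        have h' : z = u * x := h
        rw [h', mul_assoc, D.A_sq x hx, mul_one])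
  · exact Q.mem_O2c_zX.2 ⟨_, D.z_mem, rfl⟩
  · exact Q.mem_O2c_zX.2 ⟨_, D.A_le hu, rfl⟩
  · intro y hy
    obtain ⟨j, hj, rfl⟩ := lift hy
    show pr x j * pr x _ = pr x _ * pr x j
    rw [← map_mul, ← map_mul]
    exact congrArg _ (Subtype.ext (D.A_comm_J hu hj).eq.symm)
  · -- order
    let f : ↥(O2c z) →* ↥(O2c Q.zX) :=
      { toFun := fun j => ⟨pr x ⟨j, mem_cent.2 (Q.u_cent j j.2)⟩, Q.mem_O2c_zX.2 ⟨_, j.2, rfl⟩⟩
        map_one' := Subtype.ext (map_one (pr x))
        map_mul' := fun a b => Subtype.ext (map_mul (pr x) ⟨a, mem_cent.2 (Q.u_cent a a.2)⟩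
          ⟨b, mem_cent.2 (Q.u_cent b b.2)⟩) }
    have hf : Function.Surjective f := by
      rintro ⟨y, hy⟩
      obtain ⟨j, hj, rfl⟩ := lift hy
      exact ⟨⟨j, hj⟩, rfl⟩
    have hk : f.ker = zpowers ⟨x, D.A_le hx⟩ := by
      ext ⟨j, hj⟩
      rw [MonoidHom.mem_ker, mem_zpowers_iff]
      constructor
      · intro h
        rcases Q.pr_eq_one.1 (congrArg Subtype.val h) with e | e
        · exact ⟨0, Subtype.ext (by simpa using e.symm)⟩
        · exact ⟨1, Subtype.ext (by simpa using e.symm)⟩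
      · rintro ⟨k, hk⟩
        rw [← hk, map_zpow, show f ⟨x, D.A_le hx⟩ = 1 from Subtype.ext (hpr _ (Or.inr rfl)), one_zpow]
    have h2 : orderOf (⟨x, D.A_le hx⟩ : ↥(O2c z)) = 2 := by
      rw [Subgroup.orderOf_mk]
      exact orderOf_eq_prime (by rw [pow_two, D.A_sq x hx]) h1
    have h := f.ker.card_eq_card_quotient_mul_card_subgroup
    rw [Nat.card_congr (QuotientGroup.quotientKerEquivOfSurjective f hf).toEquiv, hk, Nat.card_zpowers,
      h2, D.card] at h
    omega
  · -- the centre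
    intro y hy hc
    obtain ⟨⟨a, hac⟩, ha, rfl⟩ := lift hy
    have haA : a ∈ zA z := by
      refine D.mem_A.2 fun j hj => ?_
      have e := hc _ (Q.mem_O2c_zX.2 ⟨⟨j, mem_cent.2 (Q.u_cent j hj)⟩, hj, rfl⟩)
      rw [Commute, SemiconjBy, ← map_mul, ← map_mul] at e
      rcases Q.pr_eq.1 e with h | h <;> simp only [coe_mul] at h
      · exact h.symm
      · rcases D.comm j hj a ha with h' | h'
        · exact h'.symm
        · rw [h, show z * (a * j) = a * j * z from
            ((commute_of_O2c ha).mul_left (commute_of_O2c hj)).eq.symm] at h'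
          exact absurd (mul_left_cancel h') hz
    have hA : ∀ {b : G} (hb : b ∈ centralizer ({x} : Set G)), b ∈ ({1, z, x, z * x} : Set G) →
        pr x ⟨b, hb⟩ = 1 ∨ pr x ⟨b, hb⟩ = Q.zX := by
      rintro b hb (rfl | rfl | rfl | rfl)
      · exact Or.inl (hpr hb (Or.inl rfl))
      · exact Or.inr rfl
      · exact Or.inl (hpr hb (Or.inr rfl))
      · exact Or.inr (Q.pr_eq.2 (Or.inr rfl)).symm
    rcases D.A_span hx h1 hz hu (by simp [hu1, huz, hux, huzx]) haA with h | h
    · rcases hA hac h with e | e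
      · exact Or.inl e
      · exact Or.inr (Or.inl e)
    · have hmem : u * a ∈ centralizer ({x} : Set G) :=
        mul_mem (mem_cent.2 (D.A_comm hu hx)) hac
      have e2 : pr x ⟨a, hac⟩ = pr x ⟨u, mem_cent.2 (D.A_comm hu hx)⟩ * pr x ⟨u * a, hmem⟩ := by
        rw [← map_mul]
        exact congrArg _ (Subtype.ext (show a = u * (u * a) by rw [← mul_assoc, D.A_sq u hu, one_mul]))
      rcases hA hmem h with e | e
      · exact Or.inr (Or.inr (Or.inl (by rw [e2, e, mul_one])))
      · exact Or.inr (Or.inr (Or.inr (by rw [e2, e])))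
  · intro y hy
    obtain ⟨⟨j, hjc⟩, hj, rfl⟩ := lift hy
    rw [← map_mul]
    rcases D.sq j hj with h | h
    · exact Or.inl (hpr _ (Or.inl h))
    · exact Or.inr (congrArg _ (Subtype.ext h))
  · intro y hy w hw
    obtain ⟨⟨j, hjc⟩, hj, rfl⟩ := lift hy
    obtain ⟨⟨k, hkc⟩, hk, rfl⟩ := lift hw
    rw [← map_mul, ← map_mul]
    rcases D.comm j hj k hk with h | h
    · exact Or.inl (congrArg _ (Subtype.ext h))
    · exact Or.inr (zmul (mul_mem hjc hkc) (mul_mem hkc hjc) (Or.inl h))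
  · intro y hy
    have hyz : y ∈ centralizer ({Q.zX} : Set (QU x)) :=
      mem_cent.2 (hy _ (Q.mem_O2c_zX.2 ⟨_, D.z_mem, rfl⟩))
    refine ⟨⟨y, hyz⟩, Q.cent_zX (mem_centralizer_iff.2 fun w hw => Subtype.ext ?_), rfl⟩
    exact (hy _ ⟨w, hw, rfl⟩).eq.symm
  · -- the complement
    obtain ⟨E, hE, hEx, hEc, hzE, hdec⟩ := D.compl
    haveI : Finite ↥(center ↥E) := inferInstance
    have hcent : ∀ e ∈ E, (∀ f ∈ E, Commute e f) → e = 1 ∨ e = z := by
      intro e he hc
      by_contra hne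
      push Not at hne
      have hzc : (⟨z, hzE⟩ : ↥E) ∈ center ↥E := mem_center_iff.2 fun f => Subtype.ext
        (commute_of_O2c (hE f.2)).eq
      have hec : (⟨e, he⟩ : ↥E) ∈ center ↥E := mem_center_iff.2 fun f => Subtype.ext (hc f f.2).eq.symm
      have hle : ({1, ⟨z, hzE⟩, ⟨e, he⟩} : Set ↥E) ⊆ (center ↥E : Set ↥E) := by
        rintro w (rfl | rfl | rfl)
        exacts [one_mem _, hzc, hec]
      have h3 : ({1, ⟨z, hzE⟩, ⟨e, he⟩} : Set ↥E).ncard = 3 := by
        rw [Set.ncard_insert_of_notMem, Set.ncard_insert_of_notMem, Set.ncard_singleton]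
        · simp only [Set.mem_singleton_iff, Subtype.mk.injEq]; exact fun h => hne.2 h.symm
        · simp only [Set.mem_insert_iff, Set.mem_singleton_iff, Subtype.ext_iff, OneMemClass.coe_one, not_or]
          exact ⟨D.z_ne.symm, Ne.symm hne.1⟩
      have h4 := Set.ncard_le_ncard hle (Set.toFinite _)
      rw [h3, ← Nat.card_coe_set_eq] at h4
      have h5 := hEx.2
      exact absurd (h4.trans h5.le) (by norm_num)
    have hA : ∀ a ∈ zA z, a ∈ E → a = 1 ∨ a = z := fun a ha haE =>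
      hcent a haE fun f hf => D.A_comm_J ha (hE hf)
    let f : ↥E →* QU x :=
      { toFun := fun e => pr x ⟨e, mem_cent.2 (Q.u_cent e (hE e.2))⟩
        map_one' := map_one (pr x)
        map_mul' := fun a b => map_mul (pr x) ⟨a, mem_cent.2 (Q.u_cent a (hE a.2))⟩
          ⟨b, mem_cent.2 (Q.u_cent b (hE b.2))⟩ }
    have hf : Function.Injective f := (injective_iff_map_eq_one f).2 fun e he => by
      rcases Q.pr_eq_one.1 he with h | h
      · exact Subtype.ext h
      · rcases hA x hx ((show (e : G) = x from h) ▸ e.2) with h' | h'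
        exacts [absurd h' h1, absurd h' hz]
    refine ⟨f.range, ?_, Cfsg.Agent.LargeExtra.isExtraspecial_of_equiv hEx (MonoidHom.ofInjective hf),
      by rw [← Nat.card_congr (MonoidHom.ofInjective hf).toEquiv, hEc],
      ⟨⟨z, hzE⟩, rfl⟩, ?_, fun y hy => ?_⟩
    · rintro _ ⟨e, rfl⟩
      exact Q.mem_O2c_zX.2 ⟨_, hE e.2, rfl⟩
    · rintro ⟨e, he⟩
      rcases Q.pr_eq.1 he with h | h <;> simp only at h
      · rcases hA u hu (h ▸ e.2) with h' | h'
        exacts [hu1 h', huz h']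
      · have he' : (e : G) = u * x := by rw [h, mul_assoc, D.A_sq x hx, mul_one]
        rcases hA (u * x) (mul_mem hu hx) (he' ▸ e.2) with h' | h'
        · exact hux (by rw [← D.A_inv hu, inv_eq_of_mul_eq_one_right h'])
        · exact huzx (by rw [← h', mul_assoc, D.A_sq x hx, mul_one])
    · obtain ⟨⟨j, hjc⟩, hj, rfl⟩ := lift hy
      obtain ⟨a, ha, hajE⟩ := hdec j hj
      have key : ∀ {b : G}, b ∈ ({1, z, x, z * x} : Set G) → ∀ {w : G} (hw : w ∈ centralizer ({x} : Set G)),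
          b * w ∈ E → pr x ⟨w, hw⟩ ∈ f.range := by
        intro b hb w hw hbE
        simp only [Set.mem_insert_iff, Set.mem_singleton_iff] at hb
        rcases hb with e | e | e | e <;> rw [e] at hbE
        · exact ⟨⟨_, hbE⟩, congrArg (pr x) (Subtype.ext (one_mul w))⟩
        · refine ⟨⟨_, mul_mem hzE hbE⟩, congrArg (pr x) (Subtype.ext ?_)⟩
          show z * (z * w) = w
          rw [← mul_assoc, D.zz, one_mul]
        · exact ⟨⟨_, hbE⟩, (Q.pr_eq.2 (Or.inr (mem_cent.1 hw).eq.symm)).symm⟩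
        · refine ⟨⟨_, mul_mem hzE hbE⟩, (Q.pr_eq.2 (Or.inr ?_)).symm⟩
          show z * (z * x * w) = w * x
          rw [mul_assoc z x w, ← mul_assoc, D.zz, one_mul, (mem_cent.1 hw).eq]
      rcases D.A_span hx h1 hz hu (by simp [hu1, huz, hux, huzx]) ha with h | h
      · exact Or.inl (key h hjc hajE)
      · refine Or.inr ?_
        rw [← map_mul]
        refine key h (mul_mem (mem_cent.2 (D.A_comm hu hx)) hjc) ?_
        rw [show u * a * (u * j) = u * u * (a * j) by
          rw [← mul_assoc, ← mul_assoc, mul_assoc u a u, ← (D.A_comm hu ha).eq, ← mul_assoc],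
          D.A_sq u hu, one_mul]
        exact hajE

/-- the quotient of the centraliser in the quotient by its core -/
theorem quot_aut {x : G} (hx : x ∈ zA z) (h1 : x ≠ 1) (hz : x ≠ z) :
    Nonempty ((↥(centralizer ({(D.qhyp T hx h1 hz).zX} : Set (QU x))) ⧸
      Cfsg.pCore 2 ↥(centralizer ({(D.qhyp T hx h1 hz).zX} : Set (QU x)))) ≃* MulAut S) := by
  obtain ⟨y, hy, hy1, -, e⟩ := D.exists_rep hx h1 hz
  obtain ⟨ψ, hψ, hk⟩ := D.hom_y T hy hy1
  refine (D.qhyp T hx h1 hz).quot_iso (ψ.comp (MulEquiv.subgroupCongr e).toMonoidHom)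
    (hψ.comp (MulEquiv.subgroupCongr e).surjective) fun h => ?_
  rw [MonoidHom.comp_apply, hk]
  rfl

end Setup

end Cfsg.Agent.FiTwentyThreeByTwo
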